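/-
Fixed points of an automorphism of a group with a Bruhat decomposition, and (B,N)-pairs of the
groups generated by fixed points.
-/
import Cfsg.Agent.Lib.Chev.BNC

set_option autoImplicit false

namespace CfsgLib.Tw

open CfsgLib.Chev

variable (A : Type*) [Group A]

/-- A group with Bruhat decomposition and a map preserving it. -/
structure Base where
  G : Subgroup A
  U : Subgroup A
  V : Subgroup A
  H : Subgroup A
  N : Subgroup A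
  s : A → A
  s_mul : ∀ a ∈ G, ∀ b ∈ G, s (a * b) = s a * s b
  U_le : U ≤ G
  V_le : V ≤ G
  H_le : H ≤ G
  N_le : N ≤ G
  s_U : ∀ u ∈ U, s u ∈ U
  s_V : ∀ u ∈ V, s u ∈ V
  s_H : ∀ u ∈ H, s u ∈ H
  s_N : ∀ u ∈ N, s u ∈ N
  H_le_N : H ≤ N
  H_N : ∀ n ∈ N, ∀ h ∈ H, n * h * n⁻¹ ∈ H
  H_U : ∀ h ∈ H, ∀ u ∈ U, h * u * h⁻¹ ∈ U
  H_V : ∀ h ∈ H, ∀ u ∈ V, h * u * h⁻¹ ∈ V
  U_H : ∀ u ∈ U, u ∈ H → u = 1
  U_V : ∀ u ∈ U, u ∈ V → u = 1
  U_VH : ∀ u ∈ U, ∀ v ∈ V, ∀ h ∈ H, u = v * h → u = 1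
  V_H : ∀ u ∈ V, u ∈ H → u = 1
  U_N : ∀ u ∈ U, u ∈ N → u = 1
  bruhat : ∀ g ∈ G, ∃ a ∈ U, ∃ n ∈ N, ∃ c ∈ U, g = a * n * c ∧ n * c * n⁻¹ ∈ V
  cell : ∀ n ∈ N, ∀ n' ∈ N, ∀ a ∈ U, ∀ c ∈ U, a * n * c = n' → n⁻¹ * n' ∈ H
  split : ∀ n ∈ N, ∀ u ∈ U, ∃ u₀ ∈ U, ∃ u₁ ∈ U, u = u₀ * u₁ ∧ n * u₀ * n⁻¹ ∈ V ∧ n * u₁ * n⁻¹ ∈ U

namespace Base

variable {A}
variable (S : Base A)

lemma s_one : S.s 1 = 1 := by
  have h := S.s_mul 1 (one_mem _) 1 (one_mem _)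
  rw [mul_one] at h
  exact (mul_eq_left.1 h.symm)

lemma s_inv {a : A} (ha : a ∈ S.G) : S.s a⁻¹ = (S.s a)⁻¹ := by
  have h := S.s_mul a ha a⁻¹ (inv_mem ha)
  rw [mul_inv_cancel, S.s_one] at h
  exact (inv_eq_of_mul_eq_one_right h.symm).symm

/-- The fixed points. -/
def Fx : Subgroup A where
  carrier := {g | g ∈ S.G ∧ S.s g = g}
  mul_mem' := by
    rintro a b ⟨h1, h2⟩ ⟨h3, h4⟩
    exact ⟨mul_mem h1 h3, by rw [S.s_mul a h1 b h3, h2, h4]⟩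
  one_mem' := ⟨one_mem _, S.s_one⟩
  inv_mem' := by
    rintro a ⟨h1, h2⟩
    exact ⟨inv_mem h1, by rw [S.s_inv h1, h2]⟩

lemma mem_Fx {g : A} : g ∈ S.Fx ↔ g ∈ S.G ∧ S.s g = g := Iff.rfl

/-- The subgroup of `U` of the elements sent by `n` into `V`. -/
def Un (n : A) : Subgroup A := S.U ⊓ S.V.comap (MulAut.conj n).toMonoidHom

lemma mem_Un {n u : A} : u ∈ S.Un n ↔ u ∈ S.U ∧ n * u * n⁻¹ ∈ S.V := Iff.rfl

/-- The Borel subgroup. -/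
def B : Subgroup A := S.U ⊔ S.H

lemma H_mem_normalizer : S.H ≤ Subgroup.normalizer (S.U : Set A) := by
  intro h hh
  rw [Subgroup.mem_normalizer_iff]
  intro u
  constructor
  · intro hu
    exact S.H_U h hh u hu
  · intro hu
    have := S.H_U h⁻¹ (inv_mem hh) _ hu
    have e : h⁻¹ * (h * u * h⁻¹) * h⁻¹⁻¹ = u := by group
    rwa [e] at this

lemma mem_B {b : A} : b ∈ S.B ↔ ∃ u ∈ S.U, ∃ h ∈ S.H, b = u * h := by
  unfold B
  rw [mem_sup_of_le_normalizer S.H_mem_normalizer]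

lemma B_le : S.B ≤ S.G := sup_le S.U_le S.H_le

/-- The uniqueness of the canonical form. -/
theorem canonical_unique {a a' n n' c c' : A} (ha : a ∈ S.U) (ha' : a' ∈ S.U) (hn : n ∈ S.N) (hn' : n' ∈ S.N)
    (hc : c ∈ S.U) (hc' : c' ∈ S.U) (hv : n * c * n⁻¹ ∈ S.V) (hv' : n' * c' * n'⁻¹ ∈ S.V)
    (e : a * n * c = a' * n' * c') : a = a' ∧ n = n' ∧ c = c' := by
  have h1 : n⁻¹ * n' ∈ S.H := by
    apply S.cell n hn n' hn' (a'⁻¹ * a) (mul_mem (inv_mem ha') ha) (c * c'⁻¹) (mul_mem hc (inv_mem hc'))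
    have : a'⁻¹ * a * n * (c * c'⁻¹) = a'⁻¹ * (a * n * c) * c'⁻¹ := by group
    rw [this, e]
    group
  set h := n⁻¹ * n' with hh
  have hn'' : n' = n * h := by rw [hh]; group
  set v := h * c' * h⁻¹ with hvdef
  have hvU : v ∈ S.U := S.H_U h h1 c' hc'
  have hvV : n * v * n⁻¹ ∈ S.V := by
    have e2 : n * v * n⁻¹ = n' * c' * n'⁻¹ := by
      rw [hn'', hvdef]
      group
    rwa [e2]
  have hnh : n * h * n⁻¹ ∈ S.H := S.H_N n hn h h1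
  have e3 : a'⁻¹ * a = (n * v * n⁻¹) * ((n * h * n⁻¹) * (n * c⁻¹ * n⁻¹)) := by
    have e4 : a * n * c = a' * (n * h) * c' := by rw [← hn'']; exact e
    have e5 : a = a' * (n * h) * c' * c⁻¹ * n⁻¹ := by
      rw [← e4]
      group
    rw [hvdef]
    conv_lhs => rw [e5]
    group
  have hinvV : n * c⁻¹ * n⁻¹ ∈ S.V := by
    have : n * c⁻¹ * n⁻¹ = (n * c * n⁻¹)⁻¹ := by group
    rw [this]
    exact inv_mem hv
  have e6 : (n * h * n⁻¹) * (n * c⁻¹ * n⁻¹) = ((n * h * n⁻¹) * (n * c⁻¹ * n⁻¹) * (n * h * n⁻¹)⁻¹) * (n * h * n⁻¹) := by group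
  have h7 : a'⁻¹ * a = 1 := by
    apply S.U_VH _ (mul_mem (inv_mem ha') ha) ((n * v * n⁻¹) * ((n * h * n⁻¹) * (n * c⁻¹ * n⁻¹) * (n * h * n⁻¹)⁻¹))
      (mul_mem hvV (S.H_V _ hnh _ hinvV)) (n * h * n⁻¹) hnh
    rw [e3, e6]
    group
  have h8 : a = a' := (inv_mul_eq_one.1 h7).symm
  rw [h7] at e3
  have h9 : v * h * c⁻¹ = 1 := by
    have : n * (v * h * c⁻¹) * n⁻¹ = 1 := by
      rw [e3]
      group
    have h10 : n⁻¹ * (n * (v * h * c⁻¹) * n⁻¹) * n = v * h * c⁻¹ := by group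
    rw [← h10, this]
    group
  have h11 : h = v⁻¹ * c := by
    have : v * h = c := by
      have := mul_inv_eq_one.1 h9
      exact this
    rw [← this]
    group
  have h12 : h = 1 := S.U_H h (by rw [h11]; exact mul_mem (inv_mem hvU) hc) h1
  refine ⟨h8, by rw [hn'', h12, mul_one], ?_⟩
  rw [h12] at h9 hvdef
  have e7 : v = c' := by rw [hvdef]; group
  rw [e7, mul_one] at h9
  exact (mul_inv_eq_one.1 h9).symm

/-- The canonical form of a fixed point. -/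
theorem canonical_fixed {g : A} (hg : g ∈ S.Fx) :
    ∃ a ∈ S.U ⊓ S.Fx, ∃ n ∈ S.N ⊓ S.Fx, ∃ c ∈ S.U ⊓ S.Fx, g = a * n * c ∧ n * c * n⁻¹ ∈ S.V := by
  obtain ⟨a, ha, n, hn, c, hc, e, hv⟩ := S.bruhat g hg.1
  have ha' := S.U_le ha
  have hn' := S.N_le hn
  have hc' := S.U_le hc
  have e2 : S.s a * S.s n * S.s c = a * n * c := by
    rw [← S.s_mul a ha' n hn', ← S.s_mul _ (mul_mem ha' hn') c hc', ← e, hg.2]
  have hv2 : S.s n * S.s c * (S.s n)⁻¹ ∈ S.V := by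
    rw [← S.s_mul n hn' c hc', ← S.s_inv hn', ← S.s_mul _ (mul_mem hn' hc') _ (inv_mem hn')]
    exact S.s_V _ hv
  obtain ⟨h1, h2, h3⟩ := S.canonical_unique (S.s_U a ha) ha (S.s_N n hn) hn (S.s_U c hc) hc hv2 hv e2
  exact ⟨a, ⟨ha, ha', h1⟩, n, ⟨hn, hn', h2⟩, c, ⟨hc, hc', h3⟩, e, hv⟩

/-- Fixed points of a `U`-factorisation with respect to a fixed element of `N`. -/
theorem split_fixed {w u : A} (hw : w ∈ S.N ⊓ S.Fx) (hu : u ∈ S.U ⊓ S.Fx) :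
    ∃ y ∈ S.U ⊓ S.Fx, ∃ x ∈ S.U ⊓ S.Fx, u = y * x ∧ w * y * w⁻¹ ∈ S.U ∧ w * x * w⁻¹ ∈ S.V := by
  obtain ⟨u₀, h0, u₁, h1, e, h2, h3⟩ := S.split w hw.1 u⁻¹ (inv_mem hu.1)
  have e' : u = u₁⁻¹ * u₀⁻¹ := by
    have : u = (u₀ * u₁)⁻¹ := by rw [← e, inv_inv]
    rw [this, mul_inv_rev]
  have hG := S.U_le
  have hwG : w ∈ S.G := S.N_le hw.1
  have hs : ∀ z ∈ S.G, S.s (w * z * w⁻¹) = w * S.s z * w⁻¹ := by
    intro z hz
    rw [S.s_mul _ (mul_mem hwG hz) _ (inv_mem hwG), S.s_mul _ hwG _ hz, S.s_inv hwG, hw.2.2]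
  have hy : w * u₁⁻¹ * w⁻¹ ∈ S.U := by
    have : w * u₁⁻¹ * w⁻¹ = (w * u₁ * w⁻¹)⁻¹ := by group
    rw [this]
    exact inv_mem h3
  have hx : w * u₀⁻¹ * w⁻¹ ∈ S.V := by
    have : w * u₀⁻¹ * w⁻¹ = (w * u₀ * w⁻¹)⁻¹ := by group
    rw [this]
    exact inv_mem h2
  have hyU : u₁⁻¹ ∈ S.U := inv_mem h1
  have hxU : u₀⁻¹ ∈ S.U := inv_mem h0
  have hsy := S.s_U _ hyU
  have hsx := S.s_U _ hxU
  have hsy' : w * S.s u₁⁻¹ * w⁻¹ ∈ S.U := by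
    rw [← hs _ (hG hyU)]
    exact S.s_U _ hy
  have hsx' : w * S.s u₀⁻¹ * w⁻¹ ∈ S.V := by
    rw [← hs _ (hG hxU)]
    exact S.s_V _ hx
  have e2 : S.s u₁⁻¹ * S.s u₀⁻¹ = u₁⁻¹ * u₀⁻¹ := by
    rw [← S.s_mul _ (hG hyU) _ (hG hxU), ← e', hu.2.2]
  set y := u₁⁻¹ with hydef
  set x := u₀⁻¹ with hxdef
  have e3 : y⁻¹ * S.s y = x * (S.s x)⁻¹ := by
    have : S.s y = y * x * (S.s x)⁻¹ := by
      rw [← e2]
      group
    rw [this]
    group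
  have h4 : w * (x * (S.s x)⁻¹) * w⁻¹ ∈ S.U := by
    rw [← e3]
    have : w * (y⁻¹ * S.s y) * w⁻¹ = (w * y * w⁻¹)⁻¹ * (w * S.s y * w⁻¹) := by group
    rw [this]
    exact mul_mem (inv_mem hy) hsy'
  have h5 : w * (x * (S.s x)⁻¹) * w⁻¹ ∈ S.V := by
    have : w * (x * (S.s x)⁻¹) * w⁻¹ = (w * x * w⁻¹) * (w * S.s x * w⁻¹)⁻¹ := by group
    rw [this]
    exact mul_mem hx (inv_mem hsx')
  have h6 := S.U_V _ h4 h5
  have h7 : x * (S.s x)⁻¹ = 1 := by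
    have : w⁻¹ * (w * (x * (S.s x)⁻¹) * w⁻¹) * w = x * (S.s x)⁻¹ := by group
    rw [← this, h6]
    group
  have h8 : S.s x = x := (mul_inv_eq_one.1 h7).symm
  have h9 : S.s y = y := by
    rw [h7] at e3
    exact (inv_mul_eq_one.1 e3).symm
  exact ⟨y, ⟨hyU, hG hyU, h9⟩, x, ⟨hxU, hG hxU, h8⟩, e', hy, hx⟩

/-- Fixed points in the Borel subgroup. -/
theorem B_fixed {b : A} (hb : b ∈ S.B) (hb' : b ∈ S.Fx) : ∃ u ∈ S.U ⊓ S.Fx, ∃ h ∈ S.H ⊓ S.Fx, b = u * h := by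
  obtain ⟨u, hu, h, hh, rfl⟩ := S.mem_B.1 hb
  have hu' := S.U_le hu
  have hh' := S.H_le hh
  have e := hb'.2
  rw [S.s_mul u hu' h hh'] at e
  have h1 : u⁻¹ * S.s u = h * (S.s h)⁻¹ := by
    have : S.s u = u * h * (S.s h)⁻¹ := by
      rw [← e]
      group
    rw [this]
    group
  have h2 : u⁻¹ * S.s u = 1 := S.U_H _ (mul_mem (inv_mem hu) (S.s_U u hu)) (by
    rw [h1]
    exact mul_mem hh (inv_mem (S.s_H h hh)))
  have h3 : S.s u = u := (inv_mul_eq_one.1 h2).symm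
  have h4 : S.s h = h := by
    rw [h2] at h1
    exact (mul_inv_eq_one.1 h1.symm).symm
  exact ⟨u, ⟨hu, hu', h3⟩, h, ⟨hh, hh', h4⟩, rfl⟩

end Base

/-- The data of a group generated by fixed points. -/
structure Twist (S : Base A) where
  T : Subgroup A
  T_le : T ≤ S.Fx
  ι : Type
  w : ι → A
  w_N : ∀ j, w j ∈ S.N
  w_T : ∀ j, w j ∈ T
  w_sq : ∀ j, w j * w j ∈ S.H
  w_inj : ∀ j j', (w j)⁻¹ * w j' ∈ S.B → j = j'
  X_T : ∀ j, S.Un (w j) ⊓ S.Fx ≤ T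
  X_ne : ∀ j, ∃ x ∈ S.Un (w j) ⊓ S.Fx, x ≠ 1
  sign : ∀ j, ∀ m ∈ S.N ⊓ S.Fx, (∀ x ∈ S.Un (w j), m * x * m⁻¹ ∈ S.U) ∨ (∀ x ∈ S.Un (w j), m * (w j * x * (w j)⁻¹) * m⁻¹ ∈ S.U)
  len : A → ℕ
  desc : ∀ m ∈ S.N ⊓ S.Fx, m ∈ S.H ∨ ∃ j, (∀ x ∈ S.Un (w j), m * x * m⁻¹ ∈ S.V) ∧ len (m * w j) < len m
  rank1 : ∀ j, ∀ m ∈ S.N ⊓ S.Fx, ∀ a ∈ S.U, ∀ c ∈ S.U, a * m * c ∈ (S.Un (w j) ⊓ S.Fx).map (MulAut.conj (w j)).toMonoidHom →
    m ∈ S.H ∨ m * (w j)⁻¹ ∈ S.H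
  long : ∃ n ∈ S.N, n ∈ T ∧ ∀ u ∈ S.U, n * u * n⁻¹ ∈ S.V

namespace Twist

variable {A}
variable {S : Base A} (P : Twist A S)

lemma inf_l {H K : Subgroup A} {x : A} (h : x ∈ H ⊓ K) : x ∈ H := h.1
lemma inf_r {H K : Subgroup A} {x : A} (h : x ∈ H ⊓ K) : x ∈ K := h.2

lemma w_Fx (j : P.ι) : P.w j ∈ S.N ⊓ S.Fx := ⟨P.w_N j, P.T_le (P.w_T j)⟩

lemma w_H_conj_U (j : P.ι) {y : A} (hy : y ∈ S.U) (h : P.w j * y * (P.w j)⁻¹ ∈ S.U) : (P.w j)⁻¹ * y * P.w j ∈ S.U := by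
  have h1 := S.H_U _ (inv_mem (P.w_sq j)) _ h
  have e : (P.w j * P.w j)⁻¹ * (P.w j * y * (P.w j)⁻¹) * (P.w j * P.w j)⁻¹⁻¹ = (P.w j)⁻¹ * y * P.w j := by group
  rwa [e] at h1

/-- All the fixed points of `Un n` lie in the group. -/
theorem Un_fixed_le : ∀ (k : ℕ) (n : A), n ∈ S.N → n ∈ P.T → P.len n ≤ k → S.Un n ⊓ S.Fx ≤ P.T := by
  intro k
  induction k with
  | zero =>
    intro n hn hnT hlen u ⟨hu1, hu2⟩
    rcases P.desc n ⟨hn, P.T_le hnT⟩ with h | ⟨j, _, h2⟩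
    · have : n * u * n⁻¹ = 1 := S.U_V _ (S.H_U n h u hu1.1) hu1.2
      have e : u = 1 := by
        have h3 : n⁻¹ * (n * u * n⁻¹) * n = u := by group
        rw [← h3, this]
        group
      rw [e]
      exact one_mem _
    · omega
  | succ k ih =>
    intro n hn hnT hlen u ⟨hu1, hu2⟩
    rcases P.desc n ⟨hn, P.T_le hnT⟩ with h | ⟨j, h1, h2⟩
    · have : n * u * n⁻¹ = 1 := S.U_V _ (S.H_U n h u hu1.1) hu1.2
      have e : u = 1 := by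
        have h3 : n⁻¹ * (n * u * n⁻¹) * n = u := by group
        rw [← h3, this]
        group
      rw [e]
      exact one_mem _
    · obtain ⟨y, hy, x, hx, e, h3, h4⟩ := S.split_fixed (P.w_Fx j) ⟨hu1.1, hu2⟩
      have hxT : x ∈ P.T := P.X_T j ⟨⟨hx.1, h4⟩, hx.2⟩
      set w := P.w j with hw
      have hwT : w ∈ P.T := P.w_T j
      have hwN : w ∈ S.N := P.w_N j
      have hy2 : w⁻¹ * y * w ∈ S.U := P.w_H_conj_U j hy.1 h3
      have hy3 : w⁻¹ * y * w ∈ S.Fx := by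
        refine mul_mem (mul_mem (inv_mem (P.T_le hwT)) hy.2) (P.T_le hwT)
      have hnw : n * w ∈ S.N := mul_mem hn hwN
      have h5 : n * y * n⁻¹ ∈ S.V := by
        have e2 : n * y * n⁻¹ = (n * u * n⁻¹) * (n * x * n⁻¹)⁻¹ := by
          rw [e]
          group
        rw [e2]
        exact mul_mem hu1.2 (inv_mem (h1 x ⟨hx.1, h4⟩))
      have h6 : w⁻¹ * y * w ∈ S.Un (n * w) := by
        refine ⟨hy2, ?_⟩
        show (n * w) * (w⁻¹ * y * w) * (n * w)⁻¹ ∈ S.V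
        have e3 : (n * w) * (w⁻¹ * y * w) * (n * w)⁻¹ = n * y * n⁻¹ := by group
        rwa [e3]
      have h7 := ih (n * w) hnw (mul_mem hnT hwT) (by omega) ⟨h6, hy3⟩
      have h8 : y ∈ P.T := by
        have e4 : y = w * (w⁻¹ * y * w) * w⁻¹ := by group
        rw [e4]
        exact mul_mem (mul_mem hwT h7) (inv_mem hwT)
      rw [e]
      exact mul_mem h8 hxT

/-- The fixed points of `U` lie in the group. -/
theorem U_fixed_le : S.U ⊓ S.Fx ≤ P.T := by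
  obtain ⟨n, hn, hnT, h⟩ := P.long
  rintro u ⟨hu1, hu2⟩
  exact P.Un_fixed_le _ n hn hnT le_rfl ⟨⟨hu1, h u hu1⟩, hu2⟩

lemma U_fixed_le' {u : A} (hu : u ∈ S.U ⊓ S.Fx) : u ∈ P.T := P.U_fixed_le hu

/-- The canonical form in the group. -/
theorem canonical {g : A} (hg : g ∈ P.T) :
    ∃ a ∈ S.U ⊓ S.Fx, ∃ n ∈ S.N ⊓ P.T, ∃ c ∈ S.U ⊓ S.Fx, g = a * n * c ∧ n * c * n⁻¹ ∈ S.V := by
  obtain ⟨a, ha, n, hn, c, hc, e, hv⟩ := S.canonical_fixed (P.T_le hg)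
  refine ⟨a, ha, n, Subgroup.mem_inf.2 ⟨hn.1, ?_⟩, c, hc, e, hv⟩
  have e2 : n = a⁻¹ * g * c⁻¹ := by
    rw [e]
    group
  rw [e2]
  exact mul_mem (mul_mem (inv_mem (P.U_fixed_le' ha)) hg) (inv_mem (P.U_fixed_le' hc))

/-- The Borel subgroup of the group. -/
lemma B_T {b : A} (hb : b ∈ S.B ⊓ P.T) : ∃ u ∈ S.U ⊓ S.Fx, ∃ h ∈ S.H ⊓ P.T, b = u * h := by
  obtain ⟨u, hu, h, hh, e⟩ := S.B_fixed hb.1 (P.T_le hb.2)
  refine ⟨u, hu, h, Subgroup.mem_inf.2 ⟨hh.1, ?_⟩, e⟩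
  have : h = u⁻¹ * b := by
    rw [e]
    group
  rw [this]
  exact mul_mem (inv_mem (P.U_fixed_le' hu)) (inf_r hb)

omit P in
lemma U_le_B : S.U ≤ S.B := le_sup_left
omit P in
lemma H_le_B : S.H ≤ S.B := le_sup_right

lemma U_fixed_mem {u : A} (hu : u ∈ S.U ⊓ S.Fx) : u ∈ S.B ⊓ P.T := ⟨U_le_B hu.1, P.U_fixed_le hu⟩

lemma H_T_mem {h : A} (hh : h ∈ S.H ⊓ P.T) : h ∈ S.B ⊓ P.T := ⟨H_le_B hh.1, hh.2⟩

lemma N_T_conj_H {n h : A} (hn : n ∈ S.N ⊓ P.T) (hh : h ∈ S.H ⊓ P.T) : n * h * n⁻¹ ∈ S.H ⊓ P.T :=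
  Subgroup.mem_inf.2 ⟨S.H_N n hn.1 h hh.1, mul_mem (mul_mem (inf_r hn) (inf_r hh)) (inv_mem (inf_r hn))⟩

/-- The main multiplication property. -/
theorem mul_mem_union (hBN : ∀ x ∈ S.B, x ∈ S.N → x ∈ S.H) (j : P.ι) {n b : A} (hn : n ∈ S.N ⊓ P.T) (hb : b ∈ S.B ⊓ P.T) :
    P.w j * b * n ∈ DoubleCoset.doubleCoset (P.w j * n) ((S.B ⊓ P.T : Subgroup A) : Set A) ((S.B ⊓ P.T : Subgroup A) : Set A) ∪
      DoubleCoset.doubleCoset n ((S.B ⊓ P.T : Subgroup A) : Set A) ((S.B ⊓ P.T : Subgroup A) : Set A) := by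
  set s := P.w j with hs
  have hsN : s ∈ S.N := P.w_N j
  have hsT : s ∈ P.T := P.w_T j
  have hsF := P.T_le hsT
  have hnF := P.T_le hn.2
  obtain ⟨u, hu, h, hh, rfl⟩ := P.B_T hb
  obtain ⟨y, hy, x, hx, rfl, h3, h4⟩ := S.split_fixed (P.w_Fx j) hu
  -- move `h` to the left of `x`
  set x' := h⁻¹ * x * h with hx'
  have hhF := P.T_le hh.2
  have hx'F : x' ∈ S.Fx := mul_mem (mul_mem (inv_mem hhF) (inf_r hx)) hhF
  have hshs : s * h * s⁻¹ ∈ S.H := S.H_N s hsN h hh.1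
  have hx'U : x' ∈ S.U := by
    have := S.H_U h⁻¹ (inv_mem hh.1) x hx.1
    simpa [hx'] using this
  have hx'V : s * x' * s⁻¹ ∈ S.V := by
    have := S.H_V _ (inv_mem hshs) _ h4
    have e : (s * h * s⁻¹)⁻¹ * (s * x * s⁻¹) * (s * h * s⁻¹)⁻¹⁻¹ = s * x' * s⁻¹ := by
      rw [hx']
      group
    rwa [e] at this
  have hx'Un : x' ∈ S.Un s ⊓ S.Fx := ⟨⟨hx'U, hx'V⟩, hx'F⟩
  have hb0 : s * y * s⁻¹ * (s * h * s⁻¹) ∈ S.B ⊓ P.T := by
    have h5 : y ∈ P.T := P.U_fixed_le' hy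
    refine mul_mem (P.U_fixed_mem (Subgroup.mem_inf.2 ⟨h3, ?_⟩)) (P.H_T_mem (Subgroup.mem_inf.2 ⟨hshs, ?_⟩))
    · exact mul_mem (mul_mem hsF (inf_r hy)) (inv_mem hsF)
    · exact mul_mem (mul_mem hsT (inf_r hh)) (inv_mem hsT)
  set b0 := s * y * s⁻¹ * (s * h * s⁻¹) with hb0def
  have e1 : s * (y * x * h) * n = b0 * (s * x' * n) := by
    rw [hb0def, hx']
    group
  rw [e1]
  rcases P.sign j n⁻¹ (Subgroup.mem_inf.2 ⟨inv_mem (inf_l hn), inv_mem hnF⟩) with hcase | hcase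
  · -- case (a)
    left
    have h6 := hcase x' ⟨hx'U, hx'V⟩
    have h6' : n⁻¹ * x' * n ∈ S.U := by simpa using h6
    have h7 : n⁻¹ * x' * n ∈ S.Fx := mul_mem (mul_mem (inv_mem hnF) hx'F) hnF
    rw [DoubleCoset.mem_doubleCoset]
    refine ⟨b0, hb0, n⁻¹ * x' * n, P.U_fixed_mem (Subgroup.mem_inf.2 ⟨h6', h7⟩), ?_⟩
    group
  · -- case (b)
    by_cases hx1 : x' = 1
    · left
      rw [DoubleCoset.mem_doubleCoset]
      refine ⟨b0, hb0, 1, Subgroup.one_mem _, ?_⟩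
      rw [hx1]
      group
    · right
      set y' := s * x' * s⁻¹ with hy'
      have hy'T : y' ∈ P.T := by
        refine mul_mem (mul_mem hsT (P.X_T j hx'Un)) (inv_mem hsT)
      obtain ⟨a, ha, m, hm, c, hc, e2, hv⟩ := P.canonical hy'T
      have hmF : m ∈ S.N ⊓ S.Fx := ⟨hm.1, P.T_le hm.2⟩
      have hmem : a * m * c ∈ (S.Un s ⊓ S.Fx).map (MulAut.conj s).toMonoidHom := by
        rw [← e2]
        exact ⟨x', hx'Un, rfl⟩
      rcases P.rank1 j m hmF a ha.1 c hc.1 hmem with hmH | hmH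
      · exfalso
        apply hx1
        have h8 : y' ∈ S.B := by
          rw [e2]
          exact mul_mem (mul_mem (U_le_B (inf_l ha)) (H_le_B hmH)) (U_le_B (inf_l hc))
        obtain ⟨u', hu', h', hh', e3⟩ := S.mem_B.1 h8
        have h9 : u' = y' * h'⁻¹ := by
          rw [e3]
          group
        have h10 := S.U_VH u' hu' y' hx'V h'⁻¹ (inv_mem hh') h9
        have h11 : y' = h' := by
          rw [e3, h10, one_mul]
        have h12 : y' = 1 := S.V_H _ hx'V (by rw [h11]; exact hh')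
        have h13 : x' = s⁻¹ * y' * s := by
          rw [hy']
          group
        rw [h13, h12]
        group
      · -- `m = h₁ s`
        set h₁ := m * s⁻¹ with hh₁
        have hm2 : m = h₁ * s := by
          rw [hh₁]
          group
        have hc1 : s * c * s⁻¹ ∈ S.V := by
          have := S.H_V _ (inv_mem hmH) _ hv
          have e : h₁⁻¹ * (m * c * m⁻¹) * h₁⁻¹⁻¹ = s * c * s⁻¹ := by
            rw [hm2]
            group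
          rwa [e] at this
        have hcUn : c ∈ S.Un s := ⟨hc.1, hc1⟩
        have h14 := hcase c hcUn
        have h15 : n⁻¹ * (s * c * s⁻¹) * n ∈ S.U := by simpa using h14
        have hss := P.w_sq j
        -- the element `s⁻¹ c s`
        set e0 := n⁻¹ * (s⁻¹ * c * s) * n with he0
        have hsn : n⁻¹ * (s * s) * n ∈ S.H := by
          have := S.H_N n⁻¹ (inv_mem hn.1) _ hss
          simpa using this
        have he0U : e0 ∈ S.U := by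
          have := S.H_U _ (inv_mem hsn) _ h15
          have e : (n⁻¹ * (s * s) * n)⁻¹ * (n⁻¹ * (s * c * s⁻¹) * n) * (n⁻¹ * (s * s) * n)⁻¹⁻¹ = e0 := by
            rw [he0]
            group
          rwa [e] at this
        have he0F : e0 ∈ S.Fx := by
          have hcF := inf_r hc
          exact mul_mem (mul_mem (inv_mem hnF) (mul_mem (mul_mem (inv_mem hsF) hcF) hsF)) hnF
        have hms : m * s ∈ S.H ⊓ P.T := by
          refine Subgroup.mem_inf.2 ⟨?_, mul_mem (inf_r hm) hsT⟩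
          have e : m * s = h₁ * (s * s) := by
            rw [hm2]
            group
          rw [e]
          exact mul_mem hmH hss
        rw [DoubleCoset.mem_doubleCoset]
        refine ⟨b0 * (a * (m * s)), mul_mem hb0 (mul_mem (P.U_fixed_mem ha) (P.H_T_mem hms)), e0, P.U_fixed_mem (Subgroup.mem_inf.2 ⟨he0U, he0F⟩), ?_⟩
        have e3 : s * x' * n = y' * (s * n) := by
          rw [hy']
          group
        rw [e3, e2, he0]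
        group

/-- Products with the group's part of `N`. -/
theorem closure_sup : Subgroup.closure (Set.range P.w) ⊔ ((S.B ⊓ P.T) ⊓ (S.N ⊓ P.T)) = S.N ⊓ P.T := by
  apply le_antisymm
  · apply sup_le
    · apply (Subgroup.closure_le _).2
      rintro _ ⟨j, rfl⟩
      exact ⟨P.w_N j, P.w_T j⟩
    · exact inf_le_right
  · have key : ∀ (k : ℕ) (n : A), n ∈ S.N ⊓ P.T → P.len n ≤ k →
        n ∈ Subgroup.closure (Set.range P.w) ⊔ ((S.B ⊓ P.T) ⊓ (S.N ⊓ P.T)) := by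
      intro k
      induction k with
      | zero =>
        intro n hn hlen
        rcases P.desc n ⟨hn.1, P.T_le hn.2⟩ with h | ⟨j, _, h2⟩
        · exact Subgroup.mem_sup_right ⟨P.H_T_mem ⟨h, hn.2⟩, hn⟩
        · omega
      | succ k ih =>
        intro n hn hlen
        rcases P.desc n ⟨hn.1, P.T_le hn.2⟩ with h | ⟨j, _, h2⟩
        · exact Subgroup.mem_sup_right ⟨P.H_T_mem ⟨h, hn.2⟩, hn⟩
        · have h3 := ih (n * P.w j) (Subgroup.mem_inf.2 ⟨mul_mem (inf_l hn) (P.w_N j), mul_mem (inf_r hn) (P.w_T j)⟩) (by omega)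
          have e : n = n * P.w j * (P.w j)⁻¹ := by group
          rw [e]
          refine mul_mem h3 (inv_mem (Subgroup.mem_sup_left (Subgroup.subset_closure ⟨j, rfl⟩)))
    intro n hn
    exact key _ n hn le_rfl

/-- The (B,N)-pair of the group. -/
theorem exists_bnpair (hBN : ∀ x ∈ S.B, x ∈ S.N → x ∈ S.H) (hBV : ∀ x ∈ S.B, x ∈ S.V → x = 1) :
    ∃ Q : Cfsg.BNPair ↥P.T, Q.B = (S.B ⊓ P.T).subgroupOf P.T ∧ Q.N = (S.N ⊓ P.T).subgroupOf P.T ∧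
      Q.S = {n : ↥P.T | (n : A) ∈ Set.range P.w} := by
  apply exists_bnpair_of_ambient P.T (S.B ⊓ P.T) (S.N ⊓ P.T) (Set.range P.w) inf_le_right inf_le_right
  · apply le_antisymm (sup_le inf_le_right inf_le_right)
    intro g hg
    obtain ⟨a, ha, n, hn, c, hc, rfl, _⟩ := P.canonical hg
    have h1 : a ∈ (S.B ⊓ P.T) ⊔ (S.N ⊓ P.T) := Subgroup.mem_sup_left (P.U_fixed_mem ha)
    have h2 : n ∈ (S.B ⊓ P.T) ⊔ (S.N ⊓ P.T) := Subgroup.mem_sup_right hn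
    have h3 : c ∈ (S.B ⊓ P.T) ⊔ (S.N ⊓ P.T) := Subgroup.mem_sup_left (P.U_fixed_mem hc)
    exact mul_mem (mul_mem h1 h2) h3
  · intro n hn t ht
    have h1 : t ∈ S.H := hBN t (inf_l (inf_l ht)) (inf_l (inf_r ht))
    exact P.H_T_mem (P.N_T_conj_H hn ⟨h1, inf_r (inf_l ht)⟩)
  · rintro _ ⟨j, rfl⟩
    exact ⟨P.w_N j, P.w_T j⟩
  · rintro _ ⟨j, rfl⟩
    exact P.H_T_mem (Subgroup.mem_inf.2 ⟨P.w_sq j, mul_mem (P.w_T j) (P.w_T j)⟩)
  · rintro _ ⟨j, rfl⟩ _ ⟨j', rfl⟩ h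
    rw [P.w_inj j j' h.1]
  · exact P.closure_sup
  · rintro _ ⟨j, rfl⟩ n hn b hb
    exact P.mul_mem_union hBN j hn hb
  · rintro _ ⟨j, rfl⟩
    obtain ⟨x, hx, hx1⟩ := P.X_ne j
    refine ⟨x, P.U_fixed_mem ⟨hx.1.1, hx.2⟩, ?_⟩
    intro h
    apply hx1
    set s := P.w j with hs
    have h1 : s * x * s⁻¹ ∈ S.B := by
      have e : s * x * s⁻¹ = (s * x * s) * (s * s)⁻¹ := by group
      rw [e]
      exact mul_mem (inf_l h) (inv_mem (H_le_B (P.w_sq j)))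
    have h2 := hBV _ h1 hx.1.2
    have e : x = s⁻¹ * (s * x * s⁻¹) * s := by group
    rw [e, h2]
    group

end Twist

end CfsgLib.Tw
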