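/-
The Chevalley groups as groups with Bruhat decomposition; the action of an automorphism permuting the root subgroups.
-/
import Cfsg.Agent.Lib.Tw.Abs
import Cfsg.Agent.Lib.Chev.Count
import Cfsg.Agent.Lib.Chev.Parab

set_option autoImplicit false

namespace CfsgLib.Chev

open Cfsg.Lie Cfsg.Lie.ChevalleyDatum CfsgLib.BN

section facts

variable {D : ChevalleyDatum} {C : Cert} (hG : Good D C) {K : Type*} [Field K] (hE : Extra D C) (hB : Braid D C)

include hG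

lemma Good.H_normalizes_V : D.diagonalSubgroup K ≤ Subgroup.normalizer (D.negUnipotent K : Set (GL D.Idx K)) := by
  have hH := hG.diagonal_le_normalizer (F := K) (fun r => D.IsNegRoot r) (fun r hr => hr.1)
  rwa [← hG.negUnipotent_eq] at hH

lemma Good.H_V {h v : GL D.Idx K} (hh : h ∈ D.diagonalSubgroup K) (hv : v ∈ D.negUnipotent K) : h * v * h⁻¹ ∈ D.negUnipotent K :=
  (Subgroup.mem_normalizer_iff.1 (hG.H_normalizes_V hh) v).1 hv

include hE

lemma Extra.H_U {h v : GL D.Idx K} (hh : h ∈ D.diagonalSubgroup K) (hv : v ∈ D.posUnipotent K) : h * v * h⁻¹ ∈ D.posUnipotent K :=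
  (Subgroup.mem_normalizer_iff.1 ((hE.diagonal_normalizes_unipotent hG).1 hh) v).1 hv

lemma Extra.U_H {u : GL D.Idx K} (hu : u ∈ D.posUnipotent K) (hh : u ∈ D.diagonalSubgroup K) : u = 1 := by
  have := (hE.diagonal_normalizes_unipotent hG (F := K)).2
  exact Subgroup.mem_bot.1 (this ▸ Subgroup.mem_inf.2 ⟨hu, hh⟩)

lemma Extra.U_V {u : GL D.Idx K} (hu : u ∈ D.posUnipotent K) (hv : u ∈ D.negUnipotent K) : u = 1 := by
  have := hE.borel_inf_neg hG (F := K)
  exact Subgroup.mem_bot.1 (this ▸ Subgroup.mem_inf.2 ⟨Subgroup.mem_sup_left hu, hv⟩)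

lemma Extra.B_V {u : GL D.Idx K} (hu : u ∈ D.borelSubgroup K) (hv : u ∈ D.negUnipotent K) : u = 1 := by
  have := hE.borel_inf_neg hG (F := K)
  exact Subgroup.mem_bot.1 (this ▸ Subgroup.mem_inf.2 ⟨hu, hv⟩)

lemma Extra.V_H {u : GL D.Idx K} (hv : u ∈ D.negUnipotent K) (hh : u ∈ D.diagonalSubgroup K) : u = 1 :=
  hE.B_V hG (Subgroup.mem_sup_right hh) hv

lemma Extra.U_VH {u v h : GL D.Idx K} (hu : u ∈ D.posUnipotent K) (hv : v ∈ D.negUnipotent K) (hh : h ∈ D.diagonalSubgroup K)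
    (e : u = v * h) : u = 1 := by
  have h1 := hE.borel_inf_negBorel hG (F := K)
  have h2 : u ∈ D.borelSubgroup K ⊓ (D.negUnipotent K ⊔ D.diagonalSubgroup K) :=
    Subgroup.mem_inf.2 ⟨Subgroup.mem_sup_left hu, e ▸ mul_mem (Subgroup.mem_sup_left hv) (Subgroup.mem_sup_right hh)⟩
  rw [h1] at h2
  exact hE.U_H hG hu h2

lemma Extra.U_N {u : GL D.Idx K} (hu : u ∈ D.posUnipotent K) (hn : u ∈ D.monomialSubgroup K) : u = 1 := by
  have := hE.unipotent_inf_monomial hG (F := K)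
  exact Subgroup.mem_bot.1 (this ▸ Subgroup.mem_inf.2 ⟨hu, hn⟩)

lemma Extra.mem_borel {b : GL D.Idx K} (hb : b ∈ D.borelSubgroup K) :
    ∃ u ∈ D.posUnipotent K, ∃ h ∈ D.diagonalSubgroup K, b = u * h := by
  obtain ⟨u, hu, h, hh, rfl⟩ := (mem_sup_of_le_normalizer (hE.diagonal_normalizes_unipotent hG).1).1 hb
  exact ⟨u, hu, h, hh, rfl⟩

include hB

/-- The canonical form. -/
lemma Extra.bruhatU {g : GL D.Idx K} (hg : g ∈ D.group K) :
    ∃ a ∈ D.posUnipotent K, ∃ n ∈ D.monomialSubgroup K, ∃ c ∈ D.posUnipotent K, g = a * n * c ∧ n * c * n⁻¹ ∈ D.negUnipotent K := by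
  obtain ⟨b, hb, n, hn, u, hu, rfl⟩ := hE.exists_canonical hG hB hg
  obtain ⟨a, ha, h, hh, rfl⟩ := hE.mem_borel hG hb
  refine ⟨a, ha, h * n, mul_mem (hG.diagonal_le_monomial hh) hn, u, hG.XnSet_le_U hu, by group, ?_⟩
  have h1 := hG.XnSet_conj hu
  have := hG.H_V hh h1
  have e : h * (n * u * n⁻¹) * h⁻¹ = h * n * u * (h * n)⁻¹ := by group
  rwa [e] at this

/-- The cells are disjoint. -/
lemma Extra.cellU {n n' a c : GL D.Idx K} (hn : n ∈ D.monomialSubgroup K) (hn' : n' ∈ D.monomialSubgroup K)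
    (ha : a ∈ D.posUnipotent K) (hc : c ∈ D.posUnipotent K) (e : a * n * c = n') : n⁻¹ * n' ∈ D.diagonalSubgroup K := by
  obtain ⟨P, hPB, hPN, _⟩ := hE.exists_bnpair hG hB (F := K)
  have hnG := hG.monomial_le_group hn
  have hnG' := hG.monomial_le_group hn'
  have hU : D.posUnipotent K ≤ D.group K := hG.posUnipotent_le_group
  have hmem : (⟨n', hnG'⟩ : ↥(D.group K)) ∈ dc P (⟨n, hnG⟩ : ↥(D.group K)) := by
    rw [mem_dc]
    refine ⟨⟨a, hU ha⟩, ?_, ⟨c, hU hc⟩, ?_, ?_⟩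
    · rw [hPB, Subgroup.mem_subgroupOf]
      exact Subgroup.mem_sup_left ha
    · rw [hPB, Subgroup.mem_subgroupOf]
      exact Subgroup.mem_sup_left hc
    · apply Subtype.ext
      exact e.symm
  have h1 := dc_eq_of_mem hmem
  have h2 := (dc_eq_dc_iff (P := P) (n := ⟨n, hnG⟩) (n' := ⟨n', hnG'⟩) (by rw [hPN, Subgroup.mem_subgroupOf]; exact hn)
    (by rw [hPN, Subgroup.mem_subgroupOf]; exact hn')).1 h1.symm
  rw [hPB, Subgroup.mem_subgroupOf] at h2
  have h3 : n⁻¹ * n' ∈ D.borelSubgroup K ⊓ D.monomialSubgroup K :=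
    Subgroup.mem_inf.2 ⟨h2, Subgroup.mul_mem _ (Subgroup.inv_mem _ hn) hn'⟩
  rwa [hE.borel_inf_monomial hG hB] at h3

omit hB

/-- The decomposition of `U` with respect to an element of `N`. -/
lemma Extra.splitU {n u : GL D.Idx K} (hn : n ∈ D.monomialSubgroup K) (hu : u ∈ D.posUnipotent K) :
    ∃ u₀ ∈ D.posUnipotent K, ∃ u₁ ∈ D.posUnipotent K, u = u₀ * u₁ ∧ n * u₀ * n⁻¹ ∈ D.negUnipotent K ∧ n * u₁ * n⁻¹ ∈ D.posUnipotent K := by
  classical
  obtain ⟨π, d, hm⟩ := hG.mono_of_mem_N hE hn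
  let p : ℕ → Prop := fun r => ¬ ∃ hr : r < D.nroots, D.nroots / 2 ≤ (π ⟨r, hr⟩).val
  obtain ⟨hL1, hL2, hL3⟩ := posL_spec D.nroots p
  obtain ⟨τ, e2⟩ := hE.unipotent_prodL hG hL1 hL2 hL3 hu
  rw [hG.prodL_append] at e2
  set L₁ := (List.range' (D.nroots / 2) (D.nroots - D.nroots / 2)).filter p with hL₁
  set L₂ := (List.range' (D.nroots / 2) (D.nroots - D.nroots / 2)).filter (fun r => ¬ p r) with hL₂
  have hp1 : ∀ r ∈ L₁, D.IsPosRoot r := fun r hr => by
    have h := hL2 r (List.mem_append.2 (Or.inl hr))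
    exact (hE.posIff _ h.2).2 h.1
  have hp2 : ∀ r ∈ L₂, D.IsPosRoot r := fun r hr => by
    have h := hL2 r (List.mem_append.2 (Or.inr hr))
    exact (hE.posIff _ h.2).2 h.1
  have hU1 : hG.prodL L₁ τ ∈ D.posUnipotent K := hG.prodL_mem (fun r hr t => hG.posUnipotent_mem (hp1 r hr) t) τ
  have hU2 : hG.prodL L₂ τ ∈ D.posUnipotent K := hG.prodL_mem (fun r hr t => hG.posUnipotent_mem (hp2 r hr) t) τ
  refine ⟨_, hU1, _, hU2, e2, ?_, ?_⟩
  · have : hG.prodL L₁ τ ∈ (D.negUnipotent K).comap (MulAut.conj n).toMonoidHom := by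
      apply hG.prodL_mem
      intro r hr t
      have h3 := (List.mem_filter.1 hr).2
      have h3' : p r := by simpa using h3
      have hr4 := hL2 r (List.mem_append.2 (Or.inl hr))
      show n * hG.xG r t * n⁻¹ ∈ D.negUnipotent K
      have h4 := hm.conj ⟨r, hr4.2⟩ t
      simp only at h4
      rw [h4]
      apply hG.negUnipotent_mem
      rw [hE.negIff _ (π _).2]
      by_contra h5
      exact h3' ⟨hr4.2, not_lt.1 h5⟩
    exact this
  · have : hG.prodL L₂ τ ∈ (D.posUnipotent K).comap (MulAut.conj n).toMonoidHom := by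
      apply hG.prodL_mem
      intro r hr t
      have h3 := (List.mem_filter.1 hr).2
      have h3' : ¬ p r := by simpa using h3
      have hr4 := hL2 r (List.mem_append.2 (Or.inr hr))
      show n * hG.xG r t * n⁻¹ ∈ D.posUnipotent K
      have h4 := hm.conj ⟨r, hr4.2⟩ t
      simp only at h4
      rw [h4]
      apply hG.posUnipotent_mem
      rw [hE.posIff _ (π _).2]
      by_contra h5
      apply h3'
      rintro ⟨_, h6⟩
      exact h5 h6
    exact this

end facts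

section act

variable {D : ChevalleyDatum} {C : Cert}

/-- An endomorphism of the group permuting the root subgroups. -/
structure TwAct (hG : Good D C) (K : Type*) [Field K] where
  σ : ↥(D.group K) →* ↥(D.group K)
  π : ℕ → ℕ
  f : ℕ → K → K
  π_lt : ∀ r < D.nroots, π r < D.nroots
  π_pos : ∀ r < D.nroots, (D.nroots / 2 ≤ r ↔ D.nroots / 2 ≤ π r)
  π_neg : ∀ r < D.nroots, π (D.neg r) = D.neg (π r)
  f_ne : ∀ r < D.nroots, ∀ t : K, t ≠ 0 → f r t ≠ 0
  f_neg : ∀ r < D.nroots, ∀ t : K, t ≠ 0 → f (D.neg r) (-t⁻¹) = -(f r t)⁻¹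
  σ_x : ∀ r (hr : r < D.nroots) (t : K), ((σ ⟨hG.xG r t, hG.mem_group hr t⟩ : ↥(D.group K)) : GL D.Idx K) = hG.xG (π r) (f r t)

namespace TwAct

variable {hG : Good D C} {K : Type*} [Field K] (A : TwAct hG K)

open Classical in
/-- The map on the general linear group. -/
noncomputable def s (g : GL D.Idx K) : GL D.Idx K :=
  if h : g ∈ D.group K then (A.σ ⟨g, h⟩ : ↥(D.group K)) else g

lemma s_of_mem {g : GL D.Idx K} (h : g ∈ D.group K) : A.s g = (A.σ ⟨g, h⟩ : ↥(D.group K)) := dif_pos h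

lemma s_mem {g : GL D.Idx K} (h : g ∈ D.group K) : A.s g ∈ D.group K := by
  rw [A.s_of_mem h]
  exact (A.σ _).2

lemma s_mul {a b : GL D.Idx K} (ha : a ∈ D.group K) (hb : b ∈ D.group K) : A.s (a * b) = A.s a * A.s b := by
  rw [A.s_of_mem (mul_mem ha hb), A.s_of_mem ha, A.s_of_mem hb, ← Subgroup.coe_mul, ← map_mul]
  rfl

lemma s_one : A.s 1 = 1 := by
  rw [A.s_of_mem (one_mem _)]
  have : (⟨1, one_mem _⟩ : ↥(D.group K)) = 1 := rfl
  rw [this, map_one]
  rfl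

lemma s_inv {a : GL D.Idx K} (ha : a ∈ D.group K) : A.s a⁻¹ = (A.s a)⁻¹ := by
  have h := A.s_mul ha (inv_mem ha)
  rw [mul_inv_cancel, A.s_one] at h
  exact (inv_eq_of_mul_eq_one_right h.symm).symm

lemma s_x {r : ℕ} (hr : r < D.nroots) (t : K) : A.s (hG.xG r t) = hG.xG (A.π r) (A.f r t) := by
  rw [A.s_of_mem (hG.mem_group hr t), A.σ_x r hr t]

/-- Maps on closures. -/
lemma s_closure {X : Set (GL D.Idx K)} (hX : X ⊆ (D.group K : Set (GL D.Idx K))) {M : Subgroup (GL D.Idx K)} (h : ∀ x ∈ X, A.s x ∈ M)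
    {g : GL D.Idx K} (hg : g ∈ Subgroup.closure X) : A.s g ∈ M := by
  have hle : Subgroup.closure X ≤ D.group K := (Subgroup.closure_le _).2 hX
  induction hg using Subgroup.closure_induction with
  | mem x hx => exact h x hx
  | one =>
    rw [A.s_one]
    exact one_mem _
  | mul x y hx hy ih1 ih2 =>
    rw [A.s_mul (hle hx) (hle hy)]
    exact mul_mem ih1 ih2
  | inv x hx ih =>
    rw [A.s_inv (hle hx)]
    exact inv_mem ih

lemma s_nnG {r : ℕ} (hr : r < D.nroots) {t : K} (ht : t ≠ 0) : A.s (hG.nnG r t) = hG.nnG (A.π r) (A.f r t) := by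
  have hn := hG.shp.neg_lt r hr
  unfold Good.nnG nn
  rw [A.s_mul (mul_mem (hG.mem_group hr _) (hG.mem_group hn _)) (hG.mem_group hr _), A.s_mul (hG.mem_group hr _) (hG.mem_group hn _),
    A.s_x hr, A.s_x hn, A.f_neg r hr t ht, A.π_neg r hr]

omit A in
lemma nnG_mul_mem (hG : Good D C) {r : ℕ} (hr : r < D.nroots) {a b : K} (ha : a ≠ 0) (hb : b ≠ 0) : hG.nnG r a * hG.nnG r b ∈ D.diagonalSubgroup K := by
  have R := hG.sl2 (F := K) hr
  have e : hG.nnG r a * hG.nnG r b = hG.hhG r a * (hG.hhG r (-b))⁻¹ := by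
    show nn (hG.xG r) (hG.xG (D.neg r)) a * nn (hG.xG r) (hG.xG (D.neg r)) b =
      hh (hG.xG r) (hG.xG (D.neg r)) a * (hh (hG.xG r) (hG.xG (D.neg r)) (-b))⁻¹
    unfold hh
    rw [mul_inv_rev, R.nn_inv, R.nn_inv, neg_neg, neg_neg]
    have := R.nn_neg_mul (1 : K)
    rw [mul_assoc, ← mul_assoc (nn _ _ (-1)), this, one_mul]
  rw [e]
  exact mul_mem (hG.hhG_mem_diagonal hr ha) (inv_mem (hG.hhG_mem_diagonal hr (neg_ne_zero.2 hb)))

lemma s_hhG {r : ℕ} (hr : r < D.nroots) {t : K} (ht : t ≠ 0) : A.s (hG.hhG r t) ∈ D.diagonalSubgroup K := by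
  have h1 : (-1 : K) ≠ 0 := neg_ne_zero.2 one_ne_zero
  have e : hG.hhG r t = hG.nnG r t * hG.nnG r (-1) := rfl
  rw [e, A.s_mul (hG.nnG_mem_group hr _) (hG.nnG_mem_group hr _), A.s_nnG hr ht, A.s_nnG hr h1]
  exact nnG_mul_mem hG (A.π_lt r hr) (A.f_ne r hr t ht) (A.f_ne r hr _ h1)

lemma s_H {h : GL D.Idx K} (hh : h ∈ D.diagonalSubgroup K) : A.s h ∈ D.diagonalSubgroup K := by
  rw [hG.diagonal_eq] at hh
  refine A.s_closure ?_ ?_ hh
  · rintro _ ⟨r, hr, t, _, rfl⟩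
    exact hG.hhG_mem_group hr t
  · rintro _ ⟨r, hr, t, ht, rfl⟩
    exact A.s_hhG hr ht

variable (hE : Extra D C) (hB : Braid D C)

include hE

lemma s_N {h : GL D.Idx K} (hh : h ∈ D.monomialSubgroup K) : A.s h ∈ D.monomialSubgroup K := by
  have hK : ∀ x ∈ {g | ∃ r < D.nroots, g = hG.nnG (F := K) r 1}, x ∈ D.group K := by
    rintro _ ⟨r, hr, rfl⟩
    exact hG.nnG_mem_group hr 1
  rw [hG.monomial_eq, ← Subgroup.closure_eq (D.diagonalSubgroup K), ← Subgroup.closure_union] at hh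
  refine A.s_closure ?_ ?_ hh
  · rintro x (hx | hx)
    · exact hG.diagonal_le_group hx
    · exact hK x hx
  · rintro x (hx | ⟨r, hr, rfl⟩)
    · exact hG.diagonal_le_monomial (A.s_H hx)
    · rw [A.s_nnG hr one_ne_zero, hG.monomial_eq_N0 hE]
      exact hG.nnG_mem_N0 hE (A.π_lt r hr) (A.f_ne r hr _ one_ne_zero)

lemma s_U {h : GL D.Idx K} (hh : h ∈ D.posUnipotent K) : A.s h ∈ D.posUnipotent K := by
  rw [hG.posUnipotent_eq] at hh
  refine A.s_closure ?_ ?_ hh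
  · rintro _ ⟨r, hr, t, rfl⟩
    exact hG.mem_group hr.1 t
  · rintro _ ⟨r, hr, t, rfl⟩
    rw [A.s_x hr.1]
    exact hG.posUnipotent_mem ((hE.posIff _ (A.π_lt r hr.1)).2 ((A.π_pos r hr.1).1 ((hE.posIff _ hr.1).1 hr))) _

lemma s_V {h : GL D.Idx K} (hh : h ∈ D.negUnipotent K) : A.s h ∈ D.negUnipotent K := by
  rw [hG.negUnipotent_eq] at hh
  refine A.s_closure ?_ ?_ hh
  · rintro _ ⟨r, hr, t, rfl⟩
    exact hG.mem_group hr.1 t
  · rintro _ ⟨r, hr, t, rfl⟩
    rw [A.s_x hr.1]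
    apply hG.negUnipotent_mem
    rw [hE.negIff _ (A.π_lt r hr.1)]
    have h1 := (hE.negIff _ hr.1).1 hr
    have h2 := (A.π_pos r hr.1).not.1 (by omega)
    omega

/-- The Chevalley group as a group with Bruhat decomposition. -/
noncomputable def base (hE : Extra D C) (hB : Braid D C) : CfsgLib.Tw.Base (GL D.Idx K) where
  G := D.group K
  U := D.posUnipotent K
  V := D.negUnipotent K
  H := D.diagonalSubgroup K
  N := D.monomialSubgroup K
  s := A.s
  s_mul := fun _ ha _ hb => A.s_mul ha hb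
  U_le := hG.posUnipotent_le_group
  V_le := hG.negUnipotent_le_group
  H_le := hG.diagonal_le_group
  N_le := hG.monomial_le_group
  s_U := fun _ hu => A.s_U hE hu
  s_V := fun _ hu => A.s_V hE hu
  s_H := fun _ hu => A.s_H hu
  s_N := fun _ hu => A.s_N hE hu
  H_le_N := hG.diagonal_le_monomial
  H_N := fun _ hn _ hh => hE.diagonal_conj hG hn hh
  H_U := fun _ hh _ hu => hE.H_U hG hh hu
  H_V := fun _ hh _ hu => hG.H_V hh hu
  U_H := fun _ hu hh => hE.U_H hG hu hh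
  U_V := fun _ hu hv => hE.U_V hG hu hv
  U_VH := fun _ hu _ hv _ hh e => hE.U_VH hG hu hv hh e
  V_H := fun _ hv hh => hE.V_H hG hv hh
  U_N := fun _ hu hn => hE.U_N hG hu hn
  bruhat := fun _ hg => hE.bruhatU hG hB hg
  cell := fun _ hn _ hn' _ ha _ hc e => hE.cellU hG hB hn hn' ha hc e
  split := fun _ hn _ hu => hE.splitU hG hn hu

end TwAct

end act

end CfsgLib.Chev
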