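/-
Elements of `N` and their action on the roots: signs, parabolic subgroups.
-/
import Cfsg.Agent.Lib.Tw.ChevBase

set_option autoImplicit false

namespace CfsgLib.Chev

open Cfsg.Lie Cfsg.Lie.ChevalleyDatum CfsgLib.BN

section

variable {D : ChevalleyDatum} {C : Cert} (hG : Good D C) {K : Type*} [Field K] (hE : Extra D C) (hB : Braid D C)

include hG hE

/-- A non-trivial root element determines its root. -/
lemma Extra.xG_root_eq {a b : ℕ} (ha : a < D.nroots) {s t : K} (hs : s ≠ 0) (hb : b < D.nroots)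
    (e : hG.xG a s = hG.xG b t) : a = b := by
  by_contra hne
  obtain ⟨j, hj, hc⟩ := hE.cor_ne_zero hG (F := K) ha
  have hn := hG.shp.neg_lt a ha
  have e' : D.x K a s = D.x K b t := by
    rw [← hG.xG_val, ← hG.xG_val, e]
  have h1 := congrFun (congrFun e' (Sum.inl ⟨j, hj⟩)) (Sum.inr ⟨D.neg a, hn⟩)
  rw [x_inl_inr D ha, x_inl_inr D hb] at h1
  have h2 := hG.shp.neg_ne a ha
  simp only [h2, if_false, if_true] at h1
  have h3 : (corOf D a j : ℤ) = (D.coroot.getD a #[]).getD j 0 := rfl
  have h4 : ((corOf D a j : ℤ) : K) * s ≠ 0 := mul_ne_zero hc hs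
  rw [h3] at h4
  apply h4
  rw [h1]
  split_ifs with h5 h6
  · rfl
  · exfalso
    apply hne
    have := hG.shp.neg_neg a ha
    have h7 := hG.shp.neg_neg b hb
    rw [← this, ← h7, h6]
  · rfl

/-- Elements of `N` with trivial action on the roots lie in `H`. -/
lemma Extra.mem_H_of_perm {m : GL D.Idx K} {d : Fin D.nroots → K} (hB : Braid D C) (hm : m ∈ D.monomialSubgroup K) (hi : IsMono hG m 1 d) :
    m ∈ D.diagonalSubgroup K := by
  rw [← hE.KK_eq hG hB]
  exact ⟨hm, d, hi⟩

/-- The action of an element of `N` lies in the Weyl group. -/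
lemma Extra.perm_mem_W (hB : Braid D C) {m : GL D.Idx K} {τ : Equiv.Perm (Fin D.nroots)} {d : Fin D.nroots → K} (hm : m ∈ D.monomialSubgroup K)
    (hi : IsMono hG m τ d) : τ ∈ hG.WJ Set.univ := by
  obtain ⟨h, hh, L, hL, rfl⟩ := hE.monomial_normal_form hG hm
  have h1 : h ∈ hG.KK K := by
    rw [hE.KK_eq hG hB]
    exact hh
  obtain ⟨_, d', hd'⟩ := h1
  have h2 := hd'.mul (hG.isMono_nW (F := K) hL)
  rw [one_mul] at h2
  rw [hi.perm_unique h2]
  exact hG.permW_mem L hL

/-- Negativity from the coefficients. -/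
lemma Extra.neg_of_coef {r : ℕ} (hr : r < D.nroots) (h : ∀ k < D.rank, C.coef r k ≤ 0) : r < D.nroots / 2 := by
  have hn := hG.shp.neg_lt r hr
  have h1 : D.nroots / 2 ≤ D.neg r := by
    apply hE.pos_of_coef hG hn
    intro k hk
    rw [hG.coef_neg hr hk]
    have := h k hk
    omega
  by_contra h2
  have := hE.neg_of_high hG hr (not_lt.1 h2)
  omega

/-- An element negative on the simple roots of `J'` is negative on the positive roots supported on `J'`. -/
lemma Extra.neg_of_support {J J' : Set ℕ} {σ : Equiv.Perm (Fin D.nroots)} (hσ : σ ∈ hG.WJ J)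
    (hp : ∀ (j : ℕ) (hj : j < D.rank), j ∈ J' → (σ ⟨D.simple j, hG.simple_lt hj⟩).val < D.nroots / 2)
    (y : Fin D.nroots) (hy : D.nroots / 2 ≤ y.val) (hs : ∀ k < D.rank, k ∉ J' → C.coef y k = 0) :
    (σ y).val < D.nroots / 2 := by
  apply hE.neg_of_coef hG (σ y).2
  intro k hk
  rw [hE.coef_perm hG hσ y hk]
  apply Finset.sum_nonpos
  intro j _
  by_cases hj : (j : ℕ) ∈ J'
  · exact mul_nonpos_of_nonneg_of_nonpos (hE.coefPos y y.2 hy j j.2) (hE.coefNeg _ (σ _).2 (hp j j.2 hj) k hk)
  · rw [hs j j.2 hj, zero_mul]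

/-- The support of a root of `Φ_J`. -/
lemma Extra.coef_zero_of_lam {J : Set ℕ} {r : ℕ} (hr : r < D.nroots) (h : lamJ C D.rank J r = 0) {k : ℕ} (hk : k < D.rank) (hkJ : k ∉ J) :
    C.coef r k = 0 := by
  by_contra h0
  exact hkJ (hE.mem_of_coef_pos hG ((hE.lamJ_eq_zero_iff hG J hr).1 h) hk h0)

/-- A positive root outside `Φ_J` has a positive coefficient outside `J`. -/
lemma Extra.exists_coef_pos {J : Set ℕ} {r : ℕ} (hr : r < D.nroots) (hp : D.nroots / 2 ≤ r) (h : lamJ C D.rank J r ≠ 0) :
    ∃ k < D.rank, k ∉ J ∧ 0 < C.coef r k := by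
  by_contra hcon
  push Not at hcon
  apply h
  rw [hE.lamJ_eq_zero_iff hG J hr]
  refine ⟨hr, fun i hi hiJ => ?_⟩
  have h1 := hE.coefPos r hr hp i hi
  have h2 := hcon i hi hiJ
  show corOf D r i = 0
  rw [hE.corZero r hr i hi]
  omega

/-- The subgroup `P_J` does not lower the coefficients outside `J`. -/
lemma Extra.parabolic_le_nlSub (J : Set ℕ) {k : ℕ} (hk : k < D.rank) (hkJ : k ∉ J) :
    D.parabolicSubgroup K J ≤ nlSub D K (fun r => C.coef r k) := by
  rw [hE.parabolic_eq_gens hG]
  refine sup_le (hG.diagonal_le_nlSub _) ?_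
  apply (Subgroup.closure_le _).2
  rintro _ ⟨r, ⟨hr, h⟩, t, rfl⟩
  have ha : AddF D (fun r => C.coef r k) := by
    have := hG.addF_coef (fun m => if m = k then (1 : ℤ) else 0)
    have e : coefF C D.rank (fun m => if m = k then (1 : ℤ) else 0) = fun r => C.coef r k := by
      funext r
      exact coefF_delta C hk r
    rwa [e] at this
  apply hG.xG_mem_nlSub ha hr
  by_cases hp : D.nroots / 2 ≤ r
  · exact hE.coefPos r hr hp k hk
  · have h1 := hE.lamJ_nonpos hG J hr (not_le.1 hp)
    have h2 : lamJ C D.rank J r = 0 := by omega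
    rw [hE.coef_zero_of_lam hG hr h2 hk hkJ]

omit hE in
lemma Good.coef_le_of_nlSub {m : GL D.Idx K} {τ : Equiv.Perm (Fin D.nroots)} {d : Fin D.nroots → K} (hi : IsMono hG m τ d)
    {a : ℕ → ℤ} (h : m ∈ nlSub D K a) (s : Fin D.nroots) : a s ≤ a (τ s) := by
  have h1 := hi.col_eq s
  have h2 := h.1 (Sum.inr (τ s)) (Sum.inr s) (by
    rw [h1]
    exact hi.d_ne s)
  exact h2

/-- An element of `N ∩ P_J` preserves the coefficients outside `J`. -/
lemma Extra.coef_preserved_of_parabolic {J : Set ℕ} {m : GL D.Idx K} {τ : Equiv.Perm (Fin D.nroots)} {d : Fin D.nroots → K}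
    (hm : m ∈ D.parabolicSubgroup K J) (hi : IsMono hG m τ d) {k : ℕ} (hk : k < D.rank) (hkJ : k ∉ J) (s : Fin D.nroots) :
    C.coef (τ s) k = C.coef s k := by
  have h1 := hE.parabolic_le_nlSub hG J hk hkJ hm
  have h2 := hE.parabolic_le_nlSub hG J hk hkJ (inv_mem hm)
  have h3 := hG.coef_le_of_nlSub hi h1 s
  have h4 := hG.coef_le_of_nlSub hi.inv h2 (τ s)
  have h5 : τ⁻¹ (τ s) = s := by simp
  rw [h5] at h4
  exact le_antisymm h4 h3

include hB

/-- Membership in the Weyl group of `J`. -/
theorem Extra.mem_WJ_of_coef {J : Set ℕ} {τ : Equiv.Perm (Fin D.nroots)} (hτ : τ ∈ hG.WJ Set.univ)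
    (h : ∀ k < D.rank, k ∉ J → ∀ r : Fin D.nroots, C.coef (τ r) k = C.coef r k) : τ ∈ hG.WJ J := by
  have h1 : ∀ k, k ≤ D.rank → τ ∈ hG.WJ (J ∪ {i | i < k}) → τ ∈ hG.WJ J := by
    intro k
    induction k with
    | zero =>
      intro _ h2
      have e : J ∪ {i | i < 0} = J := by
        ext i
        simp
      rwa [e] at h2
    | succ k ih =>
      intro hk h2
      apply ih (by omega)
      by_cases hkJ : k ∈ J
      · have e : J ∪ {i | i < k + 1} = J ∪ {i | i < k} := by
          ext i
          simp only [Set.mem_union, Set.mem_setOf_eq]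
          constructor
          · rintro (h3 | h3)
            · exact Or.inl h3
            · by_cases h4 : i = k
              · rw [h4]
                exact Or.inl hkJ
              · exact Or.inr (by omega)
          · rintro (h3 | h3)
            · exact Or.inl h3
            · exact Or.inr (by omega)
        rwa [e] at h2
      · have e : J ∪ {i | i < k + 1} = insert k (J ∪ {i | i < k}) := by
          ext i
          simp only [Set.mem_union, Set.mem_setOf_eq, Set.mem_insert_iff]
          constructor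
          · rintro (h3 | h3)
            · exact Or.inr (Or.inl h3)
            · by_cases h4 : i = k
              · exact Or.inl h4
              · exact Or.inr (Or.inr (by omega))
          · rintro (h3 | h3 | h3)
            · exact Or.inr (by omega)
            · exact Or.inl h3
            · exact Or.inr (by omega)
        rw [e] at h2
        exact hE.mem_WJ_of_stab hG hB (by omega) _ h2 rfl (h k (by omega) hkJ)
  apply h1 D.rank le_rfl
  unfold Good.WJ at hτ ⊢
  refine Subgroup.closure_mono ?_ hτ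
  rintro _ ⟨j, hj, _, rfl⟩
  exact ⟨j, hj, Or.inr hj, rfl⟩

end

end CfsgLib.Chev
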