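/-
Signs of the Weyl group elements commuting with a symmetry, `Φ_J`.
-/
import Cfsg.Agent.Lib.Tw.ChevWeyl

set_option autoImplicit false

namespace CfsgLib.Chev

open Cfsg.Lie Cfsg.Lie.ChevalleyDatum CfsgLib.BN

section

variable {D : ChevalleyDatum} {C : Cert} (hG : Good D C) (hE : Extra D C) (hB : Braid D C)

/-- `τ` sends exactly the positive roots of `Φ_J` to negative roots. -/
def SignJ (D : ChevalleyDatum) (C : Cert) (τ : Equiv.Perm (Fin D.nroots)) (J : Set ℕ) : Prop :=
  ∀ r : Fin D.nroots, D.nroots / 2 ≤ r.val → (((τ r).val < D.nroots / 2) ↔ lamJ C D.rank J r = 0)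

/-- The negative root, as an element of `Fin`. -/
def Good.negF (hG : Good D C) (r : Fin D.nroots) : Fin D.nroots := ⟨D.neg r, hG.shp.neg_lt r r.2⟩

lemma Good.negF_val (r : Fin D.nroots) : (hG.negF r).val = D.neg r := rfl

lemma Good.negF_negF (r : Fin D.nroots) : hG.negF (hG.negF r) = r :=
  Fin.ext (hG.shp.neg_neg r r.2)

include hE in
lemma Extra.negF_lt_iff (r : Fin D.nroots) : (hG.negF r).val < D.nroots / 2 ↔ D.nroots / 2 ≤ r.val := by
  constructor
  · intro h
    by_contra h2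
    have h3 : r.val < D.nroots / 2 := not_le.1 h2
    -- the negative of a negative root is positive
    have h4 : D.nroots / 2 ≤ (hG.negF r).val := by
      apply hE.pos_of_coef hG (hG.negF r).2
      intro k hk
      rw [hG.negF_val, hG.coef_neg r.2 hk]
      have := hE.coefNeg r r.2 h3 k hk
      omega
    omega
  · intro h
    exact hE.neg_of_high hG r.2 h

include hE in
lemma Extra.le_negF_iff (r : Fin D.nroots) : D.nroots / 2 ≤ (hG.negF r).val ↔ r.val < D.nroots / 2 := by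
  have := hE.negF_lt_iff hG r
  omega

omit hG hE in
lemma Good.perm_negF (hG : Good D C) {J : Set ℕ} {σ : Equiv.Perm (Fin D.nroots)} (hσ : σ ∈ hG.WJ J) (s : Fin D.nroots) :
    σ (hG.negF s) = hG.negF (σ s) :=
  Fin.ext (hG.perm_neg hσ s (hG.negF s) rfl)

/-- `lamJ` is invariant under the Weyl group of `J`. -/
lemma Good.lamJ_perm {J : Set ℕ} {σ : Equiv.Perm (Fin D.nroots)} (hσ : σ ∈ hG.WJ J) (r : Fin D.nroots) :
    lamJ C D.rank J (σ r) = lamJ C D.rank J r := by
  classical
  unfold lamJ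
  apply Finset.sum_congr rfl
  intro j _
  split_ifs with h
  · rfl
  · exact hG.coef_preserved hσ j.2 h r

lemma Good.lamJ_negF (J : Set ℕ) (r : Fin D.nroots) : lamJ C D.rank J (hG.negF r) = - lamJ C D.rank J r :=
  (hG.addF_lamJ J).neg r r.2

include hE in
/-- The product of two elements of type `SignJ` has no inversions. -/
lemma Extra.invN_mul_signJ {J : Set ℕ} {τ τ' : Equiv.Perm (Fin D.nroots)} (hτ : τ ∈ hG.WJ J) (hτ' : τ' ∈ hG.WJ J)
    (h : SignJ D C τ J) (h' : SignJ D C τ' J) : invN D (τ * τ') = 0 := by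
  rw [invN_eq_zero_iff]
  intro r hr
  rw [Equiv.Perm.mul_apply]
  by_cases h0 : lamJ C D.rank J r = 0
  · have h1 : (τ' r).val < D.nroots / 2 := (h' r hr).2 h0
    set u := hG.negF (τ' r) with hu
    have hu1 : D.nroots / 2 ≤ u.val := (hE.le_negF_iff hG _).2 h1
    have hu2 : lamJ C D.rank J u = 0 := by
      rw [hu, hG.lamJ_negF, hG.lamJ_perm hτ', h0, neg_zero]
    have hu3 : (τ u).val < D.nroots / 2 := (h u hu1).2 hu2
    have e : τ (τ' r) = hG.negF (τ u) := by
      rw [← hG.perm_negF hτ, hu, hG.negF_negF]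
    rw [e]
    exact (hE.le_negF_iff hG _).2 hu3
  · have h1 : D.nroots / 2 ≤ (τ' r).val := by
      by_contra h2
      exact h0 ((h' r hr).1 (not_le.1 h2))
    by_contra h2
    apply h0
    have := (h (τ' r) h1).1 (not_le.1 h2)
    rwa [hG.lamJ_perm hτ'] at this

include hE hB in
lemma Extra.signJ_mul_eq_one {J : Set ℕ} {τ τ' : Equiv.Perm (Fin D.nroots)} (hτ : τ ∈ hG.WJ J) (hτ' : τ' ∈ hG.WJ J)
    (h : SignJ D C τ J) (h' : SignJ D C τ' J) : τ * τ' = 1 :=
  hE.eq_one_of_invN hG hB (mul_mem hτ hτ') (hE.invN_mul_signJ hG hτ hτ' h h')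

include hE hB in
lemma Extra.signJ_unique {J : Set ℕ} {τ τ' : Equiv.Perm (Fin D.nroots)} (hτ : τ ∈ hG.WJ J) (hτ' : τ' ∈ hG.WJ J)
    (h : SignJ D C τ J) (h' : SignJ D C τ' J) : τ = τ' := by
  have h1 := hE.signJ_mul_eq_one hG hB hτ hτ' h h'
  have h2 := hE.signJ_mul_eq_one hG hB hτ hτ h h
  exact mul_left_cancel (h2.trans h1.symm)

/-- The positive roots of `Φ_J`. -/
noncomputable def posJ (D : ChevalleyDatum) (C : Cert) (J : Set ℕ) : Finset (Fin D.nroots) :=
  open Classical in Finset.univ.filter fun r => D.nroots / 2 ≤ r.val ∧ lamJ C D.rank J r = 0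

lemma mem_posJ {J : Set ℕ} {r : Fin D.nroots} : r ∈ posJ D C J ↔ D.nroots / 2 ≤ r.val ∧ lamJ C D.rank J r = 0 := by
  classical
  unfold posJ
  simp

omit hG in
lemma SignJ.invN_eq {J : Set ℕ} {τ : Equiv.Perm (Fin D.nroots)} (h : SignJ D C τ J) : invN D τ = (posJ D C J).card := by
  classical
  unfold invN posJ
  congr 1
  ext r
  simp only [Finset.mem_filter, Finset.mem_univ, true_and]
  constructor
  · rintro ⟨h1, h2⟩
    exact ⟨h1, (h r h1).1 h2⟩
  · rintro ⟨h1, h2⟩
    exact ⟨h1, (h r h1).2 h2⟩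

include hE in
/-- Removing the roots of `Φ_J` from the inversions. -/
lemma Extra.invN_descent {J : Set ℕ} {τ τ' : Equiv.Perm (Fin D.nroots)} (hτ : τ ∈ hG.WJ Set.univ) (hτ' : τ' ∈ hG.WJ J)
    (h' : SignJ D C τ' J) (h : ∀ r : Fin D.nroots, D.nroots / 2 ≤ r.val → lamJ C D.rank J r = 0 → (τ r).val < D.nroots / 2) :
    invN D (τ * τ') + (posJ D C J).card = invN D τ := by
  classical
  set P := Finset.univ.filter fun r : Fin D.nroots => D.nroots / 2 ≤ r.val ∧ (τ r).val < D.nroots / 2 with hP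
  have hsub : posJ D C J ⊆ P := by
    intro r hr
    rw [mem_posJ] at hr
    rw [hP, Finset.mem_filter]
    exact ⟨Finset.mem_univ _, hr.1, h r hr.1 hr.2⟩
  have hcard : (P \ posJ D C J).card + (posJ D C J).card = P.card := Finset.card_sdiff_add_card_eq_card hsub
  have h1 : invN D (τ * τ') = (P \ posJ D C J).card := by
    unfold invN
    apply Finset.card_bij (fun r _ => τ' r)
    · intro r hr
      have hr' := (Finset.mem_filter.1 hr).2
      rw [Equiv.Perm.mul_apply] at hr'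
      obtain ⟨h2, h3⟩ := hr'
      rw [Finset.mem_sdiff, mem_posJ, hP, Finset.mem_filter]
      -- `r` is not in `Φ_J`
      have h4 : lamJ C D.rank J r ≠ 0 := by
        intro h5
        have h6 : (τ' r).val < D.nroots / 2 := (h' r h2).2 h5
        set u := hG.negF (τ' r) with hu
        have hu1 : D.nroots / 2 ≤ u.val := (hE.le_negF_iff hG _).2 h6
        have hu2 : lamJ C D.rank J u = 0 := by
          rw [hu, hG.lamJ_negF, hG.lamJ_perm hτ', h5, neg_zero]
        have hu3 := h u hu1 hu2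
        rw [hu, hG.perm_negF hτ] at hu3
        have := (hE.negF_lt_iff hG _).1 hu3
        omega
      have h8 : D.nroots / 2 ≤ (τ' r).val := by
        by_contra h9
        exact h4 ((h' r h2).1 (not_le.1 h9))
      refine ⟨⟨Finset.mem_univ _, h8, h3⟩, ?_⟩
      rintro ⟨_, h10⟩
      rw [hG.lamJ_perm hτ'] at h10
      exact h4 h10
    · intro a _ b _ e
      exact τ'.injective e
    · intro s hs
      rw [Finset.mem_sdiff, mem_posJ, hP, Finset.mem_filter] at hs
      obtain ⟨⟨_, hs1, hs2⟩, hs3⟩ := hs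
      have hs4 : lamJ C D.rank J s ≠ 0 := fun h5 => hs3 ⟨hs1, h5⟩
      have e : τ' (τ'⁻¹ s) = s := by simp
      have hs5 : lamJ C D.rank J (τ'⁻¹ s) = lamJ C D.rank J s := by
        have := hG.lamJ_perm hτ' (τ'⁻¹ s)
        rw [e] at this
        exact this.symm
      refine ⟨τ'⁻¹ s, ?_, e⟩
      refine Finset.mem_filter.2 ⟨Finset.mem_univ _, ?_, ?_⟩
      · by_contra h9
        have h10 := hE.lamJ_nonpos hG J (τ'⁻¹ s).2 (not_le.1 h9)
        have h11 := hE.lamJ_nonneg hG J s.2 hs1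
        rw [hs5] at h10
        exact hs4 (le_antisymm h10 h11)
      · rw [Equiv.Perm.mul_apply, e]
        exact hs2
  rw [h1, hcard]
  rfl

include hE hB in
/-- Adding the roots of `Φ_J` to the inversions. -/
lemma Extra.invN_ascent {J : Set ℕ} {τ τ' : Equiv.Perm (Fin D.nroots)} (hτ : τ ∈ hG.WJ Set.univ) (hτ' : τ' ∈ hG.WJ J)
    (h' : SignJ D C τ' J) (h : ∀ r : Fin D.nroots, D.nroots / 2 ≤ r.val → lamJ C D.rank J r = 0 → D.nroots / 2 ≤ (τ r).val) :
    invN D (τ * τ') = invN D τ + (posJ D C J).card := by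
  have hτ2 : τ' ∈ hG.WJ Set.univ := hG.WJ_mono (Set.subset_univ _) hτ'
  have h1 := hE.invN_descent hG (τ := τ * τ') (mul_mem hτ hτ2) hτ' h' (by
    intro r hr hr0
    rw [Equiv.Perm.mul_apply]
    have h6 : (τ' r).val < D.nroots / 2 := (h' r hr).2 hr0
    set u := hG.negF (τ' r) with hu
    have hu1 : D.nroots / 2 ≤ u.val := (hE.le_negF_iff hG _).2 h6
    have hu2 : lamJ C D.rank J u = 0 := by
      rw [hu, hG.lamJ_negF, hG.lamJ_perm hτ', hr0, neg_zero]
    have hu3 := h u hu1 hu2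
    rw [hu, hG.perm_negF hτ] at hu3
    exact (hE.le_negF_iff hG _).1 hu3)
  have h2 := hE.signJ_mul_eq_one hG hB hτ' hτ' h' h'
  rw [mul_assoc, h2, mul_one] at h1
  exact h1.symm

include hE hB in
/-- An element of the Weyl group of `J`, with a constant sign on `J`, is either trivial or of type `SignJ`. -/
theorem Extra.signJ_of_orbit {J : Set ℕ} {τ : Equiv.Perm (Fin D.nroots)} (hτ : τ ∈ hG.WJ J)
    (horb : ∀ (i : ℕ) (hi : i < D.rank) (i' : ℕ) (hi' : i' < D.rank), i ∈ J → i' ∈ J →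
      (τ ⟨D.simple i, hG.simple_lt hi⟩).val < D.nroots / 2 → (τ ⟨D.simple i', hG.simple_lt hi'⟩).val < D.nroots / 2)
    (hne : τ ≠ 1) : SignJ D C τ J := by
  have hinv : invN D τ ≠ 0 := fun h => hne (hE.eq_one_of_invN hG hB hτ h)
  obtain ⟨i, hi, hineg⟩ := hE.exists_simple_neg hG hτ hinv
  have hiJ : i ∈ J := by
    by_contra hiJ
    have h1 := hG.coef_preserved hτ hi hiJ ⟨D.simple i, hG.simple_lt hi⟩
    have h2 : C.coef (D.simple i) i = 1 := hE.coef_simple_self hG hi
    have h3 := hE.coefNeg _ (τ _).2 hineg i hi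
    simp only at h1
    omega
  intro r hr
  constructor
  · intro h1
    by_contra h2
    obtain ⟨k, hk, hkJ, hpos⟩ := hE.exists_coef_pos hG r.2 hr h2
    have h3 := hG.coef_preserved hτ hk hkJ r
    have h4 := hE.coefNeg _ (τ r).2 h1 k hk
    omega
  · intro h1
    apply hE.neg_of_support hG hτ (J' := J) _ r hr
    · intro k hk hkJ
      exact hE.coef_zero_of_lam hG r.2 h1 hk hkJ
    · intro j hj hjJ
      exact horb i hi j hj hiJ hjJ hineg

end

end CfsgLib.Chev
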