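/-
From the fixed points of the root subgroups of the orbits to the data of a group with a (B,N)-pair.
-/
import Cfsg.Agent.Lib.Tw.ChevSign

set_option autoImplicit false

namespace CfsgLib.Chev

open Cfsg.Lie Cfsg.Lie.ChevalleyDatum CfsgLib.BN

section

variable {D : ChevalleyDatum} {C : Cert} (hG : Good D C) {K : Type*} [Field K] (hE : Extra D C) (hB : Braid D C)

/-- The positive root elements with a given property. -/
def Good.Xp (hG : Good D C) (K : Type*) [Field K] (P : ℕ → Prop) : Subgroup (GL D.Idx K) :=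
  Subgroup.closure {g | ∃ (r : ℕ) (t : K), r < D.nroots ∧ D.nroots / 2 ≤ r ∧ P r ∧ g = hG.xG r t}

/-- The negative root elements with a given property. -/
def Good.Xm (hG : Good D C) (K : Type*) [Field K] (P : ℕ → Prop) : Subgroup (GL D.Idx K) :=
  Subgroup.closure {g | ∃ (r : ℕ) (t : K), r < D.nroots ∧ r < D.nroots / 2 ∧ P r ∧ g = hG.xG r t}

lemma Good.Xp_mono {P Q : ℕ → Prop} (h : ∀ r, r < D.nroots → D.nroots / 2 ≤ r → P r → Q r) : hG.Xp K P ≤ hG.Xp K Q := by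
  apply Subgroup.closure_mono
  rintro _ ⟨r, t, h1, h2, h3, rfl⟩
  exact ⟨r, t, h1, h2, h _ h1 h2 h3, rfl⟩

lemma Good.Xm_mono {P Q : ℕ → Prop} (h : ∀ r, r < D.nroots → r < D.nroots / 2 → P r → Q r) : hG.Xm K P ≤ hG.Xm K Q := by
  apply Subgroup.closure_mono
  rintro _ ⟨r, t, h1, h2, h3, rfl⟩
  exact ⟨r, t, h1, h2, h _ h1 h2 h3, rfl⟩

lemma Good.Xp_le_of {P : ℕ → Prop} {M : Subgroup (GL D.Idx K)} (h : ∀ r, r < D.nroots → D.nroots / 2 ≤ r → P r → ∀ t : K, hG.xG r t ∈ M) :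
    hG.Xp K P ≤ M := by
  apply (Subgroup.closure_le _).2
  rintro _ ⟨r, t, h1, h2, h3, rfl⟩
  exact h r h1 h2 h3 t

lemma Good.Xm_le_of {P : ℕ → Prop} {M : Subgroup (GL D.Idx K)} (h : ∀ r, r < D.nroots → r < D.nroots / 2 → P r → ∀ t : K, hG.xG r t ∈ M) :
    hG.Xm K P ≤ M := by
  apply (Subgroup.closure_le _).2
  rintro _ ⟨r, t, h1, h2, h3, rfl⟩
  exact h r h1 h2 h3 t

include hE

lemma Extra.Xp_le_U (P : ℕ → Prop) : hG.Xp K P ≤ D.posUnipotent K :=
  hG.Xp_le_of fun r h1 h2 _ t => hG.posUnipotent_mem ((hE.posIff r h1).2 h2) t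

lemma Extra.Xm_le_V (P : ℕ → Prop) : hG.Xm K P ≤ D.negUnipotent K :=
  hG.Xm_le_of fun r h1 h2 _ t => hG.negUnipotent_mem ((hE.negIff r h1).2 h2) t

/-- Splitting `U` along a property of the roots. -/
lemma Extra.split_pred (P : ℕ → Prop) {u : GL D.Idx K} (hu : u ∈ D.posUnipotent K) :
    ∃ u₀ ∈ hG.Xp K P, ∃ u₁ ∈ hG.Xp K (fun r => ¬ P r), u = u₀ * u₁ := by
  classical
  obtain ⟨hL1, hL2, hL3⟩ := posL_spec D.nroots P
  obtain ⟨τ, e⟩ := hE.unipotent_prodL hG hL1 hL2 hL3 hu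
  rw [hG.prodL_append] at e
  refine ⟨_, hG.prodL_mem ?_ τ, _, hG.prodL_mem ?_ τ, e⟩
  · intro r hr t
    have h1 := hL2 r (List.mem_append.2 (Or.inl hr))
    have h3 : P r := by simpa using (List.mem_filter.1 hr).2
    exact Subgroup.subset_closure ⟨r, t, h1.2, h1.1, h3, rfl⟩
  · intro r hr t
    have h1 := hL2 r (List.mem_append.2 (Or.inr hr))
    have h3 : ¬ P r := by simpa using (List.mem_filter.1 hr).2
    exact Subgroup.subset_closure ⟨r, t, h1.2, h1.1, h3, rfl⟩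

/-- Conjugates of root elements by a monomial element. -/
lemma Extra.conj_Xp_U {m : GL D.Idx K} {τ : Equiv.Perm (Fin D.nroots)} {d : Fin D.nroots → K} (hi : IsMono hG m τ d) {P : ℕ → Prop}
    (h : ∀ r : Fin D.nroots, D.nroots / 2 ≤ r.val → P r → D.nroots / 2 ≤ (τ r).val) {x : GL D.Idx K} (hx : x ∈ hG.Xp K P) :
    m * x * m⁻¹ ∈ D.posUnipotent K := by
  have : hG.Xp K P ≤ (D.posUnipotent K).comap (MulAut.conj m).toMonoidHom := by
    apply hG.Xp_le_of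
    intro r h1 h2 h3 t
    show m * hG.xG r t * m⁻¹ ∈ D.posUnipotent K
    rw [hi.conj ⟨r, h1⟩ t]
    exact hG.posUnipotent_mem ((hE.posIff _ (τ _).2).2 (h ⟨r, h1⟩ h2 h3)) _
  exact this hx

lemma Extra.conj_Xp_V {m : GL D.Idx K} {τ : Equiv.Perm (Fin D.nroots)} {d : Fin D.nroots → K} (hi : IsMono hG m τ d) {P : ℕ → Prop}
    (h : ∀ r : Fin D.nroots, D.nroots / 2 ≤ r.val → P r → (τ r).val < D.nroots / 2) {x : GL D.Idx K} (hx : x ∈ hG.Xp K P) :
    m * x * m⁻¹ ∈ D.negUnipotent K := by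
  have : hG.Xp K P ≤ (D.negUnipotent K).comap (MulAut.conj m).toMonoidHom := by
    apply hG.Xp_le_of
    intro r h1 h2 h3 t
    show m * hG.xG r t * m⁻¹ ∈ D.negUnipotent K
    rw [hi.conj ⟨r, h1⟩ t]
    exact hG.negUnipotent_mem ((hE.negIff _ (τ _).2).2 (h ⟨r, h1⟩ h2 h3)) _
  exact this hx

lemma Extra.conj_Xm_U {m : GL D.Idx K} {τ : Equiv.Perm (Fin D.nroots)} {d : Fin D.nroots → K} (hi : IsMono hG m τ d) {P : ℕ → Prop}
    (h : ∀ r : Fin D.nroots, r.val < D.nroots / 2 → P r → D.nroots / 2 ≤ (τ r).val) {x : GL D.Idx K} (hx : x ∈ hG.Xm K P) :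
    m * x * m⁻¹ ∈ D.posUnipotent K := by
  have : hG.Xm K P ≤ (D.posUnipotent K).comap (MulAut.conj m).toMonoidHom := by
    apply hG.Xm_le_of
    intro r h1 h2 h3 t
    show m * hG.xG r t * m⁻¹ ∈ D.posUnipotent K
    rw [hi.conj ⟨r, h1⟩ t]
    exact hG.posUnipotent_mem ((hE.posIff _ (τ _).2).2 (h ⟨r, h1⟩ h2 h3)) _
  exact this hx

/-- The elements of `U` sent into `V`. -/
lemma Extra.Un_le {m u : GL D.Idx K} {τ : Equiv.Perm (Fin D.nroots)} {d : Fin D.nroots → K} (hi : IsMono hG m τ d)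
    (hu : u ∈ D.posUnipotent K) (hv : m * u * m⁻¹ ∈ D.negUnipotent K) :
    u ∈ hG.Xp K (fun r => ∃ hr : r < D.nroots, (τ ⟨r, hr⟩).val < D.nroots / 2) := by
  obtain ⟨u₀, h0, u₁, h1, rfl⟩ := hE.split_pred hG (fun r => ∃ hr : r < D.nroots, (τ ⟨r, hr⟩).val < D.nroots / 2) hu
  have h2 : m * u₁ * m⁻¹ ∈ D.posUnipotent K := by
    apply hE.conj_Xp_U hG hi _ h1
    intro r _ h3
    by_contra h4
    exact h3 ⟨r.2, not_le.1 h4⟩
  have h3 : m * u₀ * m⁻¹ ∈ D.negUnipotent K := by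
    apply hE.conj_Xp_V hG hi _ h0
    rintro r _ ⟨_, h4⟩
    exact h4
  have h4 : m * u₁ * m⁻¹ ∈ D.negUnipotent K := by
    have e : m * u₁ * m⁻¹ = (m * u₀ * m⁻¹)⁻¹ * (m * (u₀ * u₁) * m⁻¹) := by group
    rw [e]
    exact mul_mem (inv_mem h3) hv
  have h5 := hE.U_V hG h2 h4
  have h6 : u₁ = 1 := by
    have e : u₁ = m⁻¹ * (m * u₁ * m⁻¹) * m := by group
    rw [e, h5]
    group
  rw [h6, mul_one]
  exact h0

include hG in
/-- `lamJ` of simple roots. -/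
lemma Extra.lamJ_simple {J : Set ℕ} {i : ℕ} (hi : i < D.rank) (hiJ : i ∈ J) : lamJ C D.rank J (D.simple i) = 0 := by
  classical
  unfold lamJ
  apply Finset.sum_eq_zero
  intro j _
  split_ifs with h
  · rfl
  · exact hE.coef_simple_ne hG hi j.2 (by
      rintro e
      apply h
      rw [← e]
      exact hiJ)

include hG in
lemma Extra.mem_of_lamJ_simple {J : Set ℕ} {i : ℕ} (hi : i < D.rank) (h : lamJ C D.rank J (D.simple i) = 0) : i ∈ J := by
  have h1 := (hE.lamJ_eq_zero_iff hG J (hG.simple_lt hi)).1 h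
  apply hE.mem_of_coef_pos hG h1 hi
  rw [hE.coef_simple_self hG hi]
  exact one_ne_zero

/-- Root elements of `Φ_J` lie in `L_J`. -/
lemma Extra.x_mem_levi {J : Set ℕ} {r : ℕ} (hr : r < D.nroots) (h : lamJ C D.rank J r = 0) (t : K) : hG.xG r t ∈ D.leviSubgroup K J := by
  rw [hE.levi_eq hG]
  exact Subgroup.mem_sup_right (Subgroup.subset_closure ⟨r, ⟨hr, h⟩, t, rfl⟩)

/-- The intersection of `U` with `L_J`. -/
lemma Extra.U_inf_levi {J : Set ℕ} {u : GL D.Idx K} (hu : u ∈ D.posUnipotent K) (hv : u ∈ D.leviSubgroup K J) :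
    u ∈ hG.Xp K (fun r => lamJ C D.rank J r = 0) := by
  obtain ⟨u₀, h0, u₁, h1, rfl⟩ := hE.split_pred hG (fun r => lamJ C D.rank J r = 0) hu
  have h2 : hG.Xp K (fun r => lamJ C D.rank J r = 0) ≤ D.leviSubgroup K J :=
    hG.Xp_le_of fun r h3 _ h5 t => hE.x_mem_levi hG h3 h5 t
  have h3 : hG.Xp K (fun r => ¬ lamJ C D.rank J r = 0) ≤ D.unipotentRadical K J := by
    rw [hE.unipotentRadical_eq hG]
    apply hG.Xp_le_of
    intro r h3 h4 h5 t
    refine Subgroup.subset_closure ⟨r, ⟨h3, ?_⟩, t, rfl⟩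
    have := hE.lamJ_nonneg hG J h3 h4
    omega
  have h4 : u₁ ∈ D.leviSubgroup K J := by
    have e : u₁ = u₀⁻¹ * (u₀ * u₁) := by group
    rw [e]
    exact mul_mem (inv_mem (h2 h0)) hv
  have h5 : u₁ ∈ D.unipotentRadical K J ⊓ D.leviSubgroup K J := Subgroup.mem_inf.2 ⟨h3 h1, h4⟩
  rw [hE.inf_levi hG] at h5
  rw [Subgroup.mem_bot.1 h5, mul_one]
  exact h0

/-- Words in the simple reflections of `J` lie in `L_J`. -/
lemma Extra.nW_mem_levi {J : Set ℕ} {L : List ℕ} (hL : ∀ i ∈ L, i < D.rank ∧ i ∈ J) : hG.nW K L ∈ D.leviSubgroup K J := by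
  induction L with
  | nil => exact one_mem _
  | cons a L ih =>
    rw [hG.nW_cons]
    refine mul_mem ?_ (ih fun i hi => hL i (List.mem_cons_of_mem _ hi))
    obtain ⟨ha, haJ⟩ := hL a (List.mem_cons_self ..)
    rw [hG.nG'_of_lt ha, hG.nG_eq ha]
    have hs := hG.simple_lt ha
    have h0 := hE.lamJ_simple hG ha haJ
    have h1 : lamJ C D.rank J (D.neg (D.simple a)) = 0 := by
      have := hG.lamJ_negF J ⟨D.simple a, hs⟩
      have e : ((hG.negF ⟨D.simple a, hs⟩ : Fin D.nroots) : ℕ) = D.neg (D.simple a) := rfl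
      rw [e] at this
      rw [this]
      simp only
      rw [h0, neg_zero]
    show hG.xG _ _ * hG.xG _ _ * hG.xG _ _ ∈ _
    exact mul_mem (mul_mem (hE.x_mem_levi hG hs h0 _) (hE.x_mem_levi hG (hG.shp.neg_lt _ hs) h1 _)) (hE.x_mem_levi hG hs h0 _)

include hB

/-- An element of `N` with permutation in `W_J` lies in `L_J`. -/
lemma Extra.mem_levi_of_perm {J : Set ℕ} {m : GL D.Idx K} {τ : Equiv.Perm (Fin D.nroots)} {d : Fin D.nroots → K}
    (hm : m ∈ D.monomialSubgroup K) (hi : IsMono hG m τ d) (hτ : τ ∈ hG.WJ J) : m ∈ D.leviSubgroup K J := by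
  obtain ⟨L, hL, rfl⟩ := hG.exists_word hτ
  have hL' : ∀ i ∈ L, i < D.rank := fun i hi => (hL i hi).1
  have hm2 := hG.isMono_nW (F := K) hL'
  have h1 : m * (hG.nW K L)⁻¹ ∈ D.diagonalSubgroup K := by
    have h3 := hi.mul hm2.inv
    rw [mul_inv_cancel] at h3
    exact hE.mem_H_of_perm hG hB (mul_mem hm (inv_mem (hG.nW_mem_N L))) h3
  have e : m = (m * (hG.nW K L)⁻¹) * hG.nW K L := by group
  rw [e]
  refine mul_mem ?_ (hE.nW_mem_levi hG hL)
  unfold ChevalleyDatum.leviSubgroup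
  exact Subgroup.mem_sup_left h1

/-- An element of `N ∩ P_J` has permutation in `W_J`. -/
lemma Extra.perm_mem_WJ {J : Set ℕ} {m : GL D.Idx K} {τ : Equiv.Perm (Fin D.nroots)} {d : Fin D.nroots → K}
    (hm : m ∈ D.monomialSubgroup K) (hP : m ∈ D.parabolicSubgroup K J) (hi : IsMono hG m τ d) : τ ∈ hG.WJ J :=
  hE.mem_WJ_of_coef hG hB (hE.perm_mem_W hG hB hm hi) fun k hk hkJ r => hE.coef_preserved_of_parabolic hG hP hi hk hkJ r

/-- Elements of `H` have trivial permutation. -/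
lemma Extra.perm_of_H {m : GL D.Idx K} {τ : Equiv.Perm (Fin D.nroots)} {d : Fin D.nroots → K}
    (hm : m ∈ D.diagonalSubgroup K) (hi : IsMono hG m τ d) : τ = 1 := by
  rw [← hE.KK_eq hG hB] at hm
  obtain ⟨_, d', hd'⟩ := hm
  exact hi.perm_unique hd'

end

section act

variable {D : ChevalleyDatum} {C : Cert} {hG : Good D C} {K : Type*} [Field K] (A : TwAct hG K) (hE : Extra D C) (hB : Braid D C)

namespace TwAct

include hE

/-- The permutation of a fixed element of `N` commutes with the action on the roots. -/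
lemma perm_comm {m : GL D.Idx K} {τ : Equiv.Perm (Fin D.nroots)} {d : Fin D.nroots → K} (hmG : m ∈ D.group K) (hs : A.s m = m)
    (hi : IsMono hG m τ d) (r : Fin D.nroots) :
    (τ ⟨A.π r, A.π_lt r r.2⟩).val = A.π (τ r).val := by
  have h0 : m * hG.xG r 1 * m⁻¹ = hG.xG (τ r) (d r * 1) := hi.conj r 1
  have h1 := congrArg A.s h0
  rw [A.s_mul (mul_mem hmG (hG.mem_group r.2 1)) (inv_mem hmG), A.s_mul hmG (hG.mem_group r.2 1), A.s_inv hmG, hs,
    A.s_x r.2, A.s_x (τ r).2] at h1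
  have h2 := hi.conj ⟨A.π r, A.π_lt r r.2⟩ (A.f r 1)
  simp only at h2
  rw [h2] at h1
  refine hE.xG_root_eq hG (τ _).2 (mul_ne_zero (hi.d_ne _) (A.f_ne r r.2 1 one_ne_zero)) (A.π_lt _ (τ r).2) h1

/-- The sign is constant along the orbits. -/
lemma sign_pi {τ : Equiv.Perm (Fin D.nroots)}
    (hc : ∀ r : Fin D.nroots, (τ ⟨A.π r, A.π_lt r r.2⟩).val = A.π (τ r).val) (k : ℕ) (r : Fin D.nroots) :
    ∃ h : A.π^[k] r < D.nroots, ((τ ⟨A.π^[k] r, h⟩).val < D.nroots / 2 ↔ (τ r).val < D.nroots / 2) := by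
  induction k generalizing r with
  | zero => exact ⟨r.2, Iff.rfl⟩
  | succ k ih =>
    have hr : A.π r < D.nroots := A.π_lt r r.2
    obtain ⟨h1, h2⟩ := ih ⟨A.π r, hr⟩
    refine ⟨h1, ?_⟩
    simp only [Function.iterate_succ_apply] 
    rw [h2, hc r]
    have := A.π_pos _ (τ r).2
    omega

end TwAct

/-- The data of a twisted group. -/
structure TwData (A : TwAct hG K) (T : Subgroup (GL D.Idx K)) where
  T_le : T ≤ D.group K
  T_fix : ∀ g ∈ T, A.s g = g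
  ι : Type
  J : ι → Set ℕ
  J_lt : ∀ j, ∀ i ∈ J j, i < D.rank
  J_inj : ∀ j j', J j = J j' → j = j'
  J_cover : ∀ i < D.rank, ∃ j, i ∈ J j
  J_orbit : ∀ j, ∀ i ∈ J j, ∀ i' ∈ J j, ∃ k, A.π^[k] (D.simple i) = D.simple i'
  X_T : ∀ j, ∀ x ∈ hG.Xp K (fun r => lamJ C D.rank (J j) r = 0), A.s x = x → x ∈ T
  Y_T : ∀ j, ∀ x ∈ hG.Xm K (fun r => lamJ C D.rank (J j) r = 0), A.s x = x → x ∈ T
  Y_ne : ∀ j, ∃ y ∈ hG.Xm K (fun r => lamJ C D.rank (J j) r = 0), A.s y = y ∧ y ≠ 1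

namespace TwData

variable {A} {T : Subgroup (GL D.Idx K)} (Dt : TwData A T)

include hE in
/-- The sign of a fixed permutation on an orbit. -/
lemma sign_orbit {τ : Equiv.Perm (Fin D.nroots)} 
    (hc : ∀ r : Fin D.nroots, (τ ⟨A.π r, A.π_lt r r.2⟩).val = A.π (τ r).val) (j : Dt.ι)
    (i : ℕ) (hi : i < D.rank) (i' : ℕ) (hi' : i' < D.rank) (hiJ : i ∈ Dt.J j) (hiJ' : i' ∈ Dt.J j) :
    ((τ ⟨D.simple i, hG.simple_lt hi⟩).val < D.nroots / 2 ↔ (τ ⟨D.simple i', hG.simple_lt hi'⟩).val < D.nroots / 2) := by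
  obtain ⟨k, hk⟩ := Dt.J_orbit j i hiJ i' hiJ'
  obtain ⟨h1, h2⟩ := A.sign_pi hE hc k ⟨D.simple i, hG.simple_lt hi⟩
  simp only at h1 h2
  rw [← h2]
  have e : (⟨A.π^[k] (D.simple i), h1⟩ : Fin D.nroots) = ⟨D.simple i', hG.simple_lt hi'⟩ := Fin.ext hk
  rw [e]

include hE hB

/-- Existence of the elements `w_j`. -/
theorem exists_w (j : Dt.ι) : ∃ (w : GL D.Idx K) (τ : Equiv.Perm (Fin D.nroots)) (d : Fin D.nroots → K),
    w ∈ D.monomialSubgroup K ∧ w ∈ T ∧ w ∈ D.parabolicSubgroup K (Dt.J j) ∧ IsMono hG w τ d ∧ τ ∈ hG.WJ (Dt.J j) ∧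
      SignJ D C τ (Dt.J j) := by
  set J := Dt.J j with hJ
  obtain ⟨y, hy, hys, hy1⟩ := Dt.Y_ne j
  set S := A.base hE hB with hS
  have hyV := hE.Xm_le_V hG _ hy
  have hyG : y ∈ S.Fx := ⟨hG.negUnipotent_le_group hyV, hys⟩
  obtain ⟨a, ha, m, hm, c, hc, e, hv⟩ := S.canonical_fixed hyG
  have haU : a ∈ D.posUnipotent K := ha.1
  have hcU : c ∈ D.posUnipotent K := hc.1
  have hmN : m ∈ D.monomialSubgroup K := hm.1
  have hys' : y ∈ D.parabolicSubgroup K J := by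
    rw [hE.parabolic_eq_gens hG]
    apply Subgroup.mem_sup_right
    have : hG.Xm K (fun r => lamJ C D.rank J r = 0) ≤ hG.Xge K J := by
      apply hG.Xm_le_of
      intro r h1 _ h3 t
      exact Subgroup.subset_closure ⟨r, ⟨h1, by omega⟩, t, rfl⟩
    exact this hy
  have hUP : D.posUnipotent K ≤ D.parabolicSubgroup K J := le_trans le_sup_left le_sup_left
  have hmP : m ∈ D.parabolicSubgroup K J := by
    have e2 : m = a⁻¹ * y * c⁻¹ := by
      rw [e]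
      group
    rw [e2]
    exact mul_mem (mul_mem (inv_mem (hUP haU)) hys') (inv_mem (hUP hcU))
  obtain ⟨τ, d, hi⟩ := hG.mono_of_mem_N hE hmN
  have hτ := hE.perm_mem_WJ hG hB hmN hmP hi
  have hcomm := A.perm_comm hE (hG.monomial_le_group hmN) hm.2.2 hi
  have hτ1 : τ ≠ 1 := by
    rintro rfl
    have hmH := hE.mem_H_of_perm hG hB hmN hi
    apply hy1
    apply hE.B_V hG _ hyV
    rw [e]
    exact mul_mem (mul_mem (Subgroup.mem_sup_left haU) (Subgroup.mem_sup_right hmH)) (Subgroup.mem_sup_left hcU)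
  have hsign : SignJ D C τ J := by
    apply hE.signJ_of_orbit hG hB hτ _ hτ1
    intro i hi i' hi' hiJ hiJ' h
    exact (Dt.sign_orbit hE hcomm j i hi i' hi' hiJ hiJ').1 h
  refine ⟨m, τ, d, hmN, ?_, hmP, hi, hτ, hsign⟩
  have hyT : y ∈ T := Dt.Y_T j y hy hys
  have hcX := hE.Un_le hG hi hcU hv
  have hcX' : c ∈ hG.Xp K (fun r => lamJ C D.rank J r = 0) := by
    refine hG.Xp_mono ?_ hcX
    rintro r h1 h2 ⟨_, h3⟩
    exact (hsign ⟨r, h1⟩ h2).1 h3
  have hcT : c ∈ T := Dt.X_T j c hcX' hc.2.2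
  have hmL := hE.mem_levi_of_perm hG hB hmN hi hτ
  have hyL : y ∈ D.leviSubgroup K J := by
    have : hG.Xm K (fun r => lamJ C D.rank J r = 0) ≤ D.leviSubgroup K J :=
      hG.Xm_le_of fun r h1 _ h3 t => hE.x_mem_levi hG h1 h3 t
    exact this hy
  have hcL : c ∈ D.leviSubgroup K J := by
    have : hG.Xp K (fun r => lamJ C D.rank J r = 0) ≤ D.leviSubgroup K J :=
      hG.Xp_le_of fun r h1 _ h3 t => hE.x_mem_levi hG h1 h3 t
    exact this hcX'
  have haL : a ∈ D.leviSubgroup K J := by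
    have e2 : a = y * c⁻¹ * m⁻¹ := by
      rw [e]
      group
    rw [e2]
    exact mul_mem (mul_mem hyL (inv_mem hcL)) (inv_mem hmL)
  have haT : a ∈ T := Dt.X_T j a (hE.U_inf_levi hG haU haL) ha.2.2
  have e2 : m = a⁻¹ * y * c⁻¹ := by
    rw [e]
    group
  rw [e2]
  exact mul_mem (mul_mem (inv_mem haT) hyT) (inv_mem hcT)

end TwData

end act

end CfsgLib.Chev
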