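/-
The twisted groups from their data: the structure `Twist`.
-/
import Cfsg.Agent.Lib.Tw.ChevData

set_option autoImplicit false

namespace CfsgLib.Chev

open Cfsg.Lie Cfsg.Lie.ChevalleyDatum CfsgLib.BN

section

variable {D : ChevalleyDatum} {C : Cert} {hG : Good D C} {K : Type*} [Field K] {A : TwAct hG K}

open Classical in
/-- The permutation of an element. -/
noncomputable def Good.permOf (hG : Good D C) (g : GL D.Idx K) : Equiv.Perm (Fin D.nroots) :=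
  if h : ∃ π d, IsMono hG g π d then h.choose else 1

lemma permOf_eq {g : GL D.Idx K} {π : Equiv.Perm (Fin D.nroots)} {d : Fin D.nroots → K} (h : IsMono hG g π d) : hG.permOf g = π := by
  have h1 : ∃ π d, IsMono hG g π d := ⟨π, d, h⟩
  unfold Good.permOf
  rw [dif_pos h1]
  obtain ⟨d', hd'⟩ := h1.choose_spec
  exact hd'.perm_unique h

lemma invN_le (τ : Equiv.Perm (Fin D.nroots)) : invN D τ ≤ D.nroots := by
  classical
  unfold invN
  refine le_trans (Finset.card_filter_le _ _) ?_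
  simp

namespace TwData

variable {T : Subgroup (GL D.Idx K)} (Dt : TwData A T) (hE : Extra D C) (hB : Braid D C)

/-- The chosen elements. -/
noncomputable def w (j : Dt.ι) : GL D.Idx K := (Dt.exists_w hE hB j).choose
/-- Their permutations. -/
noncomputable def τw (j : Dt.ι) : Equiv.Perm (Fin D.nroots) := (Dt.exists_w hE hB j).choose_spec.choose
/-- Their scalars. -/
noncomputable def dw (j : Dt.ι) : Fin D.nroots → K := (Dt.exists_w hE hB j).choose_spec.choose_spec.choose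

lemma w_spec (j : Dt.ι) : Dt.w hE hB j ∈ D.monomialSubgroup K ∧ Dt.w hE hB j ∈ T ∧ Dt.w hE hB j ∈ D.parabolicSubgroup K (Dt.J j) ∧
    IsMono hG (Dt.w hE hB j) (Dt.τw hE hB j) (Dt.dw hE hB j) ∧ Dt.τw hE hB j ∈ hG.WJ (Dt.J j) ∧ SignJ D C (Dt.τw hE hB j) (Dt.J j) :=
  (Dt.exists_w hE hB j).choose_spec.choose_spec.choose_spec

lemma w_N (j : Dt.ι) : Dt.w hE hB j ∈ D.monomialSubgroup K := (Dt.w_spec hE hB j).1
lemma w_T (j : Dt.ι) : Dt.w hE hB j ∈ T := (Dt.w_spec hE hB j).2.1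
lemma w_P (j : Dt.ι) : Dt.w hE hB j ∈ D.parabolicSubgroup K (Dt.J j) := (Dt.w_spec hE hB j).2.2.1
lemma w_mono (j : Dt.ι) : IsMono hG (Dt.w hE hB j) (Dt.τw hE hB j) (Dt.dw hE hB j) := (Dt.w_spec hE hB j).2.2.2.1
lemma w_W (j : Dt.ι) : Dt.τw hE hB j ∈ hG.WJ (Dt.J j) := (Dt.w_spec hE hB j).2.2.2.2.1
lemma w_sign (j : Dt.ι) : SignJ D C (Dt.τw hE hB j) (Dt.J j) := (Dt.w_spec hE hB j).2.2.2.2.2

lemma w_W' (j : Dt.ι) : Dt.τw hE hB j ∈ hG.WJ Set.univ := hG.WJ_mono (Set.subset_univ _) (Dt.w_W hE hB j)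

lemma τw_sq (j : Dt.ι) : Dt.τw hE hB j * Dt.τw hE hB j = 1 :=
  hE.signJ_mul_eq_one hG hB (Dt.w_W hE hB j) (Dt.w_W hE hB j) (Dt.w_sign hE hB j) (Dt.w_sign hE hB j)

lemma w_sq (j : Dt.ι) : Dt.w hE hB j * Dt.w hE hB j ∈ D.diagonalSubgroup K := by
  have h := (Dt.w_mono hE hB j).mul (Dt.w_mono hE hB j)
  rw [Dt.τw_sq hE hB j] at h
  exact hE.mem_H_of_perm hG hB (mul_mem (Dt.w_N hE hB j) (Dt.w_N hE hB j)) h

include hE in
/-- Negative on `Φ_J⁺` means positive on `Φ_J⁻`. -/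
lemma sign_flip {J : Set ℕ} {τ τ' : Equiv.Perm (Fin D.nroots)} (hτ : τ ∈ hG.WJ Set.univ) (hτ' : τ' ∈ hG.WJ J) (h' : SignJ D C τ' J)
    (h : ∀ r : Fin D.nroots, D.nroots / 2 ≤ r.val → lamJ C D.rank J r = 0 → (τ r).val < D.nroots / 2)
    (r : Fin D.nroots) (hr : D.nroots / 2 ≤ r.val) (hr0 : lamJ C D.rank J r = 0) : D.nroots / 2 ≤ (τ (τ' r)).val := by
  have h6 : (τ' r).val < D.nroots / 2 := (h' r hr).2 hr0
  set u := hG.negF (τ' r) with hu
  have hu1 : D.nroots / 2 ≤ u.val := (hE.le_negF_iff hG _).2 h6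
  have hu2 : lamJ C D.rank J u = 0 := by
    rw [hu, hG.lamJ_negF, hG.lamJ_perm hτ', hr0, neg_zero]
  have hu3 := h u hu1 hu2
  rw [hu, hG.perm_negF hτ] at hu3
  exact (hE.negF_lt_iff hG _).1 hu3

include hE in
/-- The dichotomy on `Φ_J⁺` for a fixed element. -/
lemma dichotomy {τ : Equiv.Perm (Fin D.nroots)} (hτ : τ ∈ hG.WJ Set.univ)
    (hc : ∀ r : Fin D.nroots, (τ ⟨A.π r, A.π_lt r r.2⟩).val = A.π (τ r).val) (j : Dt.ι) :
    (∀ r : Fin D.nroots, D.nroots / 2 ≤ r.val → lamJ C D.rank (Dt.J j) r = 0 → (τ r).val < D.nroots / 2) ∨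
    (∀ r : Fin D.nroots, D.nroots / 2 ≤ r.val → lamJ C D.rank (Dt.J j) r = 0 → D.nroots / 2 ≤ (τ r).val) := by
  by_cases h : ∃ (i : ℕ) (hi : i < D.rank), i ∈ Dt.J j ∧ (τ ⟨D.simple i, hG.simple_lt hi⟩).val < D.nroots / 2
  · obtain ⟨i, hi, hiJ, hneg⟩ := h
    left
    intro r hr h0
    refine hE.neg_of_support hG hτ (J' := Dt.J j) ?_ r hr ?_
    · intro i' hi' hiJ'
      exact (Dt.sign_orbit hE hc j i hi i' hi' hiJ hiJ').1 hneg
    · intro k hk hkJ
      exact hE.coef_zero_of_lam hG r.2 h0 hk hkJ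
  · right
    intro r hr h0
    refine hE.pos_of_support hG hτ (J' := Dt.J j) ?_ r hr ?_
    · intro i' hi' hiJ'
      by_contra h2
      exact h ⟨i', hi', hiJ', not_le.1 h2⟩
    · intro k hk hkJ
      exact hE.coef_zero_of_lam hG r.2 h0 hk hkJ

lemma Un_le_X (j : Dt.ι) {x : GL D.Idx K} (hx : x ∈ D.posUnipotent K) (hv : Dt.w hE hB j * x * (Dt.w hE hB j)⁻¹ ∈ D.negUnipotent K) :
    x ∈ hG.Xp K (fun r => lamJ C D.rank (Dt.J j) r = 0) := by
  refine hG.Xp_mono ?_ (hE.Un_le hG (Dt.w_mono hE hB j) hx hv)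
  rintro r h1 h2 ⟨_, h3⟩
  exact (Dt.w_sign hE hB j ⟨r, h1⟩ h2).1 h3

/-- The sign property. -/
lemma sign_field (j : Dt.ι) {m : GL D.Idx K} (hm : m ∈ D.monomialSubgroup K) (hs : A.s m = m) :
    (∀ x, x ∈ D.posUnipotent K → Dt.w hE hB j * x * (Dt.w hE hB j)⁻¹ ∈ D.negUnipotent K → m * x * m⁻¹ ∈ D.posUnipotent K) ∨
    (∀ x, x ∈ D.posUnipotent K → Dt.w hE hB j * x * (Dt.w hE hB j)⁻¹ ∈ D.negUnipotent K →
      m * (Dt.w hE hB j * x * (Dt.w hE hB j)⁻¹) * m⁻¹ ∈ D.posUnipotent K) := by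
  obtain ⟨τ, d, hi⟩ := hG.mono_of_mem_N hE hm
  have hτ := hE.perm_mem_W hG hB hm hi
  have hc := A.perm_comm hE (hG.monomial_le_group hm) hs hi
  rcases Dt.dichotomy hE hτ hc j with h | h
  · right
    intro x hx hv
    have hX := Dt.Un_le_X hE hB j hx hv
    have e : m * (Dt.w hE hB j * x * (Dt.w hE hB j)⁻¹) * m⁻¹ = (m * Dt.w hE hB j) * x * (m * Dt.w hE hB j)⁻¹ := by group
    rw [e]
    apply hE.conj_Xp_U hG (hi.mul (Dt.w_mono hE hB j)) _ hX
    intro r hr hr0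
    rw [Equiv.Perm.mul_apply]
    exact sign_flip hE hτ (Dt.w_W hE hB j) (Dt.w_sign hE hB j) h r hr hr0
  · left
    intro x hx hv
    exact hE.conj_Xp_U hG hi (fun r hr hr0 => h r hr hr0) (Dt.Un_le_X hE hB j hx hv)

/-- The descent property. -/
lemma desc_field {m : GL D.Idx K} (hm : m ∈ D.monomialSubgroup K) (hs : A.s m = m) :
    m ∈ D.diagonalSubgroup K ∨ ∃ j, (∀ x, x ∈ D.posUnipotent K → Dt.w hE hB j * x * (Dt.w hE hB j)⁻¹ ∈ D.negUnipotent K → m * x * m⁻¹ ∈ D.negUnipotent K) ∧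
      invN D (hG.permOf (m * Dt.w hE hB j)) < invN D (hG.permOf m) := by
  obtain ⟨τ, d, hi⟩ := hG.mono_of_mem_N hE hm
  have hτ := hE.perm_mem_W hG hB hm hi
  have hc := A.perm_comm hE (hG.monomial_le_group hm) hs hi
  by_cases h1 : τ = 1
  · left
    subst h1
    exact hE.mem_H_of_perm hG hB hm hi
  · right
    have hinv : invN D τ ≠ 0 := fun h => h1 (hE.eq_one_of_invN hG hB hτ h)
    obtain ⟨i, hi', hineg⟩ := hE.exists_simple_neg hG hτ hinv
    obtain ⟨j, hj⟩ := Dt.J_cover i hi'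
    have hs0 := hE.lamJ_simple hG hi' hj
    have hsp := hE.simple_high hG hi'
    refine ⟨j, ?_⟩
    rcases Dt.dichotomy hE hτ hc j with h | h
    · refine ⟨fun x hx hv => hE.conj_Xp_V hG hi (fun r hr hr0 => h r hr hr0) (Dt.Un_le_X hE hB j hx hv), ?_⟩
      rw [permOf_eq hi, permOf_eq (hi.mul (Dt.w_mono hE hB j))]
      have h2 := hE.invN_descent hG hτ (Dt.w_W hE hB j) (Dt.w_sign hE hB j) h
      have h3 : (posJ D C (Dt.J j)).card ≠ 0 := by
        rw [Finset.card_ne_zero]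
        exact ⟨⟨D.simple i, hG.simple_lt hi'⟩, mem_posJ.2 ⟨hsp, hs0⟩⟩
      omega
    · have := h ⟨D.simple i, hG.simple_lt hi'⟩ hsp hs0
      omega

/-- The rank one property. -/
lemma rank1_field (j : Dt.ι) {m a c x : GL D.Idx K} (hm : m ∈ D.monomialSubgroup K) (hs : A.s m = m) (ha : a ∈ D.posUnipotent K) (hc : c ∈ D.posUnipotent K)
    (hx : x ∈ D.posUnipotent K) (e : Dt.w hE hB j * x * (Dt.w hE hB j)⁻¹ = a * m * c) :
    m ∈ D.diagonalSubgroup K ∨ m * (Dt.w hE hB j)⁻¹ ∈ D.diagonalSubgroup K := by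
  have hUP : D.posUnipotent K ≤ D.parabolicSubgroup K (Dt.J j) := le_trans le_sup_left le_sup_left
  have hwP := Dt.w_P hE hB j
  have hmP : m ∈ D.parabolicSubgroup K (Dt.J j) := by
    have e2 : m = a⁻¹ * (Dt.w hE hB j * x * (Dt.w hE hB j)⁻¹) * c⁻¹ := by
      rw [e]
      group
    rw [e2]
    exact mul_mem (mul_mem (inv_mem (hUP ha)) (mul_mem (mul_mem hwP (hUP hx)) (inv_mem hwP))) (inv_mem (hUP hc))
  obtain ⟨τ, d, hi⟩ := hG.mono_of_mem_N hE hm
  have hτ := hE.perm_mem_WJ hG hB hm hmP hi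
  have hc' := A.perm_comm hE (hG.monomial_le_group hm) hs hi
  by_cases h1 : τ = 1
  · left
    subst h1
    exact hE.mem_H_of_perm hG hB hm hi
  · right
    have hsign : SignJ D C τ (Dt.J j) := by
      apply hE.signJ_of_orbit hG hB hτ _ h1
      intro i hi i' hi' hiJ hiJ' h
      exact (Dt.sign_orbit hE hc' j i hi i' hi' hiJ hiJ').1 h
    have h2 := hE.signJ_unique hG hB hτ (Dt.w_W hE hB j) hsign (Dt.w_sign hE hB j)
    have h3 := hi.mul (Dt.w_mono hE hB j).inv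
    rw [h2, mul_inv_cancel] at h3
    exact hE.mem_H_of_perm hG hB (mul_mem hm (inv_mem (Dt.w_N hE hB j))) h3

/-- A step towards the long element. -/
lemma long_step {n : GL D.Idx K} (hn : n ∈ D.monomialSubgroup K) (hnT : n ∈ T) :
    (∀ u ∈ D.posUnipotent K, n * u * n⁻¹ ∈ D.negUnipotent K) ∨ ∃ j, invN D (hG.permOf n) < invN D (hG.permOf (n * Dt.w hE hB j)) := by
  obtain ⟨τ, d, hi⟩ := hG.mono_of_mem_N hE hn
  have hτ := hE.perm_mem_W hG hB hn hi
  have hc := A.perm_comm hE (Dt.T_le hnT) (Dt.T_fix n hnT) hi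
  by_cases h : ∀ (i : ℕ) (hi : i < D.rank), (τ ⟨D.simple i, hG.simple_lt hi⟩).val < D.nroots / 2
  · left
    have h1 : D.posUnipotent K ≤ (D.negUnipotent K).comap (MulAut.conj n).toMonoidHom := by
      rw [hG.posUnipotent_eq]
      apply (Subgroup.closure_le _).2
      rintro _ ⟨r, hr, t, rfl⟩
      show n * hG.xG r t * n⁻¹ ∈ D.negUnipotent K
      rw [hi.conj ⟨r, hr.1⟩ t]
      apply hG.negUnipotent_mem
      rw [hE.negIff _ (τ _).2]
      refine hE.neg_of_support hG hτ (J' := Set.univ) ?_ _ ((hE.posIff r hr.1).1 hr) ?_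
      · intro j hj _
        exact h j hj
      · intro k _ hk
        exact absurd (Set.mem_univ k) hk
    intro u hu
    exact h1 hu
  · right
    push Not at h
    obtain ⟨i, hi', hpos⟩ := h
    obtain ⟨j, hj⟩ := Dt.J_cover i hi'
    have hs0 := hE.lamJ_simple hG hi' hj
    have hsp := hE.simple_high hG hi'
    refine ⟨j, ?_⟩
    rcases Dt.dichotomy hE hτ hc j with h | h
    · have := h ⟨D.simple i, hG.simple_lt hi'⟩ hsp hs0
      omega
    · rw [permOf_eq hi, permOf_eq (hi.mul (Dt.w_mono hE hB j))]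
      have h2 := hE.invN_ascent hG hB hτ (Dt.w_W hE hB j) (Dt.w_sign hE hB j) h
      have h3 : (posJ D C (Dt.J j)).card ≠ 0 := by
        rw [Finset.card_ne_zero]
        exact ⟨⟨D.simple i, hG.simple_lt hi'⟩, mem_posJ.2 ⟨hsp, hs0⟩⟩
      omega

include Dt hE hB in
/-- The long element. -/
lemma long_field : ∃ n ∈ D.monomialSubgroup K, n ∈ T ∧ ∀ u ∈ D.posUnipotent K, n * u * n⁻¹ ∈ D.negUnipotent K := by
  have key : ∀ (k : ℕ) (n : GL D.Idx K), n ∈ D.monomialSubgroup K → n ∈ T → D.nroots ≤ invN D (hG.permOf n) + k →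
      ∃ n ∈ D.monomialSubgroup K, n ∈ T ∧ ∀ u ∈ D.posUnipotent K, n * u * n⁻¹ ∈ D.negUnipotent K := by
    intro k
    induction k with
    | zero =>
      intro n hn hnT hk
      rcases Dt.long_step hE hB hn hnT with h | ⟨j, h⟩
      · exact ⟨n, hn, hnT, h⟩
      · have := invN_le (hG.permOf (n * Dt.w hE hB j))
        omega
    | succ k ih =>
      intro n hn hnT hk
      rcases Dt.long_step hE hB hn hnT with h | ⟨j, h⟩
      · exact ⟨n, hn, hnT, h⟩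
      · exact ih _ (mul_mem hn (Dt.w_N hE hB j)) (mul_mem hnT (Dt.w_T hE hB j)) (by omega)
  exact key D.nroots 1 (one_mem _) (one_mem _) (by omega)

/-- Non-trivial fixed points. -/
lemma X_ne_field (j : Dt.ι) : ∃ x, x ∈ D.posUnipotent K ∧ Dt.w hE hB j * x * (Dt.w hE hB j)⁻¹ ∈ D.negUnipotent K ∧ x ∈ D.group K ∧ A.s x = x ∧ x ≠ 1 := by
  obtain ⟨y, hy, hys, hy1⟩ := Dt.Y_ne j
  set w := Dt.w hE hB j with hw
  have hwm : IsMono hG w (Dt.τw hE hB j) (Dt.dw hE hB j) := Dt.w_mono hE hB j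
  have hwN : w ∈ D.monomialSubgroup K := Dt.w_N hE hB j
  have hwG := hG.monomial_le_group hwN
  have hwF : A.s w = w := Dt.T_fix _ (Dt.w_T hE hB j)
  have hyV := hE.Xm_le_V hG _ hy
  have hyG := hG.negUnipotent_le_group hyV
  refine ⟨w * y * w⁻¹, ?_, ?_, mul_mem (mul_mem hwG hyG) (inv_mem hwG), ?_, ?_⟩
  · apply hE.conj_Xm_U hG hwm _ hy
    intro r hr hr0
    have h1 : D.nroots / 2 ≤ (hG.negF r).val := (hE.le_negF_iff hG _).2 hr
    have h2 : lamJ C D.rank (Dt.J j) (hG.negF r) = 0 := by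
      rw [hG.lamJ_negF, hr0, neg_zero]
    have h3 := (Dt.w_sign hE hB j _ h1).2 h2
    rw [hG.perm_negF (Dt.w_W hE hB j)] at h3
    exact (hE.negF_lt_iff hG _).1 h3
  · have h1 := hG.H_V (Dt.w_sq hE hB j) hyV
    have e : w * (w * y * w⁻¹) * w⁻¹ = w * w * y * (w * w)⁻¹ := by group
    rw [e]
    exact h1
  · rw [A.s_mul (mul_mem hwG hyG) (inv_mem hwG), A.s_mul hwG hyG, A.s_inv hwG, hwF, hys]
  · intro h
    apply hy1
    have e : y = w⁻¹ * (w * y * w⁻¹) * w := by group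
    rw [e, h]
    group

/-- Distinct orbits have distinct elements. -/
lemma w_inj_field (j j' : Dt.ι) (h : (Dt.w hE hB j)⁻¹ * Dt.w hE hB j' ∈ D.borelSubgroup K) : j = j' := by
  have h1 : (Dt.w hE hB j)⁻¹ * Dt.w hE hB j' ∈ D.borelSubgroup K ⊓ D.monomialSubgroup K :=
    Subgroup.mem_inf.2 ⟨h, mul_mem (inv_mem (Dt.w_N hE hB j)) (Dt.w_N hE hB j')⟩
  rw [hE.borel_inf_monomial hG hB] at h1
  have h2 := hE.perm_of_H hG hB h1 ((Dt.w_mono hE hB j).inv.mul (Dt.w_mono hE hB j'))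
  have h3 : Dt.τw hE hB j = Dt.τw hE hB j' := (inv_mul_eq_one.1 h2)
  have key : ∀ (a b : Dt.ι), Dt.τw hE hB a = Dt.τw hE hB b → Dt.J a ⊆ Dt.J b := by
    intro a b hab i hi
    have hi' := Dt.J_lt a i hi
    have hs0 := hE.lamJ_simple hG hi' hi
    have hsp := hE.simple_high hG hi'
    have h4 := (Dt.w_sign hE hB a ⟨D.simple i, hG.simple_lt hi'⟩ hsp).2 hs0
    rw [hab] at h4
    have h5 := (Dt.w_sign hE hB b ⟨D.simple i, hG.simple_lt hi'⟩ hsp).1 h4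
    exact hE.mem_of_lamJ_simple hG hi' h5
  exact Dt.J_inj _ _ (Set.Subset.antisymm (key _ _ h3) (key _ _ h3.symm))

/-- The structure `Twist`. -/
noncomputable def twist : CfsgLib.Tw.Twist (GL D.Idx K) (A.base hE hB) where
  T := T
  T_le := fun g hg => ⟨Dt.T_le hg, Dt.T_fix g hg⟩
  ι := Dt.ι
  w := Dt.w hE hB
  w_N := Dt.w_N hE hB
  w_T := Dt.w_T hE hB
  w_sq := Dt.w_sq hE hB
  w_inj := Dt.w_inj_field hE hB
  X_T := fun j x hx => Dt.X_T j x (Dt.Un_le_X hE hB j hx.1.1 hx.1.2) hx.2.2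
  X_ne := fun j => by
    obtain ⟨x, h1, h2, h3, h4, h5⟩ := Dt.X_ne_field hE hB j
    exact ⟨x, ⟨⟨h1, h2⟩, h3, h4⟩, h5⟩
  sign := fun j m hm => by
    rcases Dt.sign_field hE hB j hm.1 hm.2.2 with h | h
    · exact Or.inl fun x hx => h x hx.1 hx.2
    · exact Or.inr fun x hx => h x hx.1 hx.2
  len := fun g => invN D (hG.permOf g)
  desc := fun m hm => by
    rcases Dt.desc_field hE hB hm.1 hm.2.2 with h | ⟨j, h1, h2⟩
    · exact Or.inl h
    · exact Or.inr ⟨j, fun x hx => h1 x hx.1 hx.2, h2⟩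
  rank1 := fun j m hm a ha c hc h => by
    obtain ⟨x, hx, e⟩ := h
    exact Dt.rank1_field hE hB j hm.1 hm.2.2 ha hc hx.1.1 e
  long := Dt.long_field hE hB

lemma twist_T : (Dt.twist hE hB).T = T := rfl

/-- The (B,N)-pair of a twisted group. -/
theorem exists_bnpair : ∃ Q : Cfsg.BNPair ↥T, Q.B = (D.borelSubgroup K ⊓ T).subgroupOf T ∧
    Q.N = (D.monomialSubgroup K ⊓ T).subgroupOf T ∧ Q.S = {n : ↥T | (n : GL D.Idx K) ∈ Set.range (Dt.w hE hB)} := by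
  refine (Dt.twist hE hB).exists_bnpair ?_ ?_
  · intro x hx hn
    have h1 : x ∈ D.borelSubgroup K ⊓ D.monomialSubgroup K := Subgroup.mem_inf.2 ⟨hx, hn⟩
    rwa [hE.borel_inf_monomial hG hB] at h1
  · intro x hx hv
    exact hE.B_V hG hx hv

end TwData

end

end CfsgLib.Chev
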