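/-
Tools for the instances of twisted groups.
-/
import Cfsg.Agent.Lib.Tw.ChevTwist
import Cfsg.Agent.Lib.Chev.AllG
import Cfsg.Agent.Lib.Chev.AllGF
import Cfsg.Agent.Lib.Chev.AllSt

set_option autoImplicit false

namespace CfsgLib.Chev

open Cfsg.Lie Cfsg.Lie.ChevalleyDatum CfsgLib.BN

/-- The signed permutation `x_r(t) ↦ x_{-r}(-t)`. -/
def spNegOf (D : ChevalleyDatum) : SP := ⟨D.neg, fun _ => -1, fun j' j => if j' = j then -1 else 0⟩

section

variable {D : ChevalleyDatum} {C : Cert} (hG : Good D C) {K : Type*} [Field K]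

lemma spNeg_H (j' k : Fin D.rank) :
    ∑ j : Fin D.rank, (((spNegOf D).H j' j : ℤ) : K) * (((spNegOf D).H j k : ℤ) : K) = if j' = k then 1 else 0 := by
  classical
  rw [Finset.sum_eq_single k]
  · show (((if (j' : ℕ) = k then (-1 : ℤ) else 0) : ℤ) : K) * (((if (k : ℕ) = k then (-1 : ℤ) else 0) : ℤ) : K) = _
    by_cases h : j' = k
    · subst h
      simp
    · have h2 : (j' : ℕ) ≠ k := fun e => h (Fin.ext e)
      simp [h, h2]
  · intro b _ hb
    show _ * (((if (b : ℕ) = k then (-1 : ℤ) else 0) : ℤ) : K) = 0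
    have h2 : (b : ℕ) ≠ k := fun e => hb (Fin.ext e)
    simp [h2]
  · intro h
    exact absurd (Finset.mem_univ _) h

include hG in
/-- The unit inducing `x_r(t) ↦ x_{-r}(-t)`. -/
theorem Good.exists_neg_unit (h : gspChk C D (spNegOf D) = true) : ∃ u : GL D.Idx K, ∀ r < D.nroots, ∀ t : K,
    u * hG.xG r t * u⁻¹ = hG.xG (D.neg r) (-t) ∧ u⁻¹ * hG.xG r t * u = hG.xG (D.neg r) (-t) := by
  have hP : SP.Good D (spNegOf D) := gsp_good hG.agree h
  refine ⟨spUnit D (spNegOf D) K hP spNeg_H, fun r hr t => ⟨?_, ?_⟩⟩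
  · have := hG.spUnit_conj hP spNeg_H hr t
    rw [this]
    show hG.xG (D.neg r) (((-1 : ℤ) : K) * t) = _
    simp
  · have := hG.spUnit_conj' hP spNeg_H hr t
    rw [this]
    show hG.xG (D.neg r) (((-1 : ℤ) : K) * t) = _
    simp

variable (hE : Extra D C)

include hE in
/-- Elements of the root subgroups of `Φ_J⁺` in a given order. -/
theorem Extra.Xp_prodL {Jl L : List ℕ} (hnd : L.Nodup) (hLr : ∀ r ∈ L, D.nroots / 2 ≤ r ∧ r < D.nroots)
    (hL : ∀ r, r < D.nroots → D.nroots / 2 ≤ r → (r ∈ L ↔ ∀ k < D.rank, k ∉ Jl → C.coef r k = 0))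
    {x : GL D.Idx K} (hx : x ∈ hG.Xp K (fun r => lamJ C D.rank {i | i ∈ Jl} r = 0)) : ∃ τ : ℕ → K, x = hG.prodL L τ := by
  classical
  set J : Set ℕ := {i | i ∈ Jl} with hJ
  set R := (List.range' (D.nroots / 2) (D.nroots - D.nroots / 2)).filter (fun r => r ∉ L) with hR
  have hRmem : ∀ r, r ∈ R ↔ (D.nroots / 2 ≤ r ∧ r < D.nroots) ∧ r ∉ L := by
    intro r
    rw [hR, List.mem_filter, List.mem_range'_1]
    have : D.nroots / 2 ≤ D.nroots := Nat.div_le_self _ _
    simp only [decide_eq_true_eq]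
    constructor
    · rintro ⟨⟨h1, h2⟩, h3⟩
      exact ⟨⟨h1, by omega⟩, h3⟩
    · rintro ⟨⟨h1, h2⟩, h3⟩
      exact ⟨⟨h1, by omega⟩, h3⟩
  have hnd2 : (L ++ R).Nodup := by
    apply List.Nodup.append hnd ((List.nodup_range').filter _)
    intro r h1 h2
    exact ((hRmem r).1 h2).2 h1
  have hmem1 : ∀ r ∈ L ++ R, D.nroots / 2 ≤ r ∧ r < D.nroots := by
    intro r hr
    rcases List.mem_append.1 hr with h | h
    · exact hLr r h
    · exact ((hRmem r).1 h).1
  have hmem2 : ∀ r, D.nroots / 2 ≤ r → r < D.nroots → r ∈ L ++ R := by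
    intro r h1 h2
    by_cases h : r ∈ L
    · exact List.mem_append.2 (Or.inl h)
    · exact List.mem_append.2 (Or.inr ((hRmem r).2 ⟨⟨h1, h2⟩, h⟩))
  have hxU := hE.Xp_le_U hG _ hx
  obtain ⟨τ, e⟩ := hE.unipotent_prodL hG hnd2 hmem1 hmem2 hxU
  rw [hG.prodL_append] at e
  refine ⟨τ, ?_⟩
  have hLlevi : hG.prodL L τ ∈ D.leviSubgroup K J := by
    apply hG.prodL_mem
    intro r hr t
    obtain ⟨h1, h2⟩ := hLr r hr
    apply hE.x_mem_levi hG h2
    -- the value of `lamJ`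
    unfold lamJ
    apply Finset.sum_eq_zero
    intro j _
    split_ifs with h3
    · rfl
    · exact ((hL r h2 h1).1 hr) j j.2 h3
  have hxlevi : x ∈ D.leviSubgroup K J := by
    have : hG.Xp K (fun r => lamJ C D.rank J r = 0) ≤ D.leviSubgroup K J :=
      hG.Xp_le_of fun r h1 _ h3 t => hE.x_mem_levi hG h1 h3 t
    exact this hx
  have hRrad : hG.prodL R τ ∈ D.unipotentRadical K J := by
    rw [hE.unipotentRadical_eq hG]
    apply hG.prodL_mem
    intro r hr t
    obtain ⟨⟨h1, h2⟩, h3⟩ := (hRmem r).1 hr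
    refine Subgroup.subset_closure ⟨r, ⟨h2, ?_⟩, t, rfl⟩
    have h4 := hE.lamJ_nonneg hG J h2 h1
    have h5 : lamJ C D.rank J r ≠ 0 := by
      intro h6
      apply h3
      rw [hL r h2 h1]
      intro k hk hkJ
      exact hE.coef_zero_of_lam hG h2 h6 hk hkJ
    omega
  have hRlevi : hG.prodL R τ ∈ D.leviSubgroup K J := by
    have e2 : hG.prodL R τ = (hG.prodL L τ)⁻¹ * x := by
      rw [e]
      group
    rw [e2]
    exact mul_mem (inv_mem hLlevi) hxlevi
  have h5 : hG.prodL R τ ∈ D.unipotentRadical K J ⊓ D.leviSubgroup K J := Subgroup.mem_inf.2 ⟨hRrad, hRlevi⟩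
  rw [hE.inf_levi hG] at h5
  rw [e, Subgroup.mem_bot.1 h5, mul_one]

include hE in
/-- Root elements of `Φ_J⁺`. -/
lemma Extra.x_mem_Xp {Jl : List ℕ} {r : ℕ} (hr : r < D.nroots) (hr2 : D.nroots / 2 ≤ r) (hL : ∀ k < D.rank, k ∉ Jl → C.coef r k = 0) (t : K) :
    hG.xG r t ∈ hG.Xp K (fun r => lamJ C D.rank {i | i ∈ Jl} r = 0) := by
  classical
  refine Subgroup.subset_closure ⟨r, t, hr, hr2, ?_, rfl⟩
  unfold lamJ
  apply Finset.sum_eq_zero
  intro j _
  split_ifs with h3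
  · rfl
  · exact hL j j.2 h3

end

section

variable {D : ChevalleyDatum} {C : Cert} {hG : Good D C} {K : Type*} [Field K]

/-- Compatibility of `s` with a unit normalising the root subgroups. -/
lemma TwAct.s_conj (A : TwAct hG K) {u : GL D.Idx K}
    (hu : ∀ r < D.nroots, ∀ t : K, u * hG.xG r t * u⁻¹ = hG.xG (D.neg r) (-t))
    (hf : ∀ r < D.nroots, ∀ t : K, A.f (D.neg r) (-t) = - A.f r t)
    {g : GL D.Idx K} (hg : g ∈ D.group K) : u * g * u⁻¹ ∈ D.group K ∧ A.s (u * g * u⁻¹) = u * A.s g * u⁻¹ := by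
  let M : Subgroup (GL D.Idx K) :=
    { carrier := {g | g ∈ D.group K ∧ u * g * u⁻¹ ∈ D.group K ∧ A.s (u * g * u⁻¹) = u * A.s g * u⁻¹}
      mul_mem' := by
        rintro a b ⟨h1, h2, h3⟩ ⟨h4, h5, h6⟩
        have e : u * (a * b) * u⁻¹ = (u * a * u⁻¹) * (u * b * u⁻¹) := by group
        refine ⟨mul_mem h1 h4, ?_, ?_⟩
        · rw [e]
          exact mul_mem h2 h5
        · rw [e, A.s_mul h2 h5, h3, h6, A.s_mul h1 h4]
          group
      one_mem' := by
        refine ⟨one_mem _, ?_, ?_⟩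
        · simp
        · simp [A.s_one]
      inv_mem' := by
        rintro a ⟨h1, h2, h3⟩
        have e : u * a⁻¹ * u⁻¹ = (u * a * u⁻¹)⁻¹ := by group
        refine ⟨inv_mem h1, ?_, ?_⟩
        · rw [e]
          exact inv_mem h2
        · rw [e, A.s_inv h2, h3, A.s_inv h1]
          group }
  have hle : D.group K ≤ M := by
    apply hG.group_le
    intro r hr t
    refine ⟨hG.mem_group hr t, ?_, ?_⟩
    · rw [hu r hr t]
      exact hG.mem_group (hG.shp.neg_lt r hr) _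
    · rw [hu r hr t, A.s_x (hG.shp.neg_lt r hr), A.s_x hr, hu _ (A.π_lt r hr), A.π_neg r hr, hf r hr t]
  exact (hle hg).2

/-- Building the data from the positive side. -/
theorem TwData.exists_of_pos {A : TwAct hG K} {T : Subgroup (GL D.Idx K)} (hE : Extra D C) {u : GL D.Idx K}
    (hu : ∀ r < D.nroots, ∀ t : K, u * hG.xG r t * u⁻¹ = hG.xG (D.neg r) (-t) ∧ u⁻¹ * hG.xG r t * u = hG.xG (D.neg r) (-t))
    (hf : ∀ r < D.nroots, ∀ t : K, A.f (D.neg r) (-t) = - A.f r t)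
    (T_le : T ≤ D.group K) (T_fix : ∀ g ∈ T, A.s g = g) (hTu : ∀ g ∈ T, u⁻¹ * g * u ∈ T)
    {ι : Type} (J : ι → Set ℕ) (J_lt : ∀ j, ∀ i ∈ J j, i < D.rank) (J_inj : ∀ j j', J j = J j' → j = j')
    (J_cover : ∀ i < D.rank, ∃ j, i ∈ J j) (J_orbit : ∀ j, ∀ i ∈ J j, ∀ i' ∈ J j, ∃ k, A.π^[k] (D.simple i) = D.simple i')
    (X_T : ∀ j, ∀ x ∈ hG.Xp K (fun r => lamJ C D.rank (J j) r = 0), A.s x = x → x ∈ T)
    (X_ne : ∀ j, ∃ y ∈ hG.Xp K (fun r => lamJ C D.rank (J j) r = 0), A.s y = y ∧ y ≠ 1) :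
    ∃ Dt : TwData A T, ∃ e : Dt.ι ≃ ι, ∀ j, Dt.J j = J (e j) := by
  have hu1 := fun r hr t => (hu r hr t).1
  have hlam : ∀ (j : ι) (r : ℕ), r < D.nroots → lamJ C D.rank (J j) r = 0 → lamJ C D.rank (J j) (D.neg r) = 0 := by
    intro j r hr h
    have := hG.lamJ_negF (J j) ⟨r, hr⟩
    have e : ((hG.negF ⟨r, hr⟩ : Fin D.nroots) : ℕ) = D.neg r := rfl
    rw [e] at this
    rw [this]
    simp only
    rw [h, neg_zero]
  -- conjugation sends `Xm` to `Xp` and conversely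
  have h1 : ∀ j, ∀ y ∈ hG.Xm K (fun r => lamJ C D.rank (J j) r = 0),
      u * y * u⁻¹ ∈ hG.Xp K (fun r => lamJ C D.rank (J j) r = 0) := by
    intro j y hy
    have : hG.Xm K (fun r => lamJ C D.rank (J j) r = 0) ≤
        (hG.Xp K (fun r => lamJ C D.rank (J j) r = 0)).comap (MulAut.conj u).toMonoidHom := by
      apply hG.Xm_le_of
      intro r h1 h2 h3 t
      show u * hG.xG r t * u⁻¹ ∈ hG.Xp K (fun r => lamJ C D.rank (J j) r = 0)
      rw [hu1 r h1 t]
      refine Subgroup.subset_closure ⟨_, _, hG.shp.neg_lt r h1, ?_, hlam j r h1 h3, rfl⟩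
      exact (hE.le_negF_iff hG ⟨r, h1⟩).2 h2
    exact this hy
  have h2 : ∀ j, ∀ y ∈ hG.Xp K (fun r => lamJ C D.rank (J j) r = 0),
      u * y * u⁻¹ ∈ hG.Xm K (fun r => lamJ C D.rank (J j) r = 0) := by
    intro j y hy
    have : hG.Xp K (fun r => lamJ C D.rank (J j) r = 0) ≤
        (hG.Xm K (fun r => lamJ C D.rank (J j) r = 0)).comap (MulAut.conj u).toMonoidHom := by
      apply hG.Xp_le_of
      intro r h1 h2 h3 t
      show u * hG.xG r t * u⁻¹ ∈ hG.Xm K (fun r => lamJ C D.rank (J j) r = 0)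
      rw [hu1 r h1 t]
      refine Subgroup.subset_closure ⟨_, _, hG.shp.neg_lt r h1, ?_, hlam j r h1 h3, rfl⟩
      exact (hE.negF_lt_iff hG ⟨r, h1⟩).2 h2
    exact this hy
  refine ⟨{ T_le := T_le, T_fix := T_fix, ι := ι, J := J, J_lt := J_lt, J_inj := J_inj, J_cover := J_cover, J_orbit := J_orbit, X_T := X_T, Y_T := ?_, Y_ne := ?_ }, Equiv.refl _, fun _ => rfl⟩
  · intro j y hy hs
    have hyG : y ∈ D.group K := hG.negUnipotent_le_group (hE.Xm_le_V hG _ hy)
    have h3 := A.s_conj hu1 hf hyG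
    have h4 : u * y * u⁻¹ ∈ T := X_T j _ (h1 j y hy) (by rw [h3.2, hs])
    have h5 := hTu _ h4
    have e : u⁻¹ * (u * y * u⁻¹) * u = y := by group
    rwa [e] at h5
  · intro j
    obtain ⟨y, hy, hs, hne⟩ := X_ne j
    have hyG : y ∈ D.group K := hG.posUnipotent_le_group (hE.Xp_le_U hG _ hy)
    have h3 := A.s_conj hu1 hf hyG
    refine ⟨u * y * u⁻¹, h2 j y hy, by rw [h3.2, hs], ?_⟩
    intro h
    apply hne
    have e : y = u⁻¹ * (u * y * u⁻¹) * u := by group
    rw [e, h]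
    group

/-- Membership of a word in the subgroup generated by words. -/
lemma Good.wordG_mem_gen (hG : Good D C) {S : Set (List (ℕ × K))} {w : List (ℕ × K)} (hw : w ∈ S) : hG.wordG w ∈ D.genSubgroup K S :=
  Subgroup.subset_closure ⟨w, hw, hG.wordG_val w⟩

/-- Subgroups generated by words. -/
lemma Good.gen_le (hG : Good D C) {S : Set (List (ℕ × K))} {M : Subgroup (GL D.Idx K)} (h : ∀ w ∈ S, hG.wordG w ∈ M) : D.genSubgroup K S ≤ M := by
  apply (Subgroup.closure_le _).2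
  rintro g ⟨w, hw, hg⟩
  have : g = hG.wordG w := Units.ext (by rw [hg, hG.wordG_val])
  rw [this]
  exact h w hw

/-- Conjugating a word by the negation unit. -/
lemma Good.conj_wordG (hG : Good D C) {u : GL D.Idx K} (hu : ∀ r < D.nroots, ∀ t : K, u⁻¹ * hG.xG r t * u = hG.xG (D.neg r) (-t))
    (w : List (ℕ × K)) (hw : ∀ p ∈ w, p.1 < D.nroots) : u⁻¹ * hG.wordG w * u = hG.wordG (w.map fun p => (D.neg p.1, -p.2)) := by
  induction w with
  | nil => simp [Good.wordG]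
  | cons a w ih =>
    rw [List.map_cons, hG.wordG_cons, hG.wordG_cons, ← hu a.1 (hw a (List.mem_cons_self ..)) a.2, ← ih fun p hp => hw p (List.mem_cons_of_mem _ hp)]
    group

/-- A finite field has the automorphism `t ↦ t ^ q`. -/
theorem exists_frobQ {F : Type*} [Field F] [Fintype F] {q n : ℕ} (hq : IsPrimePow q) (hn : n ≠ 0) (hK : Fintype.card F = q ^ n) :
    ∃ φ : F ≃+* F, ∀ t, φ t = t ^ q := by
  obtain ⟨p, k, hp, hk, rfl⟩ := (isPrimePow_nat_iff _).1 hq
  obtain ⟨r, hr⟩ := CharP.exists F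
  have hr0 : (Fintype.card F : F) = 0 := Nat.cast_card_eq_zero F
  have h1 : r ∣ Fintype.card F := (CharP.cast_eq_zero_iff F r _).1 hr0
  have hrp : r.Prime := by
    rcases CharP.char_is_prime_or_zero F r with h | h
    · exact h
    · subst h
      have := Nat.eq_zero_of_zero_dvd h1
      exact absurd this Fintype.card_ne_zero
  rw [hK, ← pow_mul] at h1
  have h2 : r = p := (Nat.prime_dvd_prime_iff_eq hrp hp).1 (hrp.dvd_of_dvd_pow h1)
  subst h2
  haveI : Fact r.Prime := ⟨hrp⟩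
  haveI : ExpChar F r := ExpChar.prime hrp
  have hinj : Function.Injective (iterateFrobenius F r k) := (iterateFrobenius F r k).injective
  refine ⟨RingEquiv.ofBijective (iterateFrobenius F r k) ⟨hinj, Finite.surjective_of_injective hinj⟩, fun t => rfl⟩

/-- An automorphism of graph-field type. -/
noncomputable def TwAct.ofGraph (hG : Good D C) (α : ↥(D.group K) ≃* ↥(D.group K)) (π : ℕ → ℕ) (ε : ℕ → ℤ) (φ : K ≃+* K)
    (hα : ∀ (g : ↥(D.group K)) (r : ℕ) (t : K), r < D.nroots → ((g : GL D.Idx K) : Matrix D.Idx D.Idx K) = D.x K r t →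
      ((α g : GL D.Idx K) : Matrix D.Idx D.Idx K) = D.x K (π r) (((ε r : ℤ) : K) * t))
    (hlt : ∀ r < D.nroots, π r < D.nroots) (hpos : ∀ r < D.nroots, (D.nroots / 2 ≤ r ↔ D.nroots / 2 ≤ π r))
    (hneg : ∀ r < D.nroots, π (D.neg r) = D.neg (π r)) (hε : ∀ r < D.nroots, ε r = 1 ∨ ε r = -1)
    (hεn : ∀ r < D.nroots, ε (D.neg r) = ε r) : TwAct hG K where
  σ := (Classical.choose (hG.field_aut φ)).toMonoidHom.comp α.toMonoidHom
  π := π
  f := fun r t => ((ε r : ℤ) : K) * φ t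
  π_lt := hlt
  π_pos := hpos
  π_neg := hneg
  f_ne := by
    intro r hr t ht
    apply mul_ne_zero
    · rcases hε r hr with h | h <;> simp [h]
    · simpa using ht
  f_neg := by
    intro r hr t ht
    rw [hεn r hr]
    rcases hε r hr with h | h <;> simp [h, map_neg, map_inv₀]
  σ_x := by
    intro r hr t
    apply Units.ext
    have h1 := hα ⟨hG.xG r t, hG.mem_group hr t⟩ r t hr (hG.xG_val r t)
    have h2 := Classical.choose_spec (hG.field_aut φ) _ (π r) (((ε r : ℤ) : K) * t) (hlt r hr) h1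
    rw [map_mul, map_intCast] at h2
    exact h2

/-- The full automorphism attached to a signed permutation of a graph certificate. -/
theorem GraphCert.exists_full {P : SP} {ρ : ℕ → ℕ} (hG : Good D C) (h : GraphCert D C P ρ) :
    ∃ α : ↥(D.group K) ≃* ↥(D.group K), ∀ (g : ↥(D.group K)) (r : ℕ) (t : K), r < D.nroots →
      ((g : GL D.Idx K) : Matrix D.Idx D.Idx K) = D.x K r t →
      ((α g : GL D.Idx K) : Matrix D.Idx D.Idx K) = D.x K (P.π r) (((P.σ r : ℤ) : K) * t) := by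
  have hH : ∀ j' k : Fin D.rank, ∑ j : Fin D.rank, ((P.H j' j : ℤ) : K) * ((P.H j k : ℤ) : K) = if j' = k then 1 else 0 := by
    intro j' k
    have := congrArg (fun z : ℤ => (z : K)) (h.hH j' k)
    simp only [Int.cast_sum, Int.cast_mul] at this
    rw [this]
    split_ifs <;> simp
  exact hG.exists_spAut h.good hH

end

end CfsgLib.Chev
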