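/-
²E₆ as a twisted group.
-/
import Cfsg.Agent.Lib.Tw.Inst
import Cfsg.Prelude.Def_LieTwisted

set_option autoImplicit false
set_option synthInstance.maxHeartbeats 400000
set_option synthInstance.maxSize 1024

namespace CfsgLib.Chev

open Cfsg.Lie Cfsg.Lie.ChevalleyDatum CfsgLib.BN

section

variable {D : ChevalleyDatum} {C : Cert} (hG : Good D C) {K : Type*} [Field K]

/-- Commuting root elements. -/
lemma Good.x_comm {r s : ℕ} (hr : r < D.nroots) (hs : s < D.nroots) (h1 : s ≠ r) (h2 : s ≠ D.neg r) (hc : D.commTerms r s = []) (t u : K) :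
    hG.xG s u * hG.xG r t = hG.xG r t * hG.xG s u := by
  have := hG.comm_G hr hs h1 h2 t u
  have e : D.commWord K r s t u = [] := by
    unfold ChevalleyDatum.commWord
    rw [hc]
    rfl
  rw [e, hG.wordG_nil, mul_one] at this
  exact this

variable {hG} (hE : Extra D C) (A : TwAct hG K)

include hE in
/-- Fixed points for an orbit of a single root. -/
lemma TwAct.fix_one {Jl : List ℕ} {r : ℕ} (hr : r < D.nroots) (hp : D.nroots / 2 ≤ r)
    (hL : ∀ r', r' < D.nroots → D.nroots / 2 ≤ r' → (r' ∈ [r] ↔ ∀ k < D.rank, k ∉ Jl → C.coef r' k = 0))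
    {g : K → K} (hs : ∀ t, A.s (hG.xG r t) = hG.xG r (g t)) {x : GL D.Idx K} (hx : x ∈ hG.Xp K (fun r => lamJ C D.rank {i | i ∈ Jl} r = 0))
    (hsx : A.s x = x) : ∃ t, g t = t ∧ x = hG.xG r t := by
  obtain ⟨τ, rfl⟩ := hE.Xp_prodL hG (L := [r]) (by simp) (by simpa using ⟨hp, hr⟩) hL hx
  have e1 : hG.prodL [r] τ = hG.xG r (τ r) := by
    rw [hG.prodL_cons, hG.prodL_nil, mul_one]
  rw [e1] at hsx
  refine ⟨τ r, ?_, e1⟩
  rw [hs] at hsx
  have e2 : hG.prodL [r] (fun _ => g (τ r)) = hG.prodL [r] τ := by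
    rw [e1, hG.prodL_cons, hG.prodL_nil, mul_one]
    exact hsx
  exact hE.prodL_injective hG (by simp) (by simpa using ⟨hp, hr⟩) _ _ e2 r (by simp)

include hE in
/-- Fixed points for an orbit of two commuting roots. -/
lemma TwAct.fix_two {Jl : List ℕ} {a b : ℕ} (ha : a < D.nroots) (hb : b < D.nroots) (hpa : D.nroots / 2 ≤ a) (hpb : D.nroots / 2 ≤ b) (hab : a < b)
    (hL : ∀ r', r' < D.nroots → D.nroots / 2 ≤ r' → (r' ∈ [a, b] ↔ ∀ k < D.rank, k ∉ Jl → C.coef r' k = 0))
    (hcomm : ∀ s t : K, hG.xG b s * hG.xG a t = hG.xG a t * hG.xG b s)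
    {g g' : K → K} (hs : ∀ t, A.s (hG.xG a t) = hG.xG b (g t)) (hs' : ∀ t, A.s (hG.xG b t) = hG.xG a (g' t))
    {x : GL D.Idx K} (hx : x ∈ hG.Xp K (fun r => lamJ C D.rank {i | i ∈ Jl} r = 0))
    (hsx : A.s x = x) : ∃ t, x = hG.xG a t * hG.xG b (g t) := by
  classical
  have hne : a ≠ b := by omega
  obtain ⟨τ, rfl⟩ := hE.Xp_prodL hG (L := [a, b]) (by simp [hne]) (by simpa using ⟨⟨hpa, ha⟩, ⟨hpb, hb⟩⟩) hL hx
  have e1 : ∀ σ : ℕ → K, hG.prodL [a, b] σ = hG.xG a (σ a) * hG.xG b (σ b) := by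
    intro σ
    rw [hG.prodL_cons, hG.prodL_cons, hG.prodL_nil, mul_one]
  have hG1 : ∀ t : K, hG.xG a t ∈ D.group K := hG.mem_group ha
  have hG2 : ∀ t : K, hG.xG b t ∈ D.group K := hG.mem_group hb
  rw [e1, A.s_mul (hG1 _) (hG2 _), hs, hs', hcomm] at hsx
  have e2 : hG.prodL [a, b] (fun r => if r = a then g' (τ b) else g (τ a)) = hG.prodL [a, b] τ := by
    rw [e1, e1]
    simp only [if_true, if_neg hne.symm]
    exact hsx
  have h1 := hE.prodL_injective hG (L := [a, b]) (by simp [hab]) (by simpa using ⟨⟨hpa, ha⟩, ⟨hpb, hb⟩⟩) _ _ e2 b (by simp)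
  simp only [if_neg hne.symm] at h1
  refine ⟨τ a, ?_⟩
  rw [e1, ← h1]

end

section E6

variable (K : Type*) [Field K]

/-- The graph automorphism of `E₆`. -/
noncomputable def gE6 : ↥(chevE6.group K) ≃* ↥(chevE6.group K) := (GraphCert.exists_full TE6.good spE6.cert (K := K)).choose

lemma gE6_spec : ∀ (g : ↥(chevE6.group K)) (r : ℕ) (t : K), r < chevE6.nroots → ((g : GL chevE6.Idx K) : Matrix chevE6.Idx chevE6.Idx K) = chevE6.x K r t →
      ((gE6 K g : GL chevE6.Idx K) : Matrix chevE6.Idx chevE6.Idx K) = chevE6.x K (spE6.π r) (((spE6.σ r : ℤ) : K) * t) :=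
  (GraphCert.exists_full TE6.good spE6.cert (K := K)).choose_spec

variable {K}

/-- The twisting automorphism. -/
noncomputable def tE6 (φ : K ≃+* K) : TwAct TE6.good K :=
  TwAct.ofGraph TE6.good (gE6 K) spE6.π spE6.σ φ (gE6_spec K) spE6.cert.good.lt (by decide +kernel) spE6.cert.good.neg spE6.cert.good.sgn spE6.cert.good.σneg

lemma tE6_s (φ : K ≃+* K) {r : ℕ} (hr : r < chevE6.nroots) (t : K) :
    (tE6 φ).s (TE6.good.xG r t) = TE6.good.xG (spE6.π r) (((spE6.σ r : ℤ) : K) * φ t) :=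
  (tE6 φ).s_x hr t

/-- The orbits of the symmetry of `E₆` on the nodes. -/
def e6J (j : Fin 4) : List ℕ := [[1], [3], [0, 5], [2, 4]].getD j []

section inst

variable {q : ℕ} (φ : K ≃+* K) (hφ : ∀ t, φ t = t ^ q) (hφ2 : ∀ t, φ (φ t) = t)

include hφ hφ2

lemma e6_fix1 {r : ℕ} (hr : r < chevE6.nroots) (h1 : spE6.π r = r) (h2 : spE6.σ r = 1) {t : K} (ht : t ^ q = t) :
    TE6.good.wordG [(r, t)] ∈ ((tE6 φ).base TE6.extra TE6.braid).Fx := by
  have e : TE6.good.wordG [(r, t)] = TE6.good.xG r t := by simp [Good.wordG]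
  rw [e]
  refine ⟨TE6.good.mem_group hr t, ?_⟩
  show (tE6 φ).s _ = _
  rw [tE6_s φ hr, h1, h2, hφ, ht]
  simp

lemma e6_fix2 {a b : ℕ} (ha : a < chevE6.nroots) (hb : b < chevE6.nroots) (h1 : spE6.π a = b) (h2 : spE6.σ a = 1) (h3 : spE6.π b = a) (h4 : spE6.σ b = 1)
    (hc : ∀ s t : K, TE6.good.xG b s * TE6.good.xG a t = TE6.good.xG a t * TE6.good.xG b s) (t : K) :
    TE6.good.wordG [(a, t), (b, t ^ q)] ∈ ((tE6 φ).base TE6.extra TE6.braid).Fx := by
  have e : TE6.good.wordG [(a, t), (b, t ^ q)] = TE6.good.xG a t * TE6.good.xG b (t ^ q) := by simp [Good.wordG]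
  rw [e]
  refine ⟨mul_mem (TE6.good.mem_group ha t) (TE6.good.mem_group hb _), ?_⟩
  show (tE6 φ).s _ = _
  rw [(tE6 φ).s_mul (TE6.good.mem_group ha t) (TE6.good.mem_group hb _), tE6_s φ ha, tE6_s φ hb, h1, h2, h3, h4, ← hφ, hφ2]
  simp only [Int.cast_one, one_mul]
  rw [hc]

/-- The subgroup `²E₆(q)` consists of fixed points. -/
theorem e6_le_Fx : twistedE6 K q ≤ ((tE6 φ).base TE6.extra TE6.braid).Fx := by
  apply TE6.good.gen_le
  rintro w (⟨t, ht, r, hr, rfl⟩ | ⟨t, rs, hrs, rfl⟩)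
  · simp only [List.mem_cons, List.not_mem_nil, or_false] at hr
    rcases hr with rfl | rfl | rfl | rfl
    all_goals exact e6_fix1 φ hφ hφ2 (by decide +kernel) (by decide +kernel) (by decide +kernel) ht
  · simp only [List.mem_cons, List.not_mem_nil, or_false] at hrs
    rcases hrs with rfl | rfl | rfl | rfl
    all_goals
      refine e6_fix2 φ hφ hφ2 (by decide +kernel) (by decide +kernel) (by decide +kernel) (by decide +kernel) (by decide +kernel) (by decide +kernel) ?_ t
      intro s t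
      exact TE6.good.x_comm (by decide +kernel) (by decide +kernel) (by decide +kernel) (by decide +kernel) (by decide +kernel) t s

lemma e6_XA {Jl : List ℕ} {r : ℕ} (hr : r < chevE6.nroots) (hp : chevE6.nroots / 2 ≤ r)
    (hL : ∀ r', r' < chevE6.nroots → chevE6.nroots / 2 ≤ r' → (r' ∈ [r] ↔ ∀ k < chevE6.rank, k ∉ Jl → TE6.cert.coef r' k = 0))
    (h1 : spE6.π r = r) (h2 : spE6.σ r = 1) (hw : r ∈ [e6p2, e6m2, e6p4, e6m4]) {x : GL chevE6.Idx K}
    (hx : x ∈ TE6.good.Xp K (fun r => lamJ TE6.cert chevE6.rank {i | i ∈ Jl} r = 0)) (hs : (tE6 φ).s x = x) : x ∈ twistedE6 K q := by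
  obtain ⟨t, ht, rfl⟩ := (tE6 φ).fix_one TE6.extra hr hp hL (g := φ) (fun t => by
    rw [tE6_s φ hr, h1, h2]
    simp) hx hs
  have h3 : TE6.good.wordG [(r, t)] ∈ twistedE6 K q :=
    TE6.good.wordG_mem_gen (Or.inl ⟨t, by rw [← hφ, ht], r, hw, rfl⟩)
  simpa [Good.wordG] using h3

lemma e6_XB {Jl : List ℕ} {a b : ℕ} (ha : a < chevE6.nroots) (hb : b < chevE6.nroots) (hpa : chevE6.nroots / 2 ≤ a) (hpb : chevE6.nroots / 2 ≤ b) (hab : a < b)
    (hL : ∀ r', r' < chevE6.nroots → chevE6.nroots / 2 ≤ r' → (r' ∈ [a, b] ↔ ∀ k < chevE6.rank, k ∉ Jl → TE6.cert.coef r' k = 0))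
    (h1 : spE6.π a = b) (h2 : spE6.σ a = 1) (h3 : spE6.π b = a) (h4 : spE6.σ b = 1)
    (hc : ∀ s t : K, TE6.good.xG b s * TE6.good.xG a t = TE6.good.xG a t * TE6.good.xG b s)
    (hw : (b, a) ∈ [(e6p1, e6p6), (e6m1, e6m6), (e6p3, e6p5), (e6m3, e6m5)]) {x : GL chevE6.Idx K}
    (hx : x ∈ TE6.good.Xp K (fun r => lamJ TE6.cert chevE6.rank {i | i ∈ Jl} r = 0)) (hs : (tE6 φ).s x = x) : x ∈ twistedE6 K q := by
  obtain ⟨t, rfl⟩ := (tE6 φ).fix_two TE6.extra ha hb hpa hpb hab hL hc (g := φ) (g' := φ) (fun t => by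
    rw [tE6_s φ ha, h1, h2]
    simp) (fun t => by
    rw [tE6_s φ hb, h3, h4]
    simp) hx hs
  have h5 : TE6.good.wordG [(b, φ t), (a, (φ t) ^ q)] ∈ twistedE6 K q :=
    TE6.good.wordG_mem_gen (Or.inr ⟨φ t, _, hw, rfl⟩)
  have e : TE6.good.wordG [(b, φ t), (a, (φ t) ^ q)] = TE6.good.xG a t * TE6.good.xG b (φ t) := by
    simp only [Good.wordG, List.map_cons, List.map_nil, List.prod_cons, List.prod_nil, mul_one]
    rw [← hφ, hφ2, hc]
  rwa [e] at h5

/-- The positive-side non-trivial elements for a pair. -/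
lemma e6_neB {Jl : List ℕ} {a b : ℕ} (ha : a < chevE6.nroots) (hb : b < chevE6.nroots) (hpa : chevE6.nroots / 2 ≤ a) (hpb : chevE6.nroots / 2 ≤ b) (hab : a < b)
    (hLa : ∀ k < chevE6.rank, k ∉ Jl → TE6.cert.coef a k = 0) (hLb : ∀ k < chevE6.rank, k ∉ Jl → TE6.cert.coef b k = 0)
    (hc : ∀ s t : K, TE6.good.xG b s * TE6.good.xG a t = TE6.good.xG a t * TE6.good.xG b s)
    (hw : (b, a) ∈ [(e6p1, e6p6), (e6m1, e6m6), (e6p3, e6p5), (e6m3, e6m5)]) :
    ∃ y ∈ TE6.good.Xp K (fun r => lamJ TE6.cert chevE6.rank {i | i ∈ Jl} r = 0), (tE6 φ).s y = y ∧ y ≠ 1 := by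
  refine ⟨TE6.good.xG a 1 * TE6.good.xG b 1, mul_mem (TE6.extra.x_mem_Xp TE6.good ha hpa hLa 1) (TE6.extra.x_mem_Xp TE6.good hb hpb hLb 1), ?_, ?_⟩
  · have h5 : TE6.good.wordG [(b, (1 : K)), (a, (1 : K) ^ q)] ∈ twistedE6 K q :=
      TE6.good.wordG_mem_gen (Or.inr ⟨1, _, hw, rfl⟩)
    have e : TE6.good.wordG [(b, (1 : K)), (a, (1 : K) ^ q)] = TE6.good.xG a 1 * TE6.good.xG b 1 := by
      simp only [Good.wordG, List.map_cons, List.map_nil, List.prod_cons, List.prod_nil, mul_one, one_pow]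
      rw [hc]
    rw [e] at h5
    exact (e6_le_Fx φ hφ hφ2 h5).2
  · intro h
    have h1 : TE6.good.xG a (1 : K) = TE6.good.xG b (-1) := by
      rw [← TE6.good.xG_neg]
      exact eq_inv_of_mul_eq_one_left h
    have := TE6.extra.xG_root_eq TE6.good ha one_ne_zero hb h1
    omega

/-- The positive-side non-trivial elements for a single root. -/
lemma e6_neA {Jl : List ℕ} {r : ℕ} (hr : r < chevE6.nroots) (hp : chevE6.nroots / 2 ≤ r)
    (hL : ∀ k < chevE6.rank, k ∉ Jl → TE6.cert.coef r k = 0) (hw : r ∈ [e6p2, e6m2, e6p4, e6m4]) :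
    ∃ y ∈ TE6.good.Xp K (fun r => lamJ TE6.cert chevE6.rank {i | i ∈ Jl} r = 0), (tE6 φ).s y = y ∧ y ≠ 1 := by
  refine ⟨TE6.good.xG r 1, TE6.extra.x_mem_Xp TE6.good hr hp hL 1, ?_, ?_⟩
  · have h5 : TE6.good.wordG [(r, (1 : K))] ∈ twistedE6 K q :=
      TE6.good.wordG_mem_gen (Or.inl ⟨1, by simp, r, hw, rfl⟩)
    have e : TE6.good.wordG [(r, (1 : K))] = TE6.good.xG r 1 := by simp [Good.wordG]
    rw [e] at h5
    exact (e6_le_Fx φ hφ hφ2 h5).2
  · intro h
    exact one_ne_zero ((TE6.extra.xG_eq_one_iff TE6.good hr).1 h)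

/-- The data for `²E₆(q)`. -/
theorem e6_td : ∃ Dt : TwData (tE6 φ) (twistedE6 K q), ∃ e : Dt.ι ≃ Fin 4, ∀ j, Dt.J j = {i | i ∈ e6J (e j)} := by
  obtain ⟨u, hu⟩ := TE6.good.exists_neg_unit (K := K) (by decide +kernel)
  have hle := e6_le_Fx φ hφ hφ2
  have hneg : ∀ t : K, (-t) ^ q = - t ^ q := fun t => by
    rw [← hφ, ← hφ, map_neg]
  refine TwData.exists_of_pos TE6.extra hu ?_ (fun g hg => (hle hg).1) (fun g hg => (hle hg).2) ?_ (fun j => {i | i ∈ e6J j}) ?_ ?_ ?_ ?_ ?_ ?_
  · intro r hr t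
    show ((spE6.σ (chevE6.neg r) : ℤ) : K) * φ (-t) = -(((spE6.σ r : ℤ) : K) * φ t)
    rw [spE6.cert.good.σneg r hr, map_neg]
    ring
  · have hle2 : twistedE6 K q ≤ (twistedE6 K q).comap (MulAut.conj u⁻¹).toMonoidHom := by
      apply TE6.good.gen_le
      intro w hw
      have hlt : ∀ p ∈ w, p.1 < chevE6.nroots := by
        rcases hw with ⟨t, ht, r, hr, rfl⟩ | ⟨t, rs, hrs, rfl⟩
        · simp only [List.mem_cons, List.not_mem_nil, or_false] at hr
          rcases hr with rfl | rfl | rfl | rfl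
          all_goals
            intro p hp
            simp only [List.mem_cons, List.not_mem_nil, or_false] at hp
            subst hp
            dsimp only
            decide +kernel
        · simp only [List.mem_cons, List.not_mem_nil, or_false] at hrs
          rcases hrs with rfl | rfl | rfl | rfl
          all_goals
            intro p hp
            simp only [List.mem_cons, List.not_mem_nil, or_false] at hp
            rcases hp with rfl | rfl
            all_goals
              dsimp only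
              decide +kernel
      show u⁻¹ * TE6.good.wordG w * u⁻¹⁻¹ ∈ twistedE6 K q
      rw [inv_inv, TE6.good.conj_wordG (fun r hr t => (hu r hr t).2) w hlt]
      apply TE6.good.wordG_mem_gen
      rcases hw with ⟨t, ht, r, hr, rfl⟩ | ⟨t, rs, hrs, rfl⟩
      · left
        refine ⟨-t, by rw [hneg, ht], chevE6.neg r, ?_, rfl⟩
        simp only [List.mem_cons, List.not_mem_nil, or_false] at hr
        rcases hr with rfl | rfl | rfl | rfl
        all_goals decide +kernel
      · right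
        refine ⟨-t, (chevE6.neg rs.1, chevE6.neg rs.2), ?_, ?_⟩
        · simp only [List.mem_cons, List.not_mem_nil, or_false] at hrs
          rcases hrs with rfl | rfl | rfl | rfl
          all_goals decide +kernel
        · simp only [List.map_cons, List.map_nil]
          rw [hneg]
    intro g hg
    have := hle2 hg
    simpa using this
  · intro j i hi
    have : ∀ j : Fin 4, ∀ i, i ∈ e6J j → i < chevE6.rank := by decide +kernel
    exact this j i hi
  · intro j j' h
    have h1 : ∀ i, i ∈ e6J j ↔ i ∈ e6J j' := fun i => Set.ext_iff.1 h i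
    have : ∀ j j' : Fin 4, (∀ i < 6, i ∈ e6J j → i ∈ e6J j') → (∀ i < 6, i ∈ e6J j' → i ∈ e6J j) → j = j' := by decide +kernel
    exact this j j' (fun i _ h2 => (h1 i).1 h2) (fun i _ h2 => (h1 i).2 h2)
  · intro i hi
    have : ∀ i < chevE6.rank, ∃ j : Fin 4, i ∈ e6J j := by decide +kernel
    exact this i hi
  · intro j i hi i' hi'
    have hlt : ∀ j : Fin 4, ∀ i, i ∈ e6J j → i < 6 := by decide +kernel
    have : ∀ j : Fin 4, ∀ i < 6, i ∈ e6J j → ∀ i' < 6, i' ∈ e6J j → ∃ k < 2, spE6.π^[k] (chevE6.simple i) = chevE6.simple i' := by decide +kernel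
    obtain ⟨k, _, h⟩ := this j i (hlt j i hi) hi i' (hlt j i' hi') hi'
    exact ⟨k, h⟩
  · intro j x hx hs
    fin_cases j
    · exact e6_XA φ hφ hφ2 (Jl := [1]) (r := e6p2) (by decide +kernel) (by decide +kernel) (by decide +kernel) (by decide +kernel) (by decide +kernel) (by decide +kernel) hx hs
    · exact e6_XA φ hφ hφ2 (Jl := [3]) (r := e6p4) (by decide +kernel) (by decide +kernel) (by decide +kernel) (by decide +kernel) (by decide +kernel) (by decide +kernel) hx hs
    · refine e6_XB φ hφ hφ2 (Jl := [0, 5]) (a := e6p6) (b := e6p1) (by decide +kernel) (by decide +kernel) (by decide +kernel) (by decide +kernel) (by decide +kernel) (by decide +kernel) (by decide +kernel) (by decide +kernel) (by decide +kernel) (by decide +kernel) ?_ (by decide +kernel) hx hs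
      intro s t
      exact TE6.good.x_comm (by decide +kernel) (by decide +kernel) (by decide +kernel) (by decide +kernel) (by decide +kernel) t s
    · refine e6_XB φ hφ hφ2 (Jl := [2, 4]) (a := e6p5) (b := e6p3) (by decide +kernel) (by decide +kernel) (by decide +kernel) (by decide +kernel) (by decide +kernel) (by decide +kernel) (by decide +kernel) (by decide +kernel) (by decide +kernel) (by decide +kernel) ?_ (by decide +kernel) hx hs
      intro s t
      exact TE6.good.x_comm (by decide +kernel) (by decide +kernel) (by decide +kernel) (by decide +kernel) (by decide +kernel) t s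
  · intro j
    fin_cases j
    · exact e6_neA φ hφ hφ2 (Jl := [1]) (r := e6p2) (by decide +kernel) (by decide +kernel) (by decide +kernel) (by decide +kernel)
    · exact e6_neA φ hφ hφ2 (Jl := [3]) (r := e6p4) (by decide +kernel) (by decide +kernel) (by decide +kernel) (by decide +kernel)
    · refine e6_neB φ hφ hφ2 (Jl := [0, 5]) (a := e6p6) (b := e6p1) (by decide +kernel) (by decide +kernel) (by decide +kernel) (by decide +kernel) (by decide +kernel) (by decide +kernel) (by decide +kernel) ?_ (by decide +kernel)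
      intro s t
      exact TE6.good.x_comm (by decide +kernel) (by decide +kernel) (by decide +kernel) (by decide +kernel) (by decide +kernel) t s
    · refine e6_neB φ hφ hφ2 (Jl := [2, 4]) (a := e6p5) (b := e6p3) (by decide +kernel) (by decide +kernel) (by decide +kernel) (by decide +kernel) (by decide +kernel) (by decide +kernel) (by decide +kernel) ?_ (by decide +kernel)
      intro s t
      exact TE6.good.x_comm (by decide +kernel) (by decide +kernel) (by decide +kernel) (by decide +kernel) (by decide +kernel) t s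

end inst

end E6

end CfsgLib.Chev
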