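/-
³D₄ as a twisted group.
-/
import Cfsg.Agent.Lib.Tw.E6

set_option autoImplicit false
set_option synthInstance.maxHeartbeats 400000
set_option synthInstance.maxSize 1024

namespace CfsgLib.Chev

open Cfsg.Lie Cfsg.Lie.ChevalleyDatum CfsgLib.BN

section

variable {D : ChevalleyDatum} {C : Cert} {hG : Good D C} {K : Type*} [Field K] (hE : Extra D C) (A : TwAct hG K)

include hE in
/-- Fixed points for an orbit of three commuting roots. -/
lemma TwAct.fix_three {Jl : List ℕ} {a b c : ℕ} (ha : a < D.nroots) (hb : b < D.nroots) (hc : c < D.nroots)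
    (hpa : D.nroots / 2 ≤ a) (hpb : D.nroots / 2 ≤ b) (hpc : D.nroots / 2 ≤ c) (hab : a < b) (hbc : b < c)
    (hL : ∀ r', r' < D.nroots → D.nroots / 2 ≤ r' → (r' ∈ [a, b, c] ↔ ∀ k < D.rank, k ∉ Jl → C.coef r' k = 0))
    (hc1 : ∀ s t : K, hG.xG c s * hG.xG a t = hG.xG a t * hG.xG c s)
    (hc2 : ∀ s t : K, hG.xG c s * hG.xG b t = hG.xG b t * hG.xG c s)
    (hc3 : ∀ s t : K, hG.xG b s * hG.xG a t = hG.xG a t * hG.xG b s)
    {g : K → K} (hsa : ∀ t, A.s (hG.xG a t) = hG.xG c (g t)) (hsb : ∀ t, A.s (hG.xG b t) = hG.xG a (g t))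
    (hsc : ∀ t, A.s (hG.xG c t) = hG.xG b (g t))
    {x : GL D.Idx K} (hx : x ∈ hG.Xp K (fun r => lamJ C D.rank {i | i ∈ Jl} r = 0))
    (hsx : A.s x = x) : ∃ t, x = hG.xG a (g (g t)) * hG.xG b (g t) * hG.xG c t := by
  classical
  have hne : a ≠ b := by omega
  have hne2 : a ≠ c := by omega
  have hne3 : b ≠ c := by omega
  have hle : ∀ r ∈ [a, b, c], D.nroots / 2 ≤ r ∧ r < D.nroots := by
    simpa using ⟨⟨hpa, ha⟩, ⟨hpb, hb⟩, ⟨hpc, hc⟩⟩
  obtain ⟨τ, rfl⟩ := hE.Xp_prodL hG (L := [a, b, c]) (by simp [hne, hne2, hne3]) hle hL hx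
  have e1 : ∀ σ : ℕ → K, hG.prodL [a, b, c] σ = hG.xG a (σ a) * hG.xG b (σ b) * hG.xG c (σ c) := by
    intro σ
    rw [hG.prodL_cons, hG.prodL_cons, hG.prodL_cons, hG.prodL_nil, mul_one, mul_assoc]
  have hG1 : ∀ t : K, hG.xG a t ∈ D.group K := hG.mem_group ha
  have hG2 : ∀ t : K, hG.xG b t ∈ D.group K := hG.mem_group hb
  have hG3 : ∀ t : K, hG.xG c t ∈ D.group K := hG.mem_group hc
  rw [e1, A.s_mul (mul_mem (hG1 _) (hG2 _)) (hG3 _), A.s_mul (hG1 _) (hG2 _), hsa, hsb, hsc] at hsx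
  have e3 : hG.xG c (g (τ a)) * hG.xG a (g (τ b)) * hG.xG b (g (τ c)) = hG.xG a (g (τ b)) * hG.xG b (g (τ c)) * hG.xG c (g (τ a)) := by
    rw [hc1, mul_assoc, mul_assoc, hc2]
  rw [e3] at hsx
  have e2 : hG.prodL [a, b, c] (fun r => if r = a then g (τ b) else if r = b then g (τ c) else g (τ a)) = hG.prodL [a, b, c] τ := by
    rw [e1, e1]
    simp only [if_true, if_neg hne.symm, if_neg hne2.symm, if_neg hne3.symm]
    exact hsx
  have h1 := hE.prodL_injective hG (L := [a, b, c]) (by simp; omega) hle _ _ e2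
  have h2 := h1 a (by simp)
  have h3 := h1 b (by simp)
  simp only [if_true, if_neg hne.symm] at h2 h3
  refine ⟨τ c, ?_⟩
  rw [e1, ← h2, ← h3]

end

section D4

variable (K : Type*) [Field K]

/-- The triality automorphism of `D₄`. -/
noncomputable def gD4 : ↥(chevD4.group K) ≃* ↥(chevD4.group K) :=
  ((GraphCert.exists_full TD4.good spD4c.cert (K := K)).choose).trans (GraphCert.exists_full TD4.good spD4a.cert (K := K)).choose

/-- The permutation of triality. -/
def d4π (r : ℕ) : ℕ := spD4a.π (spD4c.π r)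
/-- The signs of triality. -/
def d4ε (r : ℕ) : ℤ := spD4a.σ (spD4c.π r) * spD4c.σ r

lemma gD4_spec : ∀ (g : ↥(chevD4.group K)) (r : ℕ) (t : K), r < chevD4.nroots → ((g : GL chevD4.Idx K) : Matrix chevD4.Idx chevD4.Idx K) = chevD4.x K r t →
      ((gD4 K g : GL chevD4.Idx K) : Matrix chevD4.Idx chevD4.Idx K) = chevD4.x K (d4π r) (((d4ε r : ℤ) : K) * t) := by
  intro g r t hr e
  have h1 := (GraphCert.exists_full TD4.good spD4c.cert (K := K)).choose_spec g r t hr e
  have h2 := (GraphCert.exists_full TD4.good spD4a.cert (K := K)).choose_spec _ _ _ (spD4c.cert.good.lt r hr) h1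
  unfold gD4 d4π d4ε
  simp only [MulEquiv.trans_apply]
  rw [h2, ← mul_assoc]
  push_cast
  rfl

variable {K}

/-- The twisting automorphism. -/
noncomputable def tD4 (φ : K ≃+* K) : TwAct TD4.good K :=
  TwAct.ofGraph TD4.good (gD4 K) d4π d4ε φ (gD4_spec K) (by decide +kernel) (by decide +kernel) (by decide +kernel) (by decide +kernel) (by decide +kernel)

lemma tD4_s (φ : K ≃+* K) {r : ℕ} (hr : r < chevD4.nroots) (t : K) :
    (tD4 φ).s (TD4.good.xG r t) = TD4.good.xG (d4π r) (((d4ε r : ℤ) : K) * φ t) :=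
  (tD4 φ).s_x hr t

/-- The orbits of the symmetry of `D₄` on the nodes. -/
def d4J (j : Fin 2) : List ℕ := [[1], [0, 2, 3]].getD j []

section inst

variable {q : ℕ} (φ : K ≃+* K) (hφ : ∀ t, φ t = t ^ q) (hφ3 : ∀ t, φ (φ (φ t)) = t)

include hφ hφ3

lemma d4_fix1 {r : ℕ} (hr : r < chevD4.nroots) (h1 : d4π r = r) (h2 : d4ε r = 1) {t : K} (ht : t ^ q = t) :
    TD4.good.wordG [(r, t)] ∈ ((tD4 φ).base TD4.extra TD4.braid).Fx := by
  have e : TD4.good.wordG [(r, t)] = TD4.good.xG r t := by simp [Good.wordG]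
  rw [e]
  refine ⟨TD4.good.mem_group hr t, ?_⟩
  show (tD4 φ).s _ = _
  rw [tD4_s φ hr, h1, h2, hφ, ht]
  simp

lemma d4_fix3 {a b c : ℕ} (ha : a < chevD4.nroots) (hb : b < chevD4.nroots) (hc : c < chevD4.nroots) (h1 : d4π a = b) (h2 : d4ε a = 1)
    (h3 : d4π b = c) (h4 : d4ε b = 1) (h5 : d4π c = a) (h6 : d4ε c = 1)
    (hc1 : ∀ s t : K, TD4.good.xG c s * TD4.good.xG a t = TD4.good.xG a t * TD4.good.xG c s)
    (hc2 : ∀ s t : K, TD4.good.xG c s * TD4.good.xG b t = TD4.good.xG b t * TD4.good.xG c s)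
    (hc3 : ∀ s t : K, TD4.good.xG b s * TD4.good.xG a t = TD4.good.xG a t * TD4.good.xG b s) (t : K) :
    TD4.good.wordG [(a, t), (b, t ^ q), (c, t ^ (q ^ 2))] ∈ ((tD4 φ).base TD4.extra TD4.braid).Fx := by
  have e : TD4.good.wordG [(a, t), (b, t ^ q), (c, t ^ (q ^ 2))] = TD4.good.xG a t * TD4.good.xG b (t ^ q) * TD4.good.xG c (t ^ (q ^ 2)) := by
    simp [Good.wordG, mul_assoc]
  have e2 : t ^ (q ^ 2) = φ (φ t) := by
    rw [hφ, hφ, ← pow_mul, pow_two]
  rw [e, e2, ← hφ]
  have hGa : ∀ t : K, TD4.good.xG a t ∈ chevD4.group K := TD4.good.mem_group ha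
  have hGb : ∀ t : K, TD4.good.xG b t ∈ chevD4.group K := TD4.good.mem_group hb
  have hGc : ∀ t : K, TD4.good.xG c t ∈ chevD4.group K := TD4.good.mem_group hc
  refine ⟨mul_mem (mul_mem (hGa _) (hGb _)) (hGc _), ?_⟩
  show (tD4 φ).s _ = _
  rw [(tD4 φ).s_mul (mul_mem (hGa _) (hGb _)) (hGc _), (tD4 φ).s_mul (hGa _) (hGb _), tD4_s φ ha, tD4_s φ hb, tD4_s φ hc, h1, h2, h3, h4, h5, h6, hφ3]
  simp only [Int.cast_one, one_mul]
  rw [mul_assoc, hc1, ← mul_assoc, hc3]

/-- The subgroup `³D₄(q)` consists of fixed points. -/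
theorem d4_le_Fx : twistedD4 K q ≤ ((tD4 φ).base TD4.extra TD4.braid).Fx := by
  apply TD4.good.gen_le
  rintro w (⟨t, ht, r, hr, rfl⟩ | ⟨t, rs, hrs, rfl⟩)
  · simp only [List.mem_cons, List.not_mem_nil, or_false] at hr
    rcases hr with rfl | rfl
    all_goals exact d4_fix1 φ hφ hφ3 (by decide +kernel) (by decide +kernel) (by decide +kernel) ht
  · simp only [List.mem_cons, List.not_mem_nil, or_false] at hrs
    rcases hrs with rfl | rfl
    all_goals
      refine d4_fix3 φ hφ hφ3 (by decide +kernel) (by decide +kernel) (by decide +kernel) (by decide +kernel) (by decide +kernel) (by decide +kernel) (by decide +kernel) (by decide +kernel) (by decide +kernel) ?_ ?_ ?_ t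
      all_goals
        intro s t
        exact TD4.good.x_comm (by decide +kernel) (by decide +kernel) (by decide +kernel) (by decide +kernel) (by decide +kernel) t s

lemma d4_XA {Jl : List ℕ} {r : ℕ} (hr : r < chevD4.nroots) (hp : chevD4.nroots / 2 ≤ r)
    (hL : ∀ r', r' < chevD4.nroots → chevD4.nroots / 2 ≤ r' → (r' ∈ [r] ↔ ∀ k < chevD4.rank, k ∉ Jl → TD4.cert.coef r' k = 0))
    (h1 : d4π r = r) (h2 : d4ε r = 1) (hw : r ∈ [d4p2, d4m2]) {x : GL chevD4.Idx K}
    (hx : x ∈ TD4.good.Xp K (fun r => lamJ TD4.cert chevD4.rank {i | i ∈ Jl} r = 0)) (hs : (tD4 φ).s x = x) : x ∈ twistedD4 K q := by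
  obtain ⟨t, ht, rfl⟩ := (tD4 φ).fix_one TD4.extra hr hp hL (g := φ) (fun t => by
    rw [tD4_s φ hr, h1, h2]
    simp) hx hs
  have h3 : TD4.good.wordG [(r, t)] ∈ twistedD4 K q :=
    TD4.good.wordG_mem_gen (Or.inl ⟨t, by rw [← hφ, ht], r, hw, rfl⟩)
  simpa [Good.wordG] using h3

lemma d4_XB {x : GL chevD4.Idx K}
    (hx : x ∈ TD4.good.Xp K (fun r => lamJ TD4.cert chevD4.rank {i | i ∈ [0, 2, 3]} r = 0)) (hs : (tD4 φ).s x = x) : x ∈ twistedD4 K q := by
  have hc1 : ∀ s t : K, TD4.good.xG d4p1 s * TD4.good.xG d4p4 t = TD4.good.xG d4p4 t * TD4.good.xG d4p1 s := fun s t =>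
    TD4.good.x_comm (by decide +kernel) (by decide +kernel) (by decide +kernel) (by decide +kernel) (by decide +kernel) t s
  have hc2 : ∀ s t : K, TD4.good.xG d4p1 s * TD4.good.xG d4p3 t = TD4.good.xG d4p3 t * TD4.good.xG d4p1 s := fun s t =>
    TD4.good.x_comm (by decide +kernel) (by decide +kernel) (by decide +kernel) (by decide +kernel) (by decide +kernel) t s
  have hc3 : ∀ s t : K, TD4.good.xG d4p3 s * TD4.good.xG d4p4 t = TD4.good.xG d4p4 t * TD4.good.xG d4p3 s := fun s t =>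
    TD4.good.x_comm (by decide +kernel) (by decide +kernel) (by decide +kernel) (by decide +kernel) (by decide +kernel) t s
  have hp1 : d4π d4p1 = d4p3 := by decide +kernel
  have hp3 : d4π d4p3 = d4p4 := by decide +kernel
  have hp4 : d4π d4p4 = d4p1 := by decide +kernel
  have he1 : d4ε d4p1 = 1 := by decide +kernel
  have he3 : d4ε d4p3 = 1 := by decide +kernel
  have he4 : d4ε d4p4 = 1 := by decide +kernel
  obtain ⟨t, rfl⟩ := (tD4 φ).fix_three TD4.extra (a := d4p4) (b := d4p3) (c := d4p1) (by decide +kernel) (by decide +kernel) (by decide +kernel) (by decide +kernel) (by decide +kernel) (by decide +kernel) (by decide +kernel) (by decide +kernel)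
    (by decide +kernel) hc1 hc2 hc3 (g := φ) (fun t => by
      rw [tD4_s φ (by decide +kernel), hp4, he4]
      simp) (fun t => by
      rw [tD4_s φ (by decide +kernel), hp3, he3]
      simp) (fun t => by
      rw [tD4_s φ (by decide +kernel), hp1, he1]
      simp) hx hs
  have h5 : TD4.good.wordG [(d4p1, t), (d4p3, t ^ q), (d4p4, t ^ (q ^ 2))] ∈ twistedD4 K q :=
    TD4.good.wordG_mem_gen (Or.inr ⟨t, (d4p1, d4p3, d4p4), by simp, rfl⟩)
  have e2 : t ^ (q ^ 2) = φ (φ t) := by
    rw [hφ, hφ, ← pow_mul, pow_two]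
  have e : TD4.good.wordG [(d4p1, t), (d4p3, t ^ q), (d4p4, t ^ (q ^ 2))] = TD4.good.xG d4p4 (φ (φ t)) * TD4.good.xG d4p3 (φ t) * TD4.good.xG d4p1 t := by
    simp only [Good.wordG, List.map_cons, List.map_nil, List.prod_cons, List.prod_nil, mul_one]
    rw [e2, ← hφ, ← mul_assoc, hc2, mul_assoc, hc1, ← mul_assoc, hc3]
  rwa [e] at h5

/-- The data for `³D₄(q)`. -/
theorem d4_td : ∃ Dt : TwData (tD4 φ) (twistedD4 K q), ∃ e : Dt.ι ≃ Fin 2, ∀ j, Dt.J j = {i | i ∈ d4J (e j)} := by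
  obtain ⟨u, hu⟩ := TD4.good.exists_neg_unit (K := K) (by decide +kernel)
  have hle := d4_le_Fx φ hφ hφ3
  have hneg : ∀ t : K, (-t) ^ q = - t ^ q := fun t => by
    rw [← hφ, ← hφ, map_neg]
  have hneg2 : ∀ t : K, (-t) ^ (q ^ 2) = - t ^ (q ^ 2) := fun t => by
    rw [pow_two, pow_mul, hneg, hneg, ← pow_mul]
  refine TwData.exists_of_pos TD4.extra hu ?_ (fun g hg => (hle hg).1) (fun g hg => (hle hg).2) ?_ (fun j => {i | i ∈ d4J j}) ?_ ?_ ?_ ?_ ?_ ?_
  · intro r hr t
    show ((d4ε (chevD4.neg r) : ℤ) : K) * φ (-t) = -(((d4ε r : ℤ) : K) * φ t)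
    have : ∀ r < chevD4.nroots, d4ε (chevD4.neg r) = d4ε r := by decide +kernel
    rw [this r hr, map_neg]
    ring
  · have hle2 : twistedD4 K q ≤ (twistedD4 K q).comap (MulAut.conj u⁻¹).toMonoidHom := by
      apply TD4.good.gen_le
      intro w hw
      have hlt : ∀ p ∈ w, p.1 < chevD4.nroots := by
        rcases hw with ⟨t, ht, r, hr, rfl⟩ | ⟨t, rs, hrs, rfl⟩
        · simp only [List.mem_cons, List.not_mem_nil, or_false] at hr
          rcases hr with rfl | rfl
          all_goals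
            intro p hp
            simp only [List.mem_cons, List.not_mem_nil, or_false] at hp
            subst hp
            dsimp only
            decide +kernel
        · simp only [List.mem_cons, List.not_mem_nil, or_false] at hrs
          rcases hrs with rfl | rfl
          all_goals
            intro p hp
            simp only [List.mem_cons, List.not_mem_nil, or_false] at hp
            rcases hp with rfl | rfl | rfl
            all_goals
              dsimp only
              decide +kernel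
      show u⁻¹ * TD4.good.wordG w * u⁻¹⁻¹ ∈ twistedD4 K q
      rw [inv_inv, TD4.good.conj_wordG (fun r hr t => (hu r hr t).2) w hlt]
      apply TD4.good.wordG_mem_gen
      rcases hw with ⟨t, ht, r, hr, rfl⟩ | ⟨t, rs, hrs, rfl⟩
      · left
        refine ⟨-t, by rw [hneg, ht], chevD4.neg r, ?_, rfl⟩
        simp only [List.mem_cons, List.not_mem_nil, or_false] at hr
        rcases hr with rfl | rfl
        all_goals decide +kernel
      · right
        refine ⟨-t, (chevD4.neg rs.1, chevD4.neg rs.2.1, chevD4.neg rs.2.2), ?_, ?_⟩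
        · simp only [List.mem_cons, List.not_mem_nil, or_false] at hrs
          rcases hrs with rfl | rfl
          all_goals decide +kernel
        · simp only [List.map_cons, List.map_nil]
          rw [hneg, hneg2]
    intro g hg
    have := hle2 hg
    simpa using this
  · intro j i hi
    have : ∀ j : Fin 2, ∀ i, i ∈ d4J j → i < chevD4.rank := by decide +kernel
    exact this j i hi
  · intro j j' h
    have h1 : ∀ i, i ∈ d4J j ↔ i ∈ d4J j' := fun i => Set.ext_iff.1 h i
    have : ∀ j j' : Fin 2, (∀ i < 4, i ∈ d4J j → i ∈ d4J j') → (∀ i < 4, i ∈ d4J j' → i ∈ d4J j) → j = j' := by decide +kernel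
    exact this j j' (fun i _ h2 => (h1 i).1 h2) (fun i _ h2 => (h1 i).2 h2)
  · intro i hi
    have : ∀ i < chevD4.rank, ∃ j : Fin 2, i ∈ d4J j := by decide +kernel
    exact this i hi
  · intro j i hi i' hi'
    have hlt : ∀ j : Fin 2, ∀ i, i ∈ d4J j → i < 4 := by decide +kernel
    have : ∀ j : Fin 2, ∀ i < 4, i ∈ d4J j → ∀ i' < 4, i' ∈ d4J j → ∃ k < 3, d4π^[k] (chevD4.simple i) = chevD4.simple i' := by decide +kernel
    obtain ⟨k, _, h⟩ := this j i (hlt j i hi) hi i' (hlt j i' hi') hi'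
    exact ⟨k, h⟩
  · intro j x hx hs
    fin_cases j
    · exact d4_XA φ hφ hφ3 (Jl := [1]) (r := d4p2) (by decide +kernel) (by decide +kernel) (by decide +kernel) (by decide +kernel) (by decide +kernel) (by decide +kernel) hx hs
    · exact d4_XB φ hφ hφ3 hx hs
  · intro j
    fin_cases j
    · refine ⟨TD4.good.xG d4p2 1, TD4.extra.x_mem_Xp TD4.good (by decide +kernel) (by decide +kernel) (by decide +kernel) 1, ?_, ?_⟩
      · have h5 : TD4.good.wordG [(d4p2, (1 : K))] ∈ twistedD4 K q :=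
          TD4.good.wordG_mem_gen (Or.inl ⟨1, by simp, d4p2, by simp, rfl⟩)
        have e : TD4.good.wordG [(d4p2, (1 : K))] = TD4.good.xG d4p2 1 := by simp [Good.wordG]
        rw [e] at h5
        exact (hle h5).2
      · intro h
        exact one_ne_zero ((TD4.extra.xG_eq_one_iff TD4.good (by decide +kernel)).1 h)
    · have hL : ∀ r ∈ [d4p4, d4p3, d4p1], ∀ k < chevD4.rank, k ∉ [0, 2, 3] → TD4.cert.coef r k = 0 := by decide +kernel
      have h5 : TD4.good.wordG [(d4p1, (1 : K)), (d4p3, (1 : K) ^ q), (d4p4, (1 : K) ^ (q ^ 2))] ∈ twistedD4 K q :=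
        TD4.good.wordG_mem_gen (Or.inr ⟨1, (d4p1, d4p3, d4p4), by simp, rfl⟩)
      have e : TD4.good.wordG [(d4p1, (1 : K)), (d4p3, (1 : K) ^ q), (d4p4, (1 : K) ^ (q ^ 2))] = TD4.good.xG d4p1 1 * (TD4.good.xG d4p3 1 * TD4.good.xG d4p4 1) := by
        simp [Good.wordG]
      rw [e] at h5
      refine ⟨_, mul_mem (TD4.extra.x_mem_Xp TD4.good (by decide +kernel) (by decide +kernel) (hL _ (by simp)) 1) (mul_mem (TD4.extra.x_mem_Xp TD4.good (by decide +kernel) (by decide +kernel) (hL _ (by simp)) 1)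
        (TD4.extra.x_mem_Xp TD4.good (by decide +kernel) (by decide +kernel) (hL _ (by simp)) 1)), (hle h5).2, ?_⟩
      intro h
      -- uniqueness of the parameters
      have hc1 : ∀ s t : K, TD4.good.xG d4p1 s * TD4.good.xG d4p4 t = TD4.good.xG d4p4 t * TD4.good.xG d4p1 s := fun s t =>
        TD4.good.x_comm (by decide +kernel) (by decide +kernel) (by decide +kernel) (by decide +kernel) (by decide +kernel) t s
      have hc2 : ∀ s t : K, TD4.good.xG d4p1 s * TD4.good.xG d4p3 t = TD4.good.xG d4p3 t * TD4.good.xG d4p1 s := fun s t =>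
        TD4.good.x_comm (by decide +kernel) (by decide +kernel) (by decide +kernel) (by decide +kernel) (by decide +kernel) t s
      have hc3 : ∀ s t : K, TD4.good.xG d4p3 s * TD4.good.xG d4p4 t = TD4.good.xG d4p4 t * TD4.good.xG d4p3 s := fun s t =>
        TD4.good.x_comm (by decide +kernel) (by decide +kernel) (by decide +kernel) (by decide +kernel) (by decide +kernel) t s
      have e1 : ∀ σ : ℕ → K, TD4.good.prodL [d4p4, d4p3, d4p1] σ = TD4.good.xG d4p4 (σ d4p4) * (TD4.good.xG d4p3 (σ d4p3) * TD4.good.xG d4p1 (σ d4p1)) := by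
        intro σ
        rw [TD4.good.prodL_cons, TD4.good.prodL_cons, TD4.good.prodL_cons, TD4.good.prodL_nil, mul_one]
      have e0 : TD4.good.prodL [d4p4, d4p3, d4p1] (fun _ => (1 : K)) = TD4.good.prodL [d4p4, d4p3, d4p1] (fun _ => (0 : K)) := by
        rw [e1, e1]
        simp only [TD4.good.xG_zero, mul_one]
        rw [← hc2 1 1, ← mul_assoc, ← hc1 1 1, mul_assoc, ← hc3 1 1]
        exact h
      have h7 := TD4.extra.prodL_injective TD4.good (L := [d4p4, d4p3, d4p1]) (by decide +kernel) (by decide +kernel) _ _ e0 d4p4 (by simp)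
      exact one_ne_zero h7

end inst

end D4

end CfsgLib.Chev
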