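/-
²F₄ as a twisted group.
-/
import Cfsg.Agent.Lib.Tw.D4

set_option autoImplicit false
set_option synthInstance.maxHeartbeats 400000
set_option synthInstance.maxSize 1024

namespace CfsgLib.Chev

open Cfsg.Lie Cfsg.Lie.ChevalleyDatum CfsgLib.BN

section

variable {D : ChevalleyDatum} {C : Cert} {K : Type*} [Field K]

/-- An automorphism of graph-field type, for a graph map with powers. -/
noncomputable def TwAct.ofGF (hG : Good D C) (α : ↥(D.group K) ≃* ↥(D.group K)) (ρ : ℕ → ℕ) (lam : ℕ → ℕ) (φ : K ≃+* K)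
    (hα : ∀ (g : ↥(D.group K)) (r : ℕ) (t : K), r < D.nroots → ((g : GL D.Idx K) : Matrix D.Idx D.Idx K) = D.x K r t →
      ((α g : GL D.Idx K) : Matrix D.Idx D.Idx K) = D.x K (ρ r) (t ^ lam r))
    (hlt : ∀ r < D.nroots, ρ r < D.nroots) (hpos : ∀ r < D.nroots, (D.nroots / 2 ≤ r ↔ D.nroots / 2 ≤ ρ r))
    (hneg : ∀ r < D.nroots, ρ (D.neg r) = D.neg (ρ r)) (hlamn : ∀ r < D.nroots, lam (D.neg r) = lam r)
    (hl : ∀ r < D.nroots, ∀ x : K, (-x) ^ lam r = - x ^ lam r) : TwAct hG K where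
  σ := α.toMonoidHom.comp (Classical.choose (hG.field_aut φ)).toMonoidHom
  π := ρ
  f := fun r t => (φ t) ^ lam r
  π_lt := hlt
  π_pos := hpos
  π_neg := hneg
  f_ne := by
    intro r hr t ht
    apply pow_ne_zero
    simpa using ht
  f_neg := by
    intro r hr t ht
    rw [hlamn r hr, map_neg, map_inv₀, hl r hr, inv_pow]
  σ_x := by
    intro r hr t
    apply Units.ext
    have h1 := Classical.choose_spec (hG.field_aut φ) ⟨hG.xG r t, hG.mem_group hr t⟩ r t hr (hG.xG_val r t)
    exact hα _ r _ hr h1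

end

section F4

variable {K : Type*} [Field K] [CharP K 2] (hperf : ∀ x : K, ∃ y : K, y ^ 2 = x)

/-- The graph map of `F₄`. -/
noncomputable def gF4 : ↥(chevF4.group K) ≃* ↥(chevF4.group K) :=
  haveI : Fact (Nat.Prime 2) := ⟨Nat.prime_two⟩
  (GF.exists_aut' (p := 2) TF4.good gfF4_chk hperf TF4.extra TF4.braid TF4.long (TF4.rank1 _)).choose

lemma gF4_spec : ∀ (g : ↥(chevF4.group K)) (r : ℕ) (t : K), r < chevF4.nroots → ((g : GL chevF4.Idx K) : Matrix chevF4.Idx chevF4.Idx K) = chevF4.x K r t →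
      ((gF4 hperf g : GL chevF4.Idx K) : Matrix chevF4.Idx chevF4.Idx K) = chevF4.x K (gfF4.ρ r) (t ^ gfF4.lam r) :=
  haveI : Fact (Nat.Prime 2) := ⟨Nat.prime_two⟩
  (GF.exists_aut' (p := 2) TF4.good gfF4_chk hperf TF4.extra TF4.braid TF4.long (TF4.rank1 _)).choose_spec

lemma neg_pow_char2 (x : K) (n : ℕ) : (-x) ^ n = - x ^ n := by
  rw [CharTwo.neg_eq, CharTwo.neg_eq]

/-- The twisting automorphism. -/
noncomputable def tF4 (φ : K ≃+* K) : TwAct TF4.good K :=
  TwAct.ofGF TF4.good (gF4 hperf) gfF4.ρ gfF4.lam φ (gF4_spec hperf) (by decide +kernel) (by decide +kernel) (by decide +kernel) (by decide +kernel)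
    (fun _ _ x => neg_pow_char2 x _)

lemma tF4_s (φ : K ≃+* K) {r : ℕ} (hr : r < chevF4.nroots) (t : K) :
    (tF4 hperf φ).s (TF4.good.xG r t) = TF4.good.xG (gfF4.ρ r) ((φ t) ^ gfF4.lam r) :=
  (tF4 hperf φ).s_x hr t

local notation "X" => TF4.good.xG (F := K)

lemma f4_comm_ab (s t : K) : X f4aab s * X f4ab t = X f4ab t * X f4aab s :=
  TF4.good.x_comm (by decide +kernel) (by decide +kernel) (by decide +kernel) (by decide +kernel) (by decide +kernel) t s

lemma f4_comm_14 (s t : K) : X f4p1 s * X f4p4 t = X f4p4 t * X f4p1 s :=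
  TF4.good.x_comm (by decide +kernel) (by decide +kernel) (by decide +kernel) (by decide +kernel) (by decide +kernel) t s

lemma f4_comm_ba (u t : K) : X f4a u * X f4b t = X f4b t * X f4a u * (X f4ab (t * u) * X f4aab (t * u ^ 2)) := by
  have h := TF4.good.comm_G (F := K) (r := f4b) (s := f4a) (by decide +kernel) (by decide +kernel) (by decide +kernel) (by decide +kernel) t u
  have e : chevF4.commTerms f4b f4a = [(f4ab, 1, 1, 1), (f4aab, -1, 1, 2)] := by decide +kernel
  unfold ChevalleyDatum.commWord at h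
  rw [e] at h
  simp only [List.map_cons, List.map_nil, Good.wordG, List.prod_cons, List.prod_nil, mul_one] at h
  rw [h]
  congr 3
  · simp [CharTwo.neg_eq]
  · simp [CharTwo.neg_eq]

/-- The normal form. -/
noncomputable def f4N (B A C E : K) : GL chevF4.Idx K := X f4b B * X f4a A * (X f4ab C * X f4aab E)

lemma f4N_eq_prodL (τ : ℕ → K) : TF4.good.prodL [f4b, f4a, f4ab, f4aab] τ = f4N (τ f4b) (τ f4a) (τ f4ab) (τ f4aab) := by
  unfold f4N
  rw [TF4.good.prodL_cons, TF4.good.prodL_cons, TF4.good.prodL_cons, TF4.good.prodL_cons, TF4.good.prodL_nil, mul_one]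
  group

lemma f4N_inj {B A C E B' A' C' E' : K} (h : f4N B A C E = f4N B' A' C' E') : B = B' ∧ A = A' ∧ C = C' ∧ E = E' := by
  classical
  have key : ∀ B A C E : K, f4N B A C E = TF4.good.prodL [f4b, f4a, f4ab, f4aab] (fun r => if r = f4b then B else if r = f4a then A else if r = f4ab then C else E) := by
    intro B A C E
    rw [f4N_eq_prodL]
    have e1 : f4a ≠ f4b := by decide
    have e2 : f4ab ≠ f4b := by decide
    have e3 : f4ab ≠ f4a := by decide
    have e4 : f4aab ≠ f4b := by decide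
    have e5 : f4aab ≠ f4a := by decide
    have e6 : f4aab ≠ f4ab := by decide
    simp only [if_true, if_neg e1, if_neg e2, if_neg e3, if_neg e4, if_neg e5, if_neg e6]
  rw [key, key] at h
  have h1 := TF4.extra.prodL_injective TF4.good (L := [f4b, f4a, f4ab, f4aab]) (by decide +kernel) (by decide +kernel) _ _ h
  have e1 : f4a ≠ f4b := by decide
  have e2 : f4ab ≠ f4b := by decide
  have e3 : f4ab ≠ f4a := by decide
  have e4 : f4aab ≠ f4b := by decide
  have e5 : f4aab ≠ f4a := by decide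
  have e6 : f4aab ≠ f4ab := by decide
  have h2 := h1 f4b (by simp)
  have h3 := h1 f4a (by simp)
  have h4 := h1 f4ab (by simp)
  have h5 := h1 f4aab (by simp)
  simp only [if_true, if_neg e1, if_neg e2, if_neg e3, if_neg e4, if_neg e5, if_neg e6] at h2 h3 h4 h5
  exact ⟨h2, h3, h4, h5⟩

lemma f4A_mul (C E C' E' : K) : (X f4ab C * X f4aab E) * (X f4ab C' * X f4aab E') = X f4ab (C + C') * X f4aab (E + E') := by
  rw [← TF4.good.xG_add, ← TF4.good.xG_add, mul_assoc, ← mul_assoc (X f4aab E), f4_comm_ab]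
  group

variable (φ : K ≃+* K) (hφ2 : ∀ t, (φ (φ t)) ^ 2 = t)

lemma f4_s_N (B A C E : K) : (tF4 hperf φ).s (f4N B A C E) =
    f4N ((φ A) ^ 2) (φ B) ((φ A) ^ 2 * φ B + φ E) ((φ A) ^ 2 * (φ B) ^ 2 + (φ C) ^ 2) := by
  have hG : ∀ {r : ℕ}, r < chevF4.nroots → ∀ t : K, X r t ∈ chevF4.group K := fun hr t => TF4.good.mem_group hr t
  have h1 : f4b < chevF4.nroots := by decide +kernel
  have h2 : f4a < chevF4.nroots := by decide +kernel
  have h3 : f4ab < chevF4.nroots := by decide +kernel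
  have h4 : f4aab < chevF4.nroots := by decide +kernel
  unfold f4N
  rw [(tF4 hperf φ).s_mul (mul_mem (hG h1 _) (hG h2 _)) (mul_mem (hG h3 _) (hG h4 _)), (tF4 hperf φ).s_mul (hG h1 _) (hG h2 _),
    (tF4 hperf φ).s_mul (hG h3 _) (hG h4 _), tF4_s hperf φ h1, tF4_s hperf φ h2, tF4_s hperf φ h3, tF4_s hperf φ h4]
  have e1 : gfF4.ρ f4b = f4a := by decide +kernel
  have e2 : gfF4.ρ f4a = f4b := by decide +kernel
  have e3 : gfF4.ρ f4ab = f4aab := by decide +kernel
  have e4 : gfF4.ρ f4aab = f4ab := by decide +kernel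
  have l1 : gfF4.lam f4b = 1 := by decide +kernel
  have l2 : gfF4.lam f4a = 2 := by decide +kernel
  have l3 : gfF4.lam f4ab = 2 := by decide +kernel
  have l4 : gfF4.lam f4aab = 1 := by decide +kernel
  rw [e1, e2, e3, e4, l1, l2, l3, l4, pow_one, pow_one, f4_comm_ba, mul_assoc, f4_comm_ab, f4A_mul]

lemma f4_word_eq {e : ℕ} (hφ : ∀ t, φ t = t ^ e) (t u : K) :
    TF4.good.wordG (b2ClassWord e f4a f4b f4ab f4aab t u) = f4N t (φ t) u (t * (φ t) ^ 2 + (φ u) ^ 2) := by
  have e1 : t ^ e = φ t := (hφ t).symm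
  have e2 : t ^ (e + 1) = φ t * t := by rw [pow_succ, ← hφ]
  have e3 : u ^ (2 * e) = (φ u) ^ 2 := by rw [hφ, ← pow_mul, mul_comm]
  unfold b2ClassWord f4N
  simp only [Good.wordG, List.map_cons, List.map_nil, List.prod_cons, List.prod_nil, mul_one]
  rw [e1, e2, e3, ← mul_assoc (X f4a _) (X f4b t), f4_comm_ba, mul_assoc (X f4b t * X f4a _), f4A_mul]
  congr 3
  rw [mul_comm (φ t) t, ← add_assoc, CharTwo.add_self_eq_zero, zero_add]

include hφ2 in
/-- The positive class words are fixed. -/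
lemma f4_class_fix {e : ℕ} (hφ : ∀ t, φ t = t ^ e) (t u : K) :
    (tF4 hperf φ).s (TF4.good.wordG (b2ClassWord e f4a f4b f4ab f4aab t u)) = TF4.good.wordG (b2ClassWord e f4a f4b f4ab f4aab t u) := by
  rw [f4_word_eq φ hφ, f4_s_N]
  simp only [map_add, map_mul, map_pow, hφ2]
  congr 3
  rw [mul_comm (φ t) t, ← add_assoc, CharTwo.add_self_eq_zero, zero_add]

include hφ2 in
/-- The positive pair words are fixed. -/
lemma f4_pair_fix {e : ℕ} (hφ : ∀ t, φ t = t ^ e) (t : K) :
    (tF4 hperf φ).s (TF4.good.wordG (f4PairWord e f4p1 f4p4 t)) = TF4.good.wordG (f4PairWord e f4p1 f4p4 t) := by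
  have h1 : f4p1 < chevF4.nroots := by decide +kernel
  have h2 : f4p4 < chevF4.nroots := by decide +kernel
  unfold f4PairWord
  simp only [Good.wordG, List.map_cons, List.map_nil, List.prod_cons, List.prod_nil, mul_one]
  rw [(tF4 hperf φ).s_mul (TF4.good.mem_group h1 _) (TF4.good.mem_group h2 _), tF4_s hperf φ h1, tF4_s hperf φ h2]
  have e1 : gfF4.ρ f4p1 = f4p4 := by decide +kernel
  have e2 : gfF4.ρ f4p4 = f4p1 := by decide +kernel
  have l1 : gfF4.lam f4p1 = 2 := by decide +kernel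
  have l2 : gfF4.lam f4p4 = 1 := by decide +kernel
  rw [e1, e2, l1, l2, pow_one, ← hφ, hφ2, f4_comm_14]

omit [CharP K 2] in
lemma f4Pair_lt {e a b : ℕ} (ha : a < chevF4.nroots) (hb : b < chevF4.nroots) (t : K) : ∀ p ∈ f4PairWord e a b t, p.1 < chevF4.nroots := by
  intro p hp
  simp only [f4PairWord, List.mem_cons, List.not_mem_nil, or_false] at hp
  rcases hp with rfl | rfl
  · exact ha
  · exact hb

omit [CharP K 2] in
lemma f4Class_lt {e a b c d : ℕ} (ha : a < chevF4.nroots) (hb : b < chevF4.nroots) (hc : c < chevF4.nroots) (hd : d < chevF4.nroots) (t u : K) :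
    ∀ p ∈ b2ClassWord e a b c d t u, p.1 < chevF4.nroots := by
  intro p hp
  simp only [b2ClassWord, List.mem_cons, List.not_mem_nil, or_false] at hp
  rcases hp with rfl | rfl | rfl | rfl
  · exact ha
  · exact hb
  · exact hc
  · exact hd

lemma f4Pair_neg {e : ℕ} (t : K) : (f4PairWord e f4p1 f4p4 t).map (fun p => (chevF4.neg p.1, -p.2)) = f4PairWord e f4m1 f4m4 t := by
  have e1 : chevF4.neg f4p1 = f4m1 := by decide +kernel
  have e2 : chevF4.neg f4p4 = f4m4 := by decide +kernel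
  simp only [f4PairWord, List.map_cons, List.map_nil, e1, e2, CharTwo.neg_eq]

lemma f4Class_neg {e : ℕ} (t u : K) : (b2ClassWord e f4a f4b f4ab f4aab t u).map (fun p => (chevF4.neg p.1, -p.2)) = b2ClassWord e f4ma f4mb f4mab f4maab t u := by
  have e1 : chevF4.neg f4a = f4ma := by decide +kernel
  have e2 : chevF4.neg f4b = f4mb := by decide +kernel
  have e3 : chevF4.neg f4ab = f4mab := by decide +kernel
  have e4 : chevF4.neg f4aab = f4maab := by decide +kernel
  simp only [b2ClassWord, List.map_cons, List.map_nil, e1, e2, e3, e4, CharTwo.neg_eq]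

/-- The orbits of the symmetry of `F₄` on the nodes. -/
def f4J (j : Fin 2) : List ℕ := [[0, 3], [1, 2]].getD j []

section inst

variable {e : ℕ} (hφ : ∀ t, φ t = t ^ e)

include hφ hφ2

/-- The subgroup `²F₄` consists of fixed points. -/
theorem f4_le_Fx {u : GL chevF4.Idx K}
    (hu : ∀ r < chevF4.nroots, ∀ t : K, u * TF4.good.xG r t * u⁻¹ = TF4.good.xG (chevF4.neg r) (-t) ∧ u⁻¹ * TF4.good.xG r t * u = TF4.good.xG (chevF4.neg r) (-t)) :
    twistedF4 K e ≤ ((tF4 hperf φ).base TF4.extra TF4.braid).Fx := by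
  have hf : ∀ r < chevF4.nroots, ∀ t : K, (tF4 hperf φ).f (chevF4.neg r) (-t) = - (tF4 hperf φ).f r t := by
    intro r hr t
    show (φ (-t)) ^ gfF4.lam (chevF4.neg r) = - (φ t) ^ gfF4.lam r
    have : ∀ r < chevF4.nroots, gfF4.lam (chevF4.neg r) = gfF4.lam r := by decide +kernel
    rw [this r hr, map_neg, neg_pow_char2]
  have hu1 : ∀ r < chevF4.nroots, ∀ t : K, u⁻¹ * TF4.good.xG r t * u⁻¹⁻¹ = TF4.good.xG (chevF4.neg r) (-t) := by
    intro r hr t
    rw [inv_inv]
    exact (hu r hr t).2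
  have hmem : ∀ w : List (ℕ × K), (∀ p ∈ w, p.1 < chevF4.nroots) → TF4.good.wordG w ∈ chevF4.group K := by
    intro w hw
    exact TF4.good.mem_group_of_word hw (TF4.good.wordG_val w)
  -- negative words from positive ones
  have hneg : ∀ w : List (ℕ × K), (∀ p ∈ w, p.1 < chevF4.nroots) → (tF4 hperf φ).s (TF4.good.wordG w) = TF4.good.wordG w →
      (tF4 hperf φ).s (TF4.good.wordG (w.map fun p => (chevF4.neg p.1, -p.2))) = TF4.good.wordG (w.map fun p => (chevF4.neg p.1, -p.2)) := by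
    intro w hw h
    rw [← TF4.good.conj_wordG (fun r hr t => (hu r hr t).2) w hw]
    have := ((tF4 hperf φ).s_conj hu1 hf (hmem w hw)).2
    rw [inv_inv] at this
    rw [this, h]
  apply TF4.good.gen_le
  rintro w (⟨t, rfl | rfl⟩ | ⟨t, v, rfl | rfl⟩)
  · exact ⟨hmem _ (f4Pair_lt (by decide +kernel) (by decide +kernel) t), f4_pair_fix hperf φ hφ2 hφ t⟩
  · refine ⟨hmem _ (f4Pair_lt (by decide +kernel) (by decide +kernel) t), ?_⟩
    show (tF4 hperf φ).s _ = _
    rw [← f4Pair_neg]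
    exact hneg _ (f4Pair_lt (by decide +kernel) (by decide +kernel) t) (f4_pair_fix hperf φ hφ2 hφ t)
  · exact ⟨hmem _ (f4Class_lt (by decide +kernel) (by decide +kernel) (by decide +kernel) (by decide +kernel) t v), f4_class_fix hperf φ hφ2 hφ t v⟩
  · refine ⟨hmem _ (f4Class_lt (by decide +kernel) (by decide +kernel) (by decide +kernel) (by decide +kernel) t v), ?_⟩
    show (tF4 hperf φ).s _ = _
    rw [← f4Class_neg]
    exact hneg _ (f4Class_lt (by decide +kernel) (by decide +kernel) (by decide +kernel) (by decide +kernel) t v) (f4_class_fix hperf φ hφ2 hφ t v)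

/-- The data for `²F₄`. -/
theorem f4_td : ∃ Dt : TwData (tF4 hperf φ) (twistedF4 K e), ∃ e : Dt.ι ≃ Fin 2, ∀ j, Dt.J j = {i | i ∈ f4J (e j)} := by
  obtain ⟨u, hu⟩ := TF4.good.exists_neg_unit (K := K) (by decide +kernel)
  have hle := f4_le_Fx hperf φ hφ2 hφ hu
  refine TwData.exists_of_pos TF4.extra hu ?_ (fun g hg => (hle hg).1) (fun g hg => (hle hg).2) ?_ (fun j => {i | i ∈ f4J j}) ?_ ?_ ?_ ?_ ?_ ?_
  · intro r hr t
    show (φ (-t)) ^ gfF4.lam (chevF4.neg r) = - (φ t) ^ gfF4.lam r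
    have : ∀ r < chevF4.nroots, gfF4.lam (chevF4.neg r) = gfF4.lam r := by decide +kernel
    rw [this r hr, map_neg, neg_pow_char2]
  · have hle2 : twistedF4 K e ≤ (twistedF4 K e).comap (MulAut.conj u⁻¹).toMonoidHom := by
      apply TF4.good.gen_le
      intro w hw
      show u⁻¹ * TF4.good.wordG w * u⁻¹⁻¹ ∈ twistedF4 K e
      rw [inv_inv]
      have h2 : ∀ w : List (ℕ × K), (∀ p ∈ w, p.1 < chevF4.nroots) → w.map (fun p => (chevF4.neg p.1, -p.2)) ∈ f4Words K e →
          u⁻¹ * TF4.good.wordG w * u ∈ twistedF4 K e := by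
        intro w h3 h4
        rw [TF4.good.conj_wordG (fun r hr t => (hu r hr t).2) w h3]
        exact TF4.good.wordG_mem_gen h4
      rcases hw with ⟨t, rfl | rfl⟩ | ⟨t, v, rfl | rfl⟩
      · exact h2 _ (f4Pair_lt (by decide +kernel) (by decide +kernel) t) (by
          rw [f4Pair_neg]
          exact Or.inl ⟨t, Or.inr rfl⟩)
      · refine h2 _ (f4Pair_lt (by decide +kernel) (by decide +kernel) t) ?_
        have : (f4PairWord e f4m1 f4m4 t).map (fun p => (chevF4.neg p.1, -p.2)) = f4PairWord e f4p1 f4p4 t := by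
          rw [← f4Pair_neg, List.map_map]
          have e1 : ∀ r < chevF4.nroots, chevF4.neg (chevF4.neg r) = r := fun r hr => TF4.good.shp.neg_neg r hr
          simp only [f4PairWord, List.map_cons, List.map_nil, Function.comp, neg_neg]
          rw [e1 _ (by decide +kernel), e1 _ (by decide +kernel)]
        rw [this]
        exact Or.inl ⟨t, Or.inl rfl⟩
      · exact h2 _ (f4Class_lt (by decide +kernel) (by decide +kernel) (by decide +kernel) (by decide +kernel) t v) (by
          rw [f4Class_neg]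
          exact Or.inr ⟨t, v, Or.inr rfl⟩)
      · refine h2 _ (f4Class_lt (by decide +kernel) (by decide +kernel) (by decide +kernel) (by decide +kernel) t v) ?_
        have : (b2ClassWord e f4ma f4mb f4mab f4maab t v).map (fun p => (chevF4.neg p.1, -p.2)) = b2ClassWord e f4a f4b f4ab f4aab t v := by
          rw [← f4Class_neg, List.map_map]
          have e1 : ∀ r < chevF4.nroots, chevF4.neg (chevF4.neg r) = r := fun r hr => TF4.good.shp.neg_neg r hr
          simp only [b2ClassWord, List.map_cons, List.map_nil, Function.comp, neg_neg]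
          rw [e1 _ (by decide +kernel), e1 _ (by decide +kernel), e1 _ (by decide +kernel), e1 _ (by decide +kernel)]
        rw [this]
        exact Or.inr ⟨t, v, Or.inl rfl⟩
    intro g hg
    have := hle2 hg
    simpa using this
  · intro j i hi
    have : ∀ j : Fin 2, ∀ i, i ∈ f4J j → i < chevF4.rank := by decide +kernel
    exact this j i hi
  · intro j j' h
    have h1 : ∀ i, i ∈ f4J j ↔ i ∈ f4J j' := fun i => Set.ext_iff.1 h i
    have : ∀ j j' : Fin 2, (∀ i < 4, i ∈ f4J j → i ∈ f4J j') → (∀ i < 4, i ∈ f4J j' → i ∈ f4J j) → j = j' := by decide +kernel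
    exact this j j' (fun i _ h2 => (h1 i).1 h2) (fun i _ h2 => (h1 i).2 h2)
  · intro i hi
    have : ∀ i < chevF4.rank, ∃ j : Fin 2, i ∈ f4J j := by decide +kernel
    exact this i hi
  · intro j i hi i' hi'
    have hlt : ∀ j : Fin 2, ∀ i, i ∈ f4J j → i < 4 := by decide +kernel
    have : ∀ j : Fin 2, ∀ i < 4, i ∈ f4J j → ∀ i' < 4, i' ∈ f4J j → ∃ k < 2, gfF4.ρ^[k] (chevF4.simple i) = chevF4.simple i' := by decide +kernel
    obtain ⟨k, _, h⟩ := this j i (hlt j i hi) hi i' (hlt j i' hi') hi'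
    exact ⟨k, h⟩
  · intro j x hx hs
    fin_cases j
    · -- the pair
      have h14 : ∀ s t : K, X f4p1 s * X f4p4 t = X f4p4 t * X f4p1 s := f4_comm_14
      obtain ⟨t, rfl⟩ := (tF4 hperf φ).fix_two TF4.extra (Jl := [0, 3]) (a := f4p4) (b := f4p1) (by decide +kernel) (by decide +kernel) (by decide +kernel) (by decide +kernel) (by decide +kernel)
        (by decide +kernel) h14 (g := φ) (g' := fun t => (φ t) ^ 2) (fun t => by
          rw [tF4_s hperf φ (by decide +kernel)]
          have e2 : gfF4.ρ f4p4 = f4p1 := by decide +kernel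
          have l2 : gfF4.lam f4p4 = 1 := by decide +kernel
          rw [e2, l2, pow_one]) (fun t => by
          rw [tF4_s hperf φ (by decide +kernel)]
          have e2 : gfF4.ρ f4p1 = f4p4 := by decide +kernel
          have l2 : gfF4.lam f4p1 = 2 := by decide +kernel
          rw [e2, l2]) hx hs
      have h5 : TF4.good.wordG (f4PairWord e f4p1 f4p4 t) ∈ twistedF4 K e := TF4.good.wordG_mem_gen (Or.inl ⟨t, Or.inl rfl⟩)
      have e : TF4.good.wordG (f4PairWord e f4p1 f4p4 t) = X f4p4 t * X f4p1 (φ t) := by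
        simp only [f4PairWord, Good.wordG, List.map_cons, List.map_nil, List.prod_cons, List.prod_nil, mul_one]
        rw [← hφ, h14]
      rwa [e] at h5
    · -- the class
      have hnd : [f4b, f4a, f4ab, f4aab].Nodup := by decide +kernel
      obtain ⟨τ, rfl⟩ := TF4.extra.Xp_prodL TF4.good (Jl := [1, 2]) (L := [f4b, f4a, f4ab, f4aab]) hnd (by decide +kernel) (by decide +kernel) hx
      rw [f4N_eq_prodL] at hs ⊢
      rw [f4_s_N] at hs
      obtain ⟨h1, h2, h3, h4⟩ := f4N_inj hs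
      have h5 : TF4.good.wordG (b2ClassWord e f4a f4b f4ab f4aab (τ f4b) (τ f4ab)) ∈ twistedF4 K e := TF4.good.wordG_mem_gen (Or.inr ⟨_, _, Or.inl rfl⟩)
      rw [f4_word_eq φ hφ] at h5
      have h6 : τ f4aab = τ f4b * (φ (τ f4b)) ^ 2 + (φ (τ f4ab)) ^ 2 := by
        rw [← h4, ← h2, hφ2]
      rw [h6, ← h2]
      exact h5
  · intro j
    have hneX : ∀ (Jl : List ℕ) (y : GL chevF4.Idx K), y ∈ twistedF4 K e → y ∈ TF4.good.Xp K (fun r => lamJ TF4.cert chevF4.rank {i | i ∈ Jl} r = 0) → y ≠ 1 →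
        ∃ y ∈ TF4.good.Xp K (fun r => lamJ TF4.cert chevF4.rank {i | i ∈ Jl} r = 0), (tF4 hperf φ).s y = y ∧ y ≠ 1 :=
      fun Jl y h1 h2 h3 => ⟨y, h2, (hle h1).2, h3⟩
    fin_cases j
    · have h5 : TF4.good.wordG (f4PairWord e f4p1 f4p4 (1 : K)) ∈ twistedF4 K e := TF4.good.wordG_mem_gen (Or.inl ⟨1, Or.inl rfl⟩)
      have e1 : TF4.good.wordG (f4PairWord e f4p1 f4p4 (1 : K)) = X f4p1 1 * X f4p4 1 := by
        simp [f4PairWord, Good.wordG]
      rw [e1] at h5
      refine hneX [0, 3] _ h5 (mul_mem (TF4.extra.x_mem_Xp TF4.good (by decide +kernel) (by decide +kernel) (by decide +kernel) 1) (TF4.extra.x_mem_Xp TF4.good (by decide +kernel) (by decide +kernel) (by decide +kernel) 1)) ?_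
      intro h
      have h1 : X f4p1 (1 : K) = X f4p4 (-1) := by
        rw [← TF4.good.xG_neg]
        exact eq_inv_of_mul_eq_one_left h
      have := TF4.extra.xG_root_eq TF4.good (by decide +kernel) one_ne_zero (by decide +kernel) h1
      exact absurd this (by decide +kernel)
    · have h5 : TF4.good.wordG (b2ClassWord e f4a f4b f4ab f4aab (1 : K) 0) ∈ twistedF4 K e := TF4.good.wordG_mem_gen (Or.inr ⟨1, 0, Or.inl rfl⟩)
      rw [f4_word_eq φ hφ] at h5
      refine hneX [1, 2] _ h5 ?_ ?_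
      · have hL : ∀ r ∈ [f4b, f4a, f4ab, f4aab], ∀ k < chevF4.rank, k ∉ [1, 2] → TF4.cert.coef r k = 0 := by decide +kernel
        exact mul_mem (mul_mem (TF4.extra.x_mem_Xp TF4.good (by decide +kernel) (by decide +kernel) (hL _ (by simp)) _) (TF4.extra.x_mem_Xp TF4.good (by decide +kernel) (by decide +kernel) (hL _ (by simp)) _))
          (mul_mem (TF4.extra.x_mem_Xp TF4.good (by decide +kernel) (by decide +kernel) (hL _ (by simp)) _) (TF4.extra.x_mem_Xp TF4.good (by decide +kernel) (by decide +kernel) (hL _ (by simp)) _))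
      · intro h
        have e1 : f4N (0 : K) 0 0 0 = 1 := by
          unfold f4N
          simp [TF4.good.xG_zero]
        rw [← e1] at h
        exact one_ne_zero (f4N_inj h).1

end inst

end F4

end CfsgLib.Chev
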