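/-
²G₂ as a twisted group.
-/
import Cfsg.Agent.Lib.Tw.F4

set_option autoImplicit false
set_option synthInstance.maxHeartbeats 400000
set_option synthInstance.maxSize 1024

namespace CfsgLib.Chev

open Cfsg.Lie Cfsg.Lie.ChevalleyDatum CfsgLib.BN

section G2

variable {K : Type*} [Field K] [CharP K 3] (hperf : ∀ x : K, ∃ y : K, y ^ 3 = x)

/-- The graph map of `G₂`. -/
noncomputable def gG2 : ↥(chevG2.group K) ≃* ↥(chevG2.group K) :=
  haveI : Fact (Nat.Prime 3) := ⟨Nat.prime_three⟩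
  (GF.exists_aut' (p := 3) TG2.good gfG2_chk hperf TG2.extra TG2.braid TG2.long (TG2.rank1 _)).choose

lemma gG2_spec : ∀ (g : ↥(chevG2.group K)) (r : ℕ) (t : K), r < chevG2.nroots → ((g : GL chevG2.Idx K) : Matrix chevG2.Idx chevG2.Idx K) = chevG2.x K r t →
      ((gG2 hperf g : GL chevG2.Idx K) : Matrix chevG2.Idx chevG2.Idx K) = chevG2.x K (gfG2.ρ r) (t ^ gfG2.lam r) :=
  haveI : Fact (Nat.Prime 3) := ⟨Nat.prime_three⟩
  (GF.exists_aut' (p := 3) TG2.good gfG2_chk hperf TG2.extra TG2.braid TG2.long (TG2.rank1 _)).choose_spec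

omit [CharP K 3] in
lemma g2_neg_pow {r : ℕ} (hr : r < chevG2.nroots) (x : K) : (-x) ^ gfG2.lam r = - x ^ gfG2.lam r := by
  have h : ∀ r < chevG2.nroots, Odd (gfG2.lam r) := by decide +kernel
  exact (h r hr).neg_pow x

/-- The twisting automorphism. -/
noncomputable def tG2 (φ : K ≃+* K) : TwAct TG2.good K :=
  TwAct.ofGF TG2.good (gG2 hperf) gfG2.ρ gfG2.lam φ (gG2_spec hperf) (by decide +kernel) (by decide +kernel) (by decide +kernel) (by decide +kernel)
    (fun _ hr x => g2_neg_pow hr x)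

lemma tG2_s (φ : K ≃+* K) {r : ℕ} (hr : r < chevG2.nroots) (t : K) :
    (tG2 hperf φ).s (TG2.good.xG r t) = TG2.good.xG (gfG2.ρ r) ((φ t) ^ gfG2.lam r) :=
  (tG2 hperf φ).s_x hr t

local notation "X" => TG2.good.xG (F := K)

omit [CharP K 3] in
lemma g2_comm_c {r s : ℕ} (hr : r < chevG2.nroots) (hs : s < chevG2.nroots) (h1 : s ≠ r) (h2 : s ≠ chevG2.neg r) (h : chevG2.commTerms r s = []) (a b : K) :
    X s a * X r b = X r b * X s a := TG2.good.x_comm hr hs h1 h2 h b a

lemma g2_comm_89 (a b : K) : X g2aab a * X g2ab b = X g2ab b * X g2aab a := by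
  have h := TG2.good.comm_G (F := K) (r := g2ab) (s := g2aab) (by decide +kernel) (by decide +kernel) (by decide +kernel) (by decide +kernel) b a
  have e : chevG2.commTerms g2ab g2aab = [(g2aaabb, 3, 1, 1)] := by decide +kernel
  unfold ChevalleyDatum.commWord at h
  rw [e] at h
  simp only [List.map_cons, List.map_nil, Good.wordG, List.prod_cons, List.prod_nil, mul_one] at h
  have h3 : (((3 : ℤ) : K)) = 0 := by
    have : ((3 : ℕ) : K) = 0 := CharP.cast_eq_zero K 3
    exact_mod_cast this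
  rw [h3, zero_mul, zero_mul, TG2.good.xG_zero, mul_one] at h
  exact h

lemma g2_comm_ba (u t : K) : X g2a u * X g2b t = X g2b t * X g2a u * (X g2ab (-t * u) * (X g2aab (-t * u ^ 2) * (X g2aaab (t * u ^ 3) * X g2aaabb (t ^ 2 * u ^ 3)))) := by
  have h := TG2.good.comm_G (F := K) (r := g2b) (s := g2a) (by decide +kernel) (by decide +kernel) (by decide +kernel) (by decide +kernel) t u
  have e : chevG2.commTerms g2b g2a = [(g2ab, 1, 1, 1), (g2aab, 1, 1, 2), (g2aaab, -1, 1, 3), (g2aaabb, -2, 2, 3)] := by decide +kernel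
  unfold ChevalleyDatum.commWord at h
  rw [e] at h
  simp only [List.map_cons, List.map_nil, Good.wordG, List.prod_cons, List.prod_nil, mul_one] at h
  have h3 : (3 : K) = 0 := by
    have : ((3 : ℕ) : K) = 0 := CharP.cast_eq_zero K 3
    exact_mod_cast this
  have h2 : ((-2 : ℤ) : K) = 1 := by
    push_cast
    linear_combination - h3
  have a1 : (((1 : ℤ) : K)) * (-t) ^ 1 * u ^ 1 = -t * u := by
    push_cast
    ring
  have a2 : (((1 : ℤ) : K)) * (-t) ^ 1 * u ^ 2 = -t * u ^ 2 := by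
    push_cast
    ring
  have a3 : (((-1 : ℤ) : K)) * (-t) ^ 1 * u ^ 3 = t * u ^ 3 := by
    push_cast
    ring
  have a4 : (((-2 : ℤ) : K)) * (-t) ^ 2 * u ^ 3 = t ^ 2 * u ^ 3 := by
    rw [h2]
    ring
  rw [h, a1, a2, a3, a4]

/-- The abelian part. -/
noncomputable def g2A (C E F G : K) : GL chevG2.Idx K := X g2ab C * (X g2aab E * (X g2aaab F * X g2aaabb G))

/-- The normal form. -/
noncomputable def g2N (B A C E F G : K) : GL chevG2.Idx K := X g2b B * X g2a A * g2A C E F G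

lemma g2_comm_ba' (u t : K) : X g2a u * X g2b t = X g2b t * X g2a u * g2A (-t * u) (-t * u ^ 2) (t * u ^ 3) (t ^ 2 * u ^ 3) :=
  g2_comm_ba u t

lemma g2N_eq_prodL (τ : ℕ → K) : TG2.good.prodL [g2b, g2a, g2ab, g2aab, g2aaab, g2aaabb] τ = g2N (τ g2b) (τ g2a) (τ g2ab) (τ g2aab) (τ g2aaab) (τ g2aaabb) := by
  unfold g2N g2A
  simp only [TG2.good.prodL_cons, TG2.good.prodL_nil, mul_one]
  group

lemma g2N_inj {B A C E F G B' A' C' E' F' G' : K} (h : g2N B A C E F G = g2N B' A' C' E' F' G') :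
    B = B' ∧ A = A' ∧ C = C' ∧ E = E' ∧ F = F' ∧ G = G' := by
  classical
  have e1 : g2a ≠ g2b := by decide
  have e2 : g2ab ≠ g2b := by decide
  have e3 : g2ab ≠ g2a := by decide
  have e4 : g2aab ≠ g2b := by decide
  have e5 : g2aab ≠ g2a := by decide
  have e6 : g2aab ≠ g2ab := by decide
  have e7 : g2aaab ≠ g2b := by decide
  have e8 : g2aaab ≠ g2a := by decide
  have e9 : g2aaab ≠ g2ab := by decide
  have e10 : g2aaab ≠ g2aab := by decide
  have e11 : g2aaabb ≠ g2b := by decide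
  have e12 : g2aaabb ≠ g2a := by decide
  have e13 : g2aaabb ≠ g2ab := by decide
  have e14 : g2aaabb ≠ g2aab := by decide
  have e15 : g2aaabb ≠ g2aaab := by decide
  have key : ∀ B A C E F G : K, g2N B A C E F G = TG2.good.prodL [g2b, g2a, g2ab, g2aab, g2aaab, g2aaabb]
      (fun r => if r = g2b then B else if r = g2a then A else if r = g2ab then C else if r = g2aab then E else if r = g2aaab then F else G) := by
    intro B A C E F G
    rw [g2N_eq_prodL]
    simp only [if_true, if_neg e1, if_neg e2, if_neg e3, if_neg e4, if_neg e5, if_neg e6, if_neg e7, if_neg e8, if_neg e9, if_neg e10, if_neg e11, if_neg e12, if_neg e13, if_neg e14, if_neg e15]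
  rw [key, key] at h
  have h1 := TG2.extra.prodL_injective TG2.good (L := [g2b, g2a, g2ab, g2aab, g2aaab, g2aaabb]) (by decide +kernel) (by decide +kernel) _ _ h
  have h2 := h1 g2b (by simp)
  have h3 := h1 g2a (by simp)
  have h4 := h1 g2ab (by simp)
  have h5 := h1 g2aab (by simp)
  have h6 := h1 g2aaab (by simp)
  have h7 := h1 g2aaabb (by simp)
  simp only [if_true, if_neg e1, if_neg e2, if_neg e3, if_neg e4, if_neg e5, if_neg e6, if_neg e7, if_neg e8, if_neg e9, if_neg e10, if_neg e11, if_neg e12, if_neg e13, if_neg e14, if_neg e15] at h2 h3 h4 h5 h6 h7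
  exact ⟨h2, h3, h4, h5, h6, h7⟩

lemma g2A_mul (C E F G C' E' F' G' : K) : g2A C E F G * g2A C' E' F' G' = g2A (C + C') (E + E') (F + F') (G + G') := by
  unfold g2A
  have c1 : ∀ a b : K, X g2aab a * X g2ab b = X g2ab b * X g2aab a := g2_comm_89
  have c2 : ∀ a b : K, X g2aaab a * X g2ab b = X g2ab b * X g2aaab a := g2_comm_c (by decide +kernel) (by decide +kernel) (by decide +kernel) (by decide +kernel) (by decide +kernel)
  have c3 : ∀ a b : K, X g2aaabb a * X g2ab b = X g2ab b * X g2aaabb a := g2_comm_c (by decide +kernel) (by decide +kernel) (by decide +kernel) (by decide +kernel) (by decide +kernel)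
  have c4 : ∀ a b : K, X g2aaab a * X g2aab b = X g2aab b * X g2aaab a := g2_comm_c (by decide +kernel) (by decide +kernel) (by decide +kernel) (by decide +kernel) (by decide +kernel)
  have c5 : ∀ a b : K, X g2aaabb a * X g2aab b = X g2aab b * X g2aaabb a := g2_comm_c (by decide +kernel) (by decide +kernel) (by decide +kernel) (by decide +kernel) (by decide +kernel)
  have c6 : ∀ a b : K, X g2aaabb a * X g2aaab b = X g2aaab b * X g2aaabb a := g2_comm_c (by decide +kernel) (by decide +kernel) (by decide +kernel) (by decide +kernel) (by decide +kernel)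
  simp only [← TG2.good.xG_add]
  simp only [mul_assoc]
  -- move the factors one by one
  have m1 : ∀ (a b : K) (w : GL chevG2.Idx K), X g2aab a * (X g2ab b * w) = X g2ab b * (X g2aab a * w) := fun a b w => by
    rw [← mul_assoc, c1, mul_assoc]
  have m2 : ∀ (a b : K) (w : GL chevG2.Idx K), X g2aaab a * (X g2ab b * w) = X g2ab b * (X g2aaab a * w) := fun a b w => by
    rw [← mul_assoc, c2, mul_assoc]
  have m3 : ∀ (a b : K) (w : GL chevG2.Idx K), X g2aaabb a * (X g2ab b * w) = X g2ab b * (X g2aaabb a * w) := fun a b w => by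
    rw [← mul_assoc, c3, mul_assoc]
  have m4 : ∀ (a b : K) (w : GL chevG2.Idx K), X g2aaab a * (X g2aab b * w) = X g2aab b * (X g2aaab a * w) := fun a b w => by
    rw [← mul_assoc, c4, mul_assoc]
  have m5 : ∀ (a b : K) (w : GL chevG2.Idx K), X g2aaabb a * (X g2aab b * w) = X g2aab b * (X g2aaabb a * w) := fun a b w => by
    rw [← mul_assoc, c5, mul_assoc]
  have m6 : ∀ (a b : K) (w : GL chevG2.Idx K), X g2aaabb a * (X g2aaab b * w) = X g2aaab b * (X g2aaabb a * w) := fun a b w => by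
    rw [← mul_assoc, c6, mul_assoc]
  rw [m3, m2, m1, m5, m4, m6]

variable (φ : K ≃+* K) (hφ2 : ∀ t, (φ (φ t)) ^ 3 = t)

lemma g2_s_A (C E F G : K) : (tG2 hperf φ).s (g2A C E F G) = g2A (φ F) (φ G) ((φ C) ^ 3) ((φ E) ^ 3) := by
  have hG : ∀ {r : ℕ}, r < chevG2.nroots → ∀ t : K, X r t ∈ chevG2.group K := fun hr t => TG2.good.mem_group hr t
  have h3 : g2ab < chevG2.nroots := by decide +kernel
  have h4 : g2aab < chevG2.nroots := by decide +kernel
  have h5 : g2aaab < chevG2.nroots := by decide +kernel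
  have h6 : g2aaabb < chevG2.nroots := by decide +kernel
  have e3 : gfG2.ρ g2ab = g2aaab := by decide +kernel
  have e4 : gfG2.ρ g2aab = g2aaabb := by decide +kernel
  have e5 : gfG2.ρ g2aaab = g2ab := by decide +kernel
  have e6 : gfG2.ρ g2aaabb = g2aab := by decide +kernel
  have l3 : gfG2.lam g2ab = 3 := by decide +kernel
  have l4 : gfG2.lam g2aab = 3 := by decide +kernel
  have l5 : gfG2.lam g2aaab = 1 := by decide +kernel
  have l6 : gfG2.lam g2aaabb = 1 := by decide +kernel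
  unfold g2A
  rw [(tG2 hperf φ).s_mul (hG h3 _) (mul_mem (hG h4 _) (mul_mem (hG h5 _) (hG h6 _))), (tG2 hperf φ).s_mul (hG h4 _) (mul_mem (hG h5 _) (hG h6 _)),
    (tG2 hperf φ).s_mul (hG h5 _) (hG h6 _), tG2_s hperf φ h3, tG2_s hperf φ h4, tG2_s hperf φ h5, tG2_s hperf φ h6, e3, e4, e5, e6, l3, l4, l5, l6, pow_one, pow_one]
  have h := g2A_mul (K := K) 0 0 ((φ C) ^ 3) ((φ E) ^ 3) (φ F) (φ G) 0 0
  unfold g2A at h
  simp only [TG2.good.xG_zero, one_mul, mul_one, add_zero, zero_add] at h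
  rw [mul_assoc] at h
  exact h

lemma g2_s_N (B A C E F G : K) : (tG2 hperf φ).s (g2N B A C E F G) =
    g2N ((φ A) ^ 3) (φ B) (φ F + -(φ A) ^ 3 * φ B) (φ G + -(φ A) ^ 3 * (φ B) ^ 2) ((φ C) ^ 3 + (φ A) ^ 3 * (φ B) ^ 3) ((φ E) ^ 3 + ((φ A) ^ 3) ^ 2 * (φ B) ^ 3) := by
  have hG : ∀ {r : ℕ}, r < chevG2.nroots → ∀ t : K, X r t ∈ chevG2.group K := fun hr t => TG2.good.mem_group hr t
  have h1 : g2b < chevG2.nroots := by decide +kernel
  have h2 : g2a < chevG2.nroots := by decide +kernel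
  have hA : ∀ C E F G : K, g2A C E F G ∈ chevG2.group K := fun C E F G =>
    mul_mem (hG (by decide +kernel) _) (mul_mem (hG (by decide +kernel) _) (mul_mem (hG (by decide +kernel) _) (hG (by decide +kernel) _)))
  have e1 : gfG2.ρ g2b = g2a := by decide +kernel
  have e2 : gfG2.ρ g2a = g2b := by decide +kernel
  have l1 : gfG2.lam g2b = 1 := by decide +kernel
  have l2 : gfG2.lam g2a = 3 := by decide +kernel
  unfold g2N
  rw [(tG2 hperf φ).s_mul (mul_mem (hG h1 _) (hG h2 _)) (hA _ _ _ _), (tG2 hperf φ).s_mul (hG h1 _) (hG h2 _), tG2_s hperf φ h1, tG2_s hperf φ h2, e1, e2, l1, l2, pow_one,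
    g2_s_A, g2_comm_ba', mul_assoc (X g2b _ * X g2a _), g2A_mul]
  congr 1
  congr 1 <;> ring

lemma g2_word_eq {e : ℕ} (hφ : ∀ t, φ t = t ^ e) (t u v : K) :
    TG2.good.wordG (reeWordU e t u v) = g2N t (φ t) (φ u) (φ v) (t * (φ t) ^ 3 + u) (t ^ 2 * (φ t) ^ 3 + v) := by
  have e1 : t ^ e = φ t := (hφ t).symm
  have e2 : t ^ (e + 1) = φ t * t := by rw [pow_succ, ← hφ]
  have e3 : t ^ (2 * e + 1) = (φ t) ^ 2 * t := by rw [pow_succ, hφ, ← pow_mul, mul_comm e 2]
  have e4 : u ^ e = φ u := (hφ u).symm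
  have e5 : v ^ e = φ v := (hφ v).symm
  unfold reeWordU g2N
  simp only [Good.wordG, List.map_cons, List.map_nil, List.prod_cons, List.prod_nil, mul_one]
  rw [e1, e2, e3, e4, e5, ← mul_assoc (X g2a _) (X g2b t), g2_comm_ba', mul_assoc (X g2b t * X g2a _)]
  have h : X g2ab (φ t * t + φ u) * (X g2aab ((φ t) ^ 2 * t + φ v) * (X g2aaab u * X g2aaabb v)) = g2A (φ t * t + φ u) ((φ t) ^ 2 * t + φ v) u v := rfl
  rw [h, g2A_mul]
  congr 1
  congr 1 <;> ring

include hφ2 in
/-- The positive words are fixed. -/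
lemma g2_word_fix {e : ℕ} (hφ : ∀ t, φ t = t ^ e) (t u v : K) :
    (tG2 hperf φ).s (TG2.good.wordG (reeWordU e t u v)) = TG2.good.wordG (reeWordU e t u v) := by
  rw [g2_word_eq φ hφ, g2_s_N]
  simp only [map_add, map_mul, map_pow, hφ2]
  unfold g2N
  congr 1
  congr 1 <;> ring

omit [CharP K 3] in
lemma g2Word_lt {e : ℕ} (t u v : K) : ∀ p ∈ reeWordU e t u v, p.1 < chevG2.nroots := by
  intro p hp
  simp only [reeWordU, List.mem_cons, List.not_mem_nil, or_false] at hp
  rcases hp with rfl | rfl | rfl | rfl | rfl | rfl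
  all_goals
    dsimp only
    decide +kernel

section inst

variable {e : ℕ} (hφ : ∀ t, φ t = t ^ e)

include hφ hφ2

/-- The subgroup `²G₂` consists of fixed points. -/
theorem g2_le_Fx {u : GL chevG2.Idx K}
    (hu : ∀ r < chevG2.nroots, ∀ t : K, u * TG2.good.xG r t * u⁻¹ = TG2.good.xG (chevG2.neg r) (-t) ∧ u⁻¹ * TG2.good.xG r t * u = TG2.good.xG (chevG2.neg r) (-t)) :
    twistedG2 K e ≤ ((tG2 hperf φ).base TG2.extra TG2.braid).Fx := by
  have hf : ∀ r < chevG2.nroots, ∀ t : K, (tG2 hperf φ).f (chevG2.neg r) (-t) = - (tG2 hperf φ).f r t := by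
    intro r hr t
    show (φ (-t)) ^ gfG2.lam (chevG2.neg r) = - (φ t) ^ gfG2.lam r
    have : ∀ r < chevG2.nroots, gfG2.lam (chevG2.neg r) = gfG2.lam r := by decide +kernel
    rw [this r hr, map_neg, g2_neg_pow hr]
  have hu1 : ∀ r < chevG2.nroots, ∀ t : K, u⁻¹ * TG2.good.xG r t * u⁻¹⁻¹ = TG2.good.xG (chevG2.neg r) (-t) := by
    intro r hr t
    rw [inv_inv]
    exact (hu r hr t).2
  have hmem : ∀ w : List (ℕ × K), (∀ p ∈ w, p.1 < chevG2.nroots) → TG2.good.wordG w ∈ chevG2.group K := by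
    intro w hw
    exact TG2.good.mem_group_of_word hw (TG2.good.wordG_val w)
  have hneg : ∀ w : List (ℕ × K), (∀ p ∈ w, p.1 < chevG2.nroots) → (tG2 hperf φ).s (TG2.good.wordG w) = TG2.good.wordG w →
      TG2.good.wordG (chevG2.negWord w) ∈ chevG2.group K ∧ (tG2 hperf φ).s (TG2.good.wordG (chevG2.negWord w)) = TG2.good.wordG (chevG2.negWord w) := by
    intro w hw h
    have e1 : chevG2.negWord w = w.map fun p => (chevG2.neg p.1, -p.2) := rfl
    rw [e1, ← TG2.good.conj_wordG (fun r hr t => (hu r hr t).2) w hw]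
    have := ((tG2 hperf φ).s_conj hu1 hf (hmem w hw))
    rw [inv_inv] at this
    rw [this.2, h]
    exact ⟨this.1, rfl⟩
  apply TG2.good.gen_le
  rintro w ⟨t, v, z, rfl | rfl⟩
  · exact ⟨hmem _ (g2Word_lt t v z), g2_word_fix hperf φ hφ2 hφ t v z⟩
  · exact hneg _ (g2Word_lt t v z) (g2_word_fix hperf φ hφ2 hφ t v z)

/-- The data for `²G₂`. -/
theorem g2_td : ∃ Dt : TwData (tG2 hperf φ) (twistedG2 K e), ∃ e : Dt.ι ≃ Fin 1, ∀ j, Dt.J j = {i | i ∈ [0, 1]} := by
  obtain ⟨u, hu⟩ := TG2.good.exists_neg_unit (K := K) (by decide +kernel)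
  have hle := g2_le_Fx hperf φ hφ2 hφ hu
  refine TwData.exists_of_pos TG2.extra hu ?_ (fun g hg => (hle hg).1) (fun g hg => (hle hg).2) ?_ (fun _ : Fin 1 => {i | i ∈ [0, 1]}) ?_ ?_ ?_ ?_ ?_ ?_
  · intro r hr t
    show (φ (-t)) ^ gfG2.lam (chevG2.neg r) = - (φ t) ^ gfG2.lam r
    have : ∀ r < chevG2.nroots, gfG2.lam (chevG2.neg r) = gfG2.lam r := by decide +kernel
    rw [this r hr, map_neg, g2_neg_pow hr]
  · have hle2 : twistedG2 K e ≤ (twistedG2 K e).comap (MulAut.conj u⁻¹).toMonoidHom := by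
      apply TG2.good.gen_le
      intro w hw
      show u⁻¹ * TG2.good.wordG w * u⁻¹⁻¹ ∈ twistedG2 K e
      rw [inv_inv]
      have h2 : ∀ w : List (ℕ × K), (∀ p ∈ w, p.1 < chevG2.nroots) → w.map (fun p => (chevG2.neg p.1, -p.2)) ∈ g2Words K e →
          u⁻¹ * TG2.good.wordG w * u ∈ twistedG2 K e := by
        intro w h3 h4
        rw [TG2.good.conj_wordG (fun r hr t => (hu r hr t).2) w h3]
        exact TG2.good.wordG_mem_gen h4
      obtain ⟨t, v, z, rfl | rfl⟩ := hw
      · exact h2 _ (g2Word_lt t v z) ⟨t, v, z, Or.inr rfl⟩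
      · refine h2 _ ?_ ?_
        · intro p hp
          obtain ⟨p', hp', rfl⟩ := List.mem_map.1 hp
          exact TG2.good.shp.neg_lt _ (g2Word_lt t v z p' hp')
        · refine ⟨t, v, z, Or.inl ?_⟩
          unfold reeWordV ChevalleyDatum.negWord
          rw [List.map_map]
          have e1 : ∀ p ∈ reeWordU e t v z, chevG2.neg (chevG2.neg p.1) = p.1 := fun p hp => TG2.good.shp.neg_neg _ (g2Word_lt t v z p hp)
          conv_rhs => rw [← List.map_id (reeWordU e t v z)]
          apply List.map_congr_left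
          intro p hp
          show (chevG2.neg (chevG2.neg p.1), - - p.2) = p
          rw [e1 p hp, neg_neg]
    intro g hg
    have := hle2 hg
    simpa using this
  · intro j i hi
    simp only [List.mem_cons, List.not_mem_nil, or_false] at hi
    rcases hi with rfl | rfl <;> decide +kernel
  · intro j j' _
    exact Subsingleton.elim _ _
  · intro i hi
    refine ⟨0, ?_⟩
    have : ∀ i < chevG2.rank, i ∈ [0, 1] := by decide +kernel
    exact this i hi
  · intro j i hi i' hi'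
    have hlt : ∀ i, i ∈ [0, 1] → i < 2 := by decide +kernel
    have : ∀ i < 2, i ∈ [0, 1] → ∀ i' < 2, i' ∈ [0, 1] → ∃ k < 2, gfG2.ρ^[k] (chevG2.simple i) = chevG2.simple i' := by decide +kernel
    obtain ⟨k, _, h⟩ := this i (hlt i hi) hi i' (hlt i' hi') hi'
    exact ⟨k, h⟩
  · intro j x hx hs
    obtain ⟨τ, rfl⟩ := TG2.extra.Xp_prodL TG2.good (Jl := [0, 1]) (L := [g2b, g2a, g2ab, g2aab, g2aaab, g2aaabb]) (by decide +kernel) (by decide +kernel) (by decide +kernel) hx
    rw [g2N_eq_prodL] at hs ⊢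
    rw [g2_s_N] at hs
    obtain ⟨h1, h2, h3, h4, h5, h6⟩ := g2N_inj hs
    have h7 : TG2.good.wordG (reeWordU e (τ g2b) ((φ (τ g2ab)) ^ 3) ((φ (τ g2aab)) ^ 3)) ∈ twistedG2 K e := TG2.good.wordG_mem_gen ⟨_, _, _, Or.inl rfl⟩
    rw [g2_word_eq φ hφ] at h7
    simp only [map_pow, hφ2] at h7
    have e5 : τ g2aaab = τ g2b * (φ (τ g2b)) ^ 3 + (φ (τ g2ab)) ^ 3 := by
      rw [← h5, h1]
      ring
    have e6 : τ g2aaabb = (τ g2b) ^ 2 * (φ (τ g2b)) ^ 3 + (φ (τ g2aab)) ^ 3 := by
      rw [← h6, h1]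
      ring
    rw [e5, e6, ← h2]
    exact h7
  · intro j
    have h5 : TG2.good.wordG (reeWordU e (1 : K) 0 0) ∈ twistedG2 K e := TG2.good.wordG_mem_gen ⟨1, 0, 0, Or.inl rfl⟩
    rw [g2_word_eq φ hφ] at h5
    have hL : ∀ r ∈ [g2b, g2a, g2ab, g2aab, g2aaab, g2aaabb], ∀ k < chevG2.rank, k ∉ [0, 1] → TG2.cert.coef r k = 0 := by decide +kernel
    refine ⟨_, ?_, (hle h5).2, ?_⟩
    · exact mul_mem (mul_mem (TG2.extra.x_mem_Xp TG2.good (by decide +kernel) (by decide +kernel) (hL _ (by simp)) _) (TG2.extra.x_mem_Xp TG2.good (by decide +kernel) (by decide +kernel) (hL _ (by simp)) _))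
        (mul_mem (TG2.extra.x_mem_Xp TG2.good (by decide +kernel) (by decide +kernel) (hL _ (by simp)) _) (mul_mem (TG2.extra.x_mem_Xp TG2.good (by decide +kernel) (by decide +kernel) (hL _ (by simp)) _)
          (mul_mem (TG2.extra.x_mem_Xp TG2.good (by decide +kernel) (by decide +kernel) (hL _ (by simp)) _) (TG2.extra.x_mem_Xp TG2.good (by decide +kernel) (by decide +kernel) (hL _ (by simp)) _))))
    · intro h
      have e1 : g2N (0 : K) 0 0 0 0 0 = 1 := by
        unfold g2N g2A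
        simp [TG2.good.xG_zero]
      rw [← e1] at h
      exact one_ne_zero (g2N_inj h).1

end inst

end G2

end CfsgLib.Chev
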