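/-
Field set-up for the twisted groups.
-/
import Cfsg.Agent.Lib.Tw.G2

set_option autoImplicit false

namespace CfsgLib.Chev

open Cfsg.Lie

/-- The characteristic of a field of prime power order. -/
theorem charP_of_card {F : Type*} [Field F] [Fintype F] {p n : ℕ} (hp : p.Prime) (hK : Fintype.card F = p ^ n) : CharP F p := by
  obtain ⟨r, hr⟩ := CharP.exists F
  have hr0 : (Fintype.card F : F) = 0 := Nat.cast_card_eq_zero F
  have h1 : r ∣ Fintype.card F := (CharP.cast_eq_zero_iff F r _).1 hr0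
  have hrp : r.Prime := by
    rcases CharP.char_is_prime_or_zero F r with h | h
    · exact h
    · subst h
      have := Nat.eq_zero_of_zero_dvd h1
      exact absurd this Fintype.card_ne_zero
  rw [hK] at h1
  have h2 : r = p := (Nat.prime_dvd_prime_iff_eq hrp hp).1 (hrp.dvd_of_dvd_pow h1)
  rwa [h2] at hr

/-- Automorphisms `t ↦ t ^ (p ^ m)`. -/
theorem exists_frobP {F : Type*} [Field F] [Fintype F] {p : ℕ} (hp : p.Prime) [CharP F p] (m : ℕ) : ∃ φ : F ≃+* F, ∀ t, φ t = t ^ (p ^ m) := by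
  haveI : Fact p.Prime := ⟨hp⟩
  haveI : ExpChar F p := ExpChar.prime hp
  have hinj : Function.Injective (iterateFrobenius F p m) := (iterateFrobenius F p m).injective
  exact ⟨RingEquiv.ofBijective (iterateFrobenius F p m) ⟨hinj, Finite.surjective_of_injective hinj⟩, fun t => rfl⟩

/-- The set-up for `²F₄` and `²G₂`. -/
theorem exists_theta {F : Type*} [Field F] [Fintype F] {p m : ℕ} (hp : p.Prime) (hK : Fintype.card F = p ^ (2 * m + 1)) [CharP F p] :
    ∃ φ : F ≃+* F, (∀ t, φ t = t ^ (p ^ m)) ∧ ∀ t, (φ (φ t)) ^ p = t := by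
  obtain ⟨φ, hφ⟩ := exists_frobP (F := F) hp m
  refine ⟨φ, hφ, fun t => ?_⟩
  rw [hφ, hφ, ← pow_mul, ← pow_mul]
  have e : p ^ m * (p ^ m * p) = Fintype.card F := by
    rw [hK]
    ring
  rw [e]
  exact FiniteField.pow_card t

end CfsgLib.Chev
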