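/-
Orders of the fixed points of `U`.
-/
import Cfsg.Agent.Lib.Tw.Setup

set_option autoImplicit false

namespace CfsgLib.Tw

/-- The fixed points of a power of Frobenius. -/
lemma card_fixed_pow {F : Type*} [Field F] [Fintype F] {q n : ℕ} (hq : 1 < q) (hK : Fintype.card F = q ^ n) :
    Nat.card {t : F // t ^ q = t} = q := by
  classical
  have hq' : q - 1 ≠ 0 := by omega
  set d := q - 1 with hd
  have hcard : Nat.card Fˣ = q ^ n - 1 := by
    rw [Nat.card_eq_fintype_card, Fintype.card_units, hK]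
  have hdvd : d ∣ Nat.card Fˣ := by
    rw [hcard]
    have := Nat.sub_dvd_pow_sub_pow q 1 n
    simpa using this
  have hpos : 0 < Nat.card Fˣ := Nat.card_pos
  obtain ⟨g, hg⟩ := IsCyclic.exists_generator (α := Fˣ)
  have hord : orderOf g = Nat.card Fˣ := orderOf_eq_card_of_forall_mem_zpowers hg
  set a := g ^ (Nat.card Fˣ / d) with ha
  have hoa : orderOf a = d := by
    rw [ha, orderOf_pow_of_dvd (Nat.div_ne_zero_iff_of_dvd hdvd |>.2 ⟨hpos.ne', hq'⟩) (by rw [hord]; exact Nat.div_dvd_of_dvd hdvd), hord, Nat.div_div_self hdvd hpos.ne']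
  let Fk : Subgroup Fˣ := (powMonoidHom d : Fˣ →* Fˣ).ker
  have hmem : ∀ x : Fˣ, x ∈ Fk ↔ x ^ d = 1 := fun x => Iff.rfl
  have h1 : Nat.card Fk = d := by
    apply le_antisymm
    · have h2 := IsCyclic.card_pow_eq_one_le (α := Fˣ) (n := d) (Nat.pos_of_ne_zero hq')
      have h3 : Nat.card Fk = (Finset.univ.filter fun x : Fˣ => x ^ d = 1).card := by
        rw [Nat.card_eq_fintype_card, Fintype.card_subtype]
        simp only [hmem]
      rw [h3]
      exact h2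
    · have h2 : Subgroup.zpowers a ≤ Fk := by
        rw [Subgroup.zpowers_le]
        rw [hmem, ← hoa]
        exact pow_orderOf_eq_one a
      have h3 := Subgroup.card_le_of_le h2
      rwa [Nat.card_zpowers, hoa] at h3
  have h4 : Nat.card {t : F // t ^ q = t} = Nat.card (Option Fk) := by
    refine Nat.card_congr (Equiv.symm (Equiv.ofBijective (fun o : Option Fk => match o with
      | none => (⟨0, by simp; omega⟩ : {t : F // t ^ q = t})
      | some x => ⟨((x : Fˣ) : F), ?_⟩) ⟨?_, ?_⟩))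
    · have h5 : ((x : Fˣ) : F) ^ d = 1 := by
        have := congrArg Units.val ((hmem _).1 x.2)
        simpa using this
      have : q = d + 1 := by omega
      rw [this, pow_succ, h5, one_mul]
    · intro o o' e
      rcases o with _ | x <;> rcases o' with _ | x'
      · rfl
      · have : (0 : F) = ((x' : Fˣ) : F) := congrArg Subtype.val e
        exact absurd this.symm (Units.ne_zero _)
      · have : ((x : Fˣ) : F) = 0 := congrArg Subtype.val e
        exact absurd this (Units.ne_zero _)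
      · have : ((x : Fˣ) : F) = ((x' : Fˣ) : F) := congrArg Subtype.val e
        congr 1
        exact Subtype.ext (Units.ext this)
    · rintro ⟨t, ht⟩
      by_cases h0 : t = 0
      · subst h0
        exact ⟨none, rfl⟩
      · have hu : (Units.mk0 t h0) ∈ Fk := by
          rw [hmem]
          apply Units.ext
          have : q = d + 1 := by omega
          rw [this, pow_succ] at ht
          simp only [Units.val_pow_eq_pow_val, Units.val_mk0, Units.val_one]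
          exact mul_right_cancel₀ h0 (by rw [ht, one_mul])
        exact ⟨some ⟨_, hu⟩, rfl⟩
  rw [h4, Finite.card_option, h1]
  omega

lemma card_of_param {α G : Type*} [Group G] (H : Subgroup G) (f : α → G) (hinj : Function.Injective f) (hr : ∀ x, x ∈ H ↔ ∃ a, f a = x) :
    Nat.card H = Nat.card α := by
  refine (Nat.card_congr (Equiv.ofBijective (fun a => (⟨f a, (hr _).2 ⟨a, rfl⟩⟩ : H)) ⟨?_, ?_⟩)).symm
  · intro a b h
    exact hinj (congrArg Subtype.val h)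
  · rintro ⟨x, hx⟩
    obtain ⟨a, rfl⟩ := (hr x).1 hx
    exact ⟨a, rfl⟩

namespace Base

variable {A : Type*} [Group A] (S : Base A)

/-- The order of the fixed points of `U_n`. -/
theorem card_step {n w : A} (hw : w ∈ S.N ⊓ S.Fx) (hsq : w * w ∈ S.H)
    (h1 : ∀ x ∈ S.Un w, n * x * n⁻¹ ∈ S.V) (h2 : ∀ z ∈ S.Un (n * w), w * z * w⁻¹ ∈ S.U) :
    Nat.card ↥(S.Un n ⊓ S.Fx) = Nat.card ↥(S.Un (n * w) ⊓ S.Fx) * Nat.card ↥(S.Un w ⊓ S.Fx) := by
  rw [← Nat.card_prod]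
  symm
  have hwF : w ∈ S.Fx := hw.2
  have hmem : ∀ p : ↥(S.Un (n * w) ⊓ S.Fx) × ↥(S.Un w ⊓ S.Fx), w * (p.1 : A) * w⁻¹ * (p.2 : A) ∈ S.Un n ⊓ S.Fx := by
    rintro ⟨⟨z, hz⟩, ⟨x, hx⟩⟩
    dsimp only
    refine Subgroup.mem_inf.2 ⟨⟨mul_mem (h2 z (Subgroup.mem_inf.1 hz).1) (Subgroup.mem_inf.1 hx).1.1, ?_⟩, mul_mem (mul_mem (mul_mem hwF (Subgroup.mem_inf.1 hz).2) (inv_mem hwF)) (Subgroup.mem_inf.1 hx).2⟩
    have e : n * (w * z * w⁻¹ * x) * n⁻¹ = ((n * w) * z * (n * w)⁻¹) * (n * x * n⁻¹) := by group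
    show n * (w * z * w⁻¹ * x) * n⁻¹ ∈ S.V
    rw [e]
    exact mul_mem (Subgroup.mem_inf.1 hz).1.2 (h1 x (Subgroup.mem_inf.1 hx).1)
  refine Nat.card_congr (Equiv.ofBijective (fun p => ⟨_, hmem p⟩) ⟨?_, ?_⟩)
  · rintro ⟨⟨z, hz⟩, ⟨x, hx⟩⟩ ⟨⟨z', hz'⟩, ⟨x', hx'⟩⟩ e
    have e1 : w * z * w⁻¹ * x = w * z' * w⁻¹ * x' := congrArg Subtype.val e
    have e2 : w * (z'⁻¹ * z) * w⁻¹ = x' * x⁻¹ := by
      have e3 : w * z * w⁻¹ = w * z' * w⁻¹ * x' * x⁻¹ := by
        rw [← e1]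
        group
      have : w * (z'⁻¹ * z) * w⁻¹ = (w * z' * w⁻¹)⁻¹ * (w * z * w⁻¹) := by group
      rw [this, e3]
      group
    have hyU : z'⁻¹ * z ∈ S.U := mul_mem (inv_mem hz'.1.1) hz.1.1
    have hcUn : x' * x⁻¹ ∈ S.Un w := mul_mem hx'.1 (inv_mem hx.1)
    have h3 : (w * w) * (z'⁻¹ * z) * (w * w)⁻¹ ∈ S.V := by
      have e4 : (w * w) * (z'⁻¹ * z) * (w * w)⁻¹ = w * (w * (z'⁻¹ * z) * w⁻¹) * w⁻¹ := by group
      rw [e4, e2]
      exact hcUn.2
    have h4 := S.H_U _ hsq _ hyU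
    have h5 := S.U_V _ h4 h3
    have h6 : z'⁻¹ * z = 1 := by
      have e5 : z'⁻¹ * z = (w * w)⁻¹ * ((w * w) * (z'⁻¹ * z) * (w * w)⁻¹) * (w * w) := by group
      rw [e5, h5]
      group
    have h7 : z = z' := (inv_mul_eq_one.1 h6).symm
    subst h7
    have h8 : x = x' := mul_left_cancel e1
    subst h8
    rfl
  · rintro ⟨u, hu⟩
    obtain ⟨y, hy, x, hx, e, h3, h4⟩ := S.split_fixed hw ⟨hu.1.1, hu.2⟩
    have hxUn : x ∈ S.Un w := ⟨hx.1, h4⟩
    have hz1 : w⁻¹ * y * w ∈ S.U := by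
      have h5 := S.H_U _ (inv_mem hsq) _ h3
      have e2 : (w * w)⁻¹ * (w * y * w⁻¹) * (w * w)⁻¹⁻¹ = w⁻¹ * y * w := by group
      rwa [e2] at h5
    have hz2 : w⁻¹ * y * w ∈ S.Un (n * w) := by
      refine ⟨hz1, ?_⟩
      show (n * w) * (w⁻¹ * y * w) * (n * w)⁻¹ ∈ S.V
      have e2 : (n * w) * (w⁻¹ * y * w) * (n * w)⁻¹ = (n * u * n⁻¹) * (n * x * n⁻¹)⁻¹ := by
        rw [e]
        group
      rw [e2]
      exact mul_mem hu.1.2 (inv_mem (h1 x hxUn))
    have hz3 : w⁻¹ * y * w ∈ S.Fx := mul_mem (mul_mem (inv_mem hwF) hy.2) hwF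
    refine ⟨⟨⟨_, hz2, hz3⟩, ⟨x, hxUn, hx.2⟩⟩, ?_⟩
    apply Subtype.ext
    show w * (w⁻¹ * y * w) * w⁻¹ * x = u
    rw [e]
    group

end Base

end CfsgLib.Tw

namespace CfsgLib.Chev

open Cfsg.Lie Cfsg.Lie.ChevalleyDatum CfsgLib.BN

section

variable {D : ChevalleyDatum} {C : Cert} {hG : Good D C} {K : Type*} [Field K] {A : TwAct hG K}

include hG in
/-- The number of positive roots of `Φ_J`. -/
lemma Extra.card_posJ (hE : Extra D C) {Jl L : List ℕ} (hnd : L.Nodup) (hLr : ∀ r ∈ L, D.nroots / 2 ≤ r ∧ r < D.nroots)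
    (hL : ∀ r, r < D.nroots → D.nroots / 2 ≤ r → (r ∈ L ↔ ∀ k < D.rank, k ∉ Jl → C.coef r k = 0)) :
    (posJ D C {i | i ∈ Jl}).card = L.length := by
  classical
  rw [← List.toFinset_card_of_nodup hnd]
  apply Finset.card_bij (fun r _ => r.val)
  · intro r hr
    obtain ⟨h1, h2⟩ := mem_posJ.1 hr
    rw [List.mem_toFinset, hL r r.2 h1]
    intro k hk hkJ
    exact hE.coef_zero_of_lam hG r.2 h2 hk hkJ
  · intro a _ b _ h
    exact Fin.ext h
  · intro r hr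
    rw [List.mem_toFinset] at hr
    obtain ⟨h1, h2⟩ := hLr r hr
    refine ⟨⟨r, h2⟩, mem_posJ.2 ⟨h1, ?_⟩, rfl⟩
    unfold lamJ
    apply Finset.sum_eq_zero
    intro j _
    split_ifs with h3
    · rfl
    · exact (hL r h2 h1).1 hr j j.2 h3

namespace TwData

variable {T : Subgroup (GL D.Idx K)} (Dt : TwData A T) (hE : Extra D C) (hB : Braid D C)

lemma step_field {m : GL D.Idx K} (hm : m ∈ D.monomialSubgroup K) (hs : A.s m = m) :
    m ∈ D.diagonalSubgroup K ∨ ∃ j, (∀ x, x ∈ D.posUnipotent K → Dt.w hE hB j * x * (Dt.w hE hB j)⁻¹ ∈ D.negUnipotent K → m * x * m⁻¹ ∈ D.negUnipotent K) ∧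
      (∀ z, z ∈ D.posUnipotent K → (m * Dt.w hE hB j) * z * (m * Dt.w hE hB j)⁻¹ ∈ D.negUnipotent K → Dt.w hE hB j * z * (Dt.w hE hB j)⁻¹ ∈ D.posUnipotent K) ∧
      invN D (hG.permOf (m * Dt.w hE hB j)) + (posJ D C (Dt.J j)).card = invN D (hG.permOf m) ∧ (posJ D C (Dt.J j)).card ≠ 0 := by
  obtain ⟨τ, d, hi⟩ := hG.mono_of_mem_N hE hm
  have hτ := hE.perm_mem_W hG hB hm hi
  have hc := A.perm_comm hE (hG.monomial_le_group hm) hs hi
  by_cases h1 : τ = 1
  · left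
    subst h1
    exact hE.mem_H_of_perm hG hB hm hi
  · right
    have hinv : invN D τ ≠ 0 := fun h => h1 (hE.eq_one_of_invN hG hB hτ h)
    obtain ⟨i, hi', hineg⟩ := hE.exists_simple_neg hG hτ hinv
    obtain ⟨j, hj⟩ := Dt.J_cover i hi'
    have hs0 := hE.lamJ_simple hG hi' hj
    have hsp := hE.simple_high hG hi'
    refine ⟨j, ?_⟩
    rcases Dt.dichotomy hE hτ hc j with h | h
    · refine ⟨fun x hx hv => hE.conj_Xp_V hG hi (fun r hr hr0 => h r hr hr0) (Dt.Un_le_X hE hB j hx hv), ?_, ?_, ?_⟩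
      · intro z hz hv
        have hX := hE.Un_le hG (hi.mul (Dt.w_mono hE hB j)) hz hv
        apply hE.conj_Xp_U hG (Dt.w_mono hE hB j) _ hX
        rintro r hr ⟨_, h3⟩
        change (τ (Dt.τw hE hB j r)).val < _ at h3
        by_contra h4
        have h5 : lamJ C D.rank (Dt.J j) r = 0 := (Dt.w_sign hE hB j r hr).1 (not_le.1 h4)
        have := sign_flip hE hτ (Dt.w_W hE hB j) (Dt.w_sign hE hB j) h r hr h5
        omega
      · rw [permOf_eq hi, permOf_eq (hi.mul (Dt.w_mono hE hB j))]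
        exact hE.invN_descent hG hτ (Dt.w_W hE hB j) (Dt.w_sign hE hB j) h
      · rw [Finset.card_ne_zero]
        exact ⟨⟨D.simple i, hG.simple_lt hi'⟩, mem_posJ.2 ⟨hsp, hs0⟩⟩
    · have := h ⟨D.simple i, hG.simple_lt hi'⟩ hsp hs0
      omega

/-- The fixed points of the elements sent to `V`. -/
lemma mem_X_iff (j : Dt.ι) {x : GL D.Idx K} :
    x ∈ (A.base hE hB).Un (Dt.w hE hB j) ⊓ (A.base hE hB).Fx ↔
      x ∈ hG.Xp K (fun r => lamJ C D.rank (Dt.J j) r = 0) ∧ A.s x = x := by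
  constructor
  · intro h
    obtain ⟨⟨h1, h2⟩, h3⟩ := Subgroup.mem_inf.1 h
    exact ⟨Dt.Un_le_X hE hB j h1 h2, h3.2⟩
  · rintro ⟨h1, h2⟩
    have hU := hE.Xp_le_U hG _ h1
    refine Subgroup.mem_inf.2 ⟨⟨hU, ?_⟩, hG.posUnipotent_le_group hU, h2⟩
    exact hE.conj_Xp_V hG (Dt.w_mono hE hB j) (fun r hr hr0 => (Dt.w_sign hE hB j r hr).2 hr0) h1

/-- The number of fixed points of an orbit with one root. -/
lemma card_X_one (j : Dt.ι) {Jl : List ℕ} (hJ : Dt.J j = {i | i ∈ Jl}) {r : ℕ} (hr : r < D.nroots) (hp : D.nroots / 2 ≤ r)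
    (hL : ∀ r', r' < D.nroots → D.nroots / 2 ≤ r' → (r' ∈ [r] ↔ ∀ k < D.rank, k ∉ Jl → C.coef r' k = 0))
    {g : K → K} (hs : ∀ t, A.s (hG.xG r t) = hG.xG r (g t)) :
    Nat.card ↥((A.base hE hB).Un (Dt.w hE hB j) ⊓ (A.base hE hB).Fx) = Nat.card {t : K // g t = t} := by
  apply CfsgLib.Tw.card_of_param _ (fun t : {t : K // g t = t} => hG.xG r t.1)
  · rintro ⟨t, ht⟩ ⟨t', ht'⟩ e
    apply Subtype.ext
    exact hE.xG_inj hG hr e
  · intro x
    rw [Dt.mem_X_iff hE hB j, hJ]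
    constructor
    · rintro ⟨h1, h2⟩
      obtain ⟨t, ht, rfl⟩ := A.fix_one hE hr hp hL hs h1 h2
      exact ⟨⟨t, ht⟩, rfl⟩
    · rintro ⟨⟨t, ht⟩, rfl⟩
      refine ⟨hE.x_mem_Xp hG hr hp ((hL r hr hp).1 (by simp)) t, ?_⟩
      show A.s (hG.xG r t) = hG.xG r t
      rw [hs, ht]

/-- The number of fixed points of an orbit with two roots. -/
lemma card_X_two (j : Dt.ι) {Jl : List ℕ} (hJ : Dt.J j = {i | i ∈ Jl}) {a b : ℕ} (ha : a < D.nroots) (hb : b < D.nroots)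
    (hpa : D.nroots / 2 ≤ a) (hpb : D.nroots / 2 ≤ b) (hab : a < b)
    (hL : ∀ r', r' < D.nroots → D.nroots / 2 ≤ r' → (r' ∈ [a, b] ↔ ∀ k < D.rank, k ∉ Jl → C.coef r' k = 0))
    (hcomm : ∀ s t : K, hG.xG b s * hG.xG a t = hG.xG a t * hG.xG b s)
    {g g' : K → K} (hs : ∀ t, A.s (hG.xG a t) = hG.xG b (g t)) (hs' : ∀ t, A.s (hG.xG b t) = hG.xG a (g' t))
    (hgg : ∀ t, g' (g t) = t) :
    Nat.card ↥((A.base hE hB).Un (Dt.w hE hB j) ⊓ (A.base hE hB).Fx) = Nat.card K := by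
  classical
  have hne : a ≠ b := by omega
  apply CfsgLib.Tw.card_of_param _ (fun t : K => hG.xG a t * hG.xG b (g t))
  · intro t t' e
    have e1 : ∀ σ : ℕ → K, hG.prodL [a, b] σ = hG.xG a (σ a) * hG.xG b (σ b) := by
      intro σ
      rw [hG.prodL_cons, hG.prodL_cons, hG.prodL_nil, mul_one]
    have e2 : hG.prodL [a, b] (fun r => if r = a then t else g t) = hG.prodL [a, b] (fun r => if r = a then t' else g t') := by
      rw [e1, e1]
      simp only [if_true, if_neg hne.symm]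
      exact e
    have h1 := hE.prodL_injective hG (L := [a, b]) (by simp [hab]) (by simpa using ⟨⟨hpa, ha⟩, ⟨hpb, hb⟩⟩) _ _ e2 a (by simp)
    simpa using h1
  · intro x
    rw [Dt.mem_X_iff hE hB j, hJ]
    constructor
    · rintro ⟨h1, h2⟩
      obtain ⟨t, rfl⟩ := A.fix_two hE ha hb hpa hpb hab hL hcomm hs hs' h1 h2
      exact ⟨t, rfl⟩
    · rintro ⟨t, rfl⟩
      refine ⟨mul_mem (hE.x_mem_Xp hG ha hpa ((hL a ha hpa).1 (by simp)) t) (hE.x_mem_Xp hG hb hpb ((hL b hb hpb).1 (by simp)) _), ?_⟩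
      rw [A.s_mul (hG.mem_group ha _) (hG.mem_group hb _), hs, hs', hgg, hcomm]

/-- The number of fixed points of an orbit with three roots. -/
lemma card_X_three (j : Dt.ι) {Jl : List ℕ} (hJ : Dt.J j = {i | i ∈ Jl}) {a b c : ℕ} (ha : a < D.nroots) (hb : b < D.nroots) (hc : c < D.nroots)
    (hpa : D.nroots / 2 ≤ a) (hpb : D.nroots / 2 ≤ b) (hpc : D.nroots / 2 ≤ c) (hab : a < b) (hbc : b < c)
    (hL : ∀ r', r' < D.nroots → D.nroots / 2 ≤ r' → (r' ∈ [a, b, c] ↔ ∀ k < D.rank, k ∉ Jl → C.coef r' k = 0))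
    (hc1 : ∀ s t : K, hG.xG c s * hG.xG a t = hG.xG a t * hG.xG c s)
    (hc2 : ∀ s t : K, hG.xG c s * hG.xG b t = hG.xG b t * hG.xG c s)
    (hc3 : ∀ s t : K, hG.xG b s * hG.xG a t = hG.xG a t * hG.xG b s)
    {g : K → K} (hsa : ∀ t, A.s (hG.xG a t) = hG.xG c (g t)) (hsb : ∀ t, A.s (hG.xG b t) = hG.xG a (g t))
    (hsc : ∀ t, A.s (hG.xG c t) = hG.xG b (g t)) (hggg : ∀ t, g (g (g t)) = t) :
    Nat.card ↥((A.base hE hB).Un (Dt.w hE hB j) ⊓ (A.base hE hB).Fx) = Nat.card K := by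
  classical
  have hne : a ≠ b := by omega
  have hne2 : a ≠ c := by omega
  have hne3 : b ≠ c := by omega
  have hle : ∀ r ∈ [a, b, c], D.nroots / 2 ≤ r ∧ r < D.nroots := by
    simpa using ⟨⟨hpa, ha⟩, ⟨hpb, hb⟩, ⟨hpc, hc⟩⟩
  apply CfsgLib.Tw.card_of_param _ (fun t : K => hG.xG a (g (g t)) * hG.xG b (g t) * hG.xG c t)
  · intro t t' e
    have e1 : ∀ σ : ℕ → K, hG.prodL [a, b, c] σ = hG.xG a (σ a) * hG.xG b (σ b) * hG.xG c (σ c) := by
      intro σ
      rw [hG.prodL_cons, hG.prodL_cons, hG.prodL_cons, hG.prodL_nil, mul_one, mul_assoc]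
    have e2 : hG.prodL [a, b, c] (fun r => if r = a then g (g t) else if r = b then g t else t) = hG.prodL [a, b, c] (fun r => if r = a then g (g t') else if r = b then g t' else t') := by
      rw [e1, e1]
      simp only [if_true, if_neg hne.symm, if_neg hne2.symm, if_neg hne3.symm]
      exact e
    have h1 := hE.prodL_injective hG (L := [a, b, c]) (by simp; omega) hle _ _ e2 c (by simp)
    simpa [if_neg hne2.symm, if_neg hne3.symm] using h1
  · intro x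
    rw [Dt.mem_X_iff hE hB j, hJ]
    constructor
    · rintro ⟨h1, h2⟩
      obtain ⟨t, rfl⟩ := A.fix_three hE ha hb hc hpa hpb hpc hab hbc hL hc1 hc2 hc3 hsa hsb hsc h1 h2
      exact ⟨t, rfl⟩
    · rintro ⟨t, rfl⟩
      refine ⟨mul_mem (mul_mem (hE.x_mem_Xp hG ha hpa ((hL a ha hpa).1 (by simp)) _) (hE.x_mem_Xp hG hb hpb ((hL b hb hpb).1 (by simp)) _)) (hE.x_mem_Xp hG hc hpc ((hL c hc hpc).1 (by simp)) _), ?_⟩
      rw [A.s_mul (mul_mem (hG.mem_group ha _) (hG.mem_group hb _)) (hG.mem_group hc _), A.s_mul (hG.mem_group ha _) (hG.mem_group hb _), hsa, hsb, hsc, hggg]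
      rw [hc1, mul_assoc, mul_assoc, hc2, ← mul_assoc]

/-- The order of the fixed points of `U_m`. -/
theorem card_Un {e Q : ℕ} (hQ : ∀ j, Nat.card ↥((A.base hE hB).Un (Dt.w hE hB j) ⊓ (A.base hE hB).Fx) ^ e = Q ^ (posJ D C (Dt.J j)).card) :
    ∀ (k : ℕ) (m : GL D.Idx K), m ∈ D.monomialSubgroup K → A.s m = m → invN D (hG.permOf m) ≤ k →
      Nat.card ↥((A.base hE hB).Un m ⊓ (A.base hE hB).Fx) ^ e = Q ^ invN D (hG.permOf m) := by
  have hdiag : ∀ m : GL D.Idx K, m ∈ D.diagonalSubgroup K → 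
      Nat.card ↥((A.base hE hB).Un m ⊓ (A.base hE hB).Fx) ^ e = Q ^ invN D (hG.permOf m) := by
    intro m hm
    have h1 : (A.base hE hB).Un m ⊓ (A.base hE hB).Fx = ⊥ := by
      rw [eq_bot_iff]
      rintro u ⟨⟨hu1, hu2⟩, -⟩
      have h3 : m * u * m⁻¹ = 1 := (A.base hE hB).U_V _ ((A.base hE hB).H_U m hm u hu1) hu2
      have e : u = m⁻¹ * (m * u * m⁻¹) * m := by group
      rw [e, h3]
      simp
    obtain ⟨τ, d, hi⟩ := hG.mono_of_mem_N hE (hG.diagonal_le_monomial hm)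
    have h2 := hE.perm_of_H hG hB hm hi
    subst h2
    rw [h1, permOf_eq hi]
    have h3 : invN D 1 = 0 := by
      rw [invN_eq_zero_iff]
      intro r hr
      exact hr
    rw [h3]
    simp
  intro k
  induction k with
  | zero =>
    intro m hm hs hk
    rcases Dt.step_field hE hB hm hs with h | ⟨j, h1, h2, h3, h4⟩
    · exact hdiag m h
    · omega
  | succ k ih =>
    intro m hm hs hk
    rcases Dt.step_field hE hB hm hs with h | ⟨j, h1, h2, h3, h4⟩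
    · exact hdiag m h
    · have hwF : Dt.w hE hB j ∈ (A.base hE hB).N ⊓ (A.base hE hB).Fx :=
        Subgroup.mem_inf.2 ⟨Dt.w_N hE hB j, Dt.T_le (Dt.w_T hE hB j), Dt.T_fix _ (Dt.w_T hE hB j)⟩
      have h5 := (A.base hE hB).card_step hwF (Dt.w_sq hE hB j) (fun x hx => h1 x hx.1 hx.2) (fun z hz => h2 z hz.1 hz.2)
      have hmG := hG.monomial_le_group hm
      have hwG := hG.monomial_le_group (Dt.w_N hE hB j)
      have h6 := ih (m * Dt.w hE hB j) (mul_mem hm (Dt.w_N hE hB j)) (by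
        rw [A.s_mul hmG hwG, hs, Dt.T_fix _ (Dt.w_T hE hB j)]) (by omega)
      rw [h5, mul_pow, h6, hQ j, ← pow_add, h3]

/-- The order of the fixed points of `U`. -/
theorem card_U {e Q : ℕ} (hQ : ∀ j, Nat.card ↥((A.base hE hB).Un (Dt.w hE hB j) ⊓ (A.base hE hB).Fx) ^ e = Q ^ (posJ D C (Dt.J j)).card) :
    Nat.card ↥(D.posUnipotent K ⊓ (A.base hE hB).Fx) ^ e = Q ^ (D.nroots - D.nroots / 2) := by
  obtain ⟨n, hn, hnT, hv⟩ := Dt.long_field hE hB
  have h1 := Dt.card_Un hE hB hQ _ n hn (Dt.T_fix n hnT) le_rfl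
  have h2 : (A.base hE hB).Un n = D.posUnipotent K := by
    apply le_antisymm inf_le_left
    intro u hu
    exact ⟨hu, hv u hu⟩
  rw [h2] at h1
  rw [h1]
  congr 1
  obtain ⟨τ, d, hi⟩ := hG.mono_of_mem_N hE hn
  rw [permOf_eq hi]
  have h3 : ∀ r : Fin D.nroots, D.nroots / 2 ≤ r.val → (τ r).val < D.nroots / 2 := by
    intro r hr
    by_contra h4
    have h5 : n * hG.xG r 1 * n⁻¹ ∈ D.negUnipotent K := hv _ (hG.posUnipotent_mem ((hE.posIff r r.2).2 hr) 1)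
    rw [hi.conj r 1] at h5
    have h6 := hE.U_V hG (hG.posUnipotent_mem ((hE.posIff _ (τ r).2).2 (not_lt.1 h4)) _) h5
    exact mul_ne_zero (hi.d_ne r) one_ne_zero ((hE.xG_eq_one_iff hG (τ r).2).1 h6)
  unfold invN
  have h4 : (Finset.univ.filter fun r : Fin D.nroots => D.nroots / 2 ≤ r.val ∧ (τ r).val < D.nroots / 2) = Finset.univ.filter fun r : Fin D.nroots => D.nroots / 2 ≤ r.val := by
    ext r
    simp only [Finset.mem_filter, Finset.mem_univ, true_and]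
    exact ⟨fun h => h.1, fun h => ⟨h, h3 r h⟩⟩
  have h5 := Finset.card_filter_add_card_filter_not (s := (Finset.univ : Finset (Fin D.nroots))) (fun r : Fin D.nroots => r.val < D.nroots / 2)
  rw [Fin.card_filter_val_lt, Finset.card_univ, Fintype.card_fin] at h5
  have h6 : (Finset.univ.filter fun r : Fin D.nroots => D.nroots / 2 ≤ r.val) = Finset.univ.filter fun r : Fin D.nroots => ¬ r.val < D.nroots / 2 := by
    ext r
    simp
  rw [h4, h6]
  have h7 : min D.nroots (D.nroots / 2) = D.nroots / 2 := min_eq_right (Nat.div_le_self _ _)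
  omega

end TwData

end

end CfsgLib.Chev
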