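/-
The orders of the fixed points of `U` in the four twisted types.
-/
import Cfsg.Agent.Lib.Tw.Order

set_option autoImplicit false
set_option synthInstance.maxHeartbeats 400000
set_option synthInstance.maxSize 1024

namespace CfsgLib.Chev

open Cfsg.Lie Cfsg.Lie.ChevalleyDatum CfsgLib.BN

section gen

variable {D : ChevalleyDatum} {C : Cert} {hG : Good D C} {K : Type*} [Field K] {A : TwAct hG K} {T : Subgroup (GL D.Idx K)}

lemma TwData.U_inf_T (Dt : TwData A T) (hE : Extra D C) (hB : Braid D C) :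
    D.posUnipotent K ⊓ T = D.posUnipotent K ⊓ (A.base hE hB).Fx := by
  apply le_antisymm
  · exact inf_le_inf_left _ (Dt.twist hE hB).T_le
  · intro u hu
    exact Subgroup.mem_inf.2 ⟨hu.1, (Dt.twist hE hB).U_fixed_le hu⟩

end gen

section E6

variable {K : Type*} [Field K] [Fintype K] {q : ℕ} (φ : K ≃+* K) (hφ : ∀ t, φ t = t ^ q) (hφ2 : ∀ t, φ (φ t) = t)

include hφ hφ2 in
theorem e6_card_U (hq : 1 < q) (hK : Fintype.card K = q ^ 2) :
    Nat.card ↥(chevE6.posUnipotent K ⊓ twistedE6 K q) = q ^ 36 := by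
  obtain ⟨Dt, e, hJ⟩ := e6_td φ hφ hφ2
  have hfix : Nat.card {t : K // φ t = t} = q := by
    have := CfsgLib.Tw.card_fixed_pow (F := K) hq hK
    rw [← this]
    simp only [hφ]
  have hcK : Nat.card K = q ^ 2 := by rw [Nat.card_eq_fintype_card, hK]
  have hone : ∀ {r : ℕ}, r < chevE6.nroots → spE6.π r = r → spE6.σ r = 1 → ∀ t : K, (tE6 φ).s (TE6.good.xG r t) = TE6.good.xG r (φ t) := by
    intro r hr h1 h2 t
    rw [tE6_s φ hr, h1, h2]
    simp
  have htwo : ∀ {r r' : ℕ}, r < chevE6.nroots → spE6.π r = r' → spE6.σ r = 1 → ∀ t : K, (tE6 φ).s (TE6.good.xG r t) = TE6.good.xG r' (φ t) := by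
    intro r r' hr h1 h2 t
    rw [tE6_s φ hr, h1, h2]
    simp
  have hQ : ∀ j, Nat.card ↥(((tE6 φ).base TE6.extra TE6.braid).Un (Dt.w TE6.extra TE6.braid j) ⊓ ((tE6 φ).base TE6.extra TE6.braid).Fx) ^ 1 =
      q ^ (posJ chevE6 TE6.cert (Dt.J j)).card := by
    intro j
    have hj := hJ j
    generalize e j = i at hj
    rw [pow_one]
    fin_cases i
    · have hj' : Dt.J j = {i | i ∈ [1]} := hj
      rw [Dt.card_X_one TE6.extra TE6.braid j hj' (r := e6p2) (by decide +kernel) (by decide +kernel) (by decide +kernel) (g := φ) (hone (by decide +kernel) (by decide +kernel) (by decide +kernel)),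
        hfix, hj', TE6.extra.card_posJ (hG := TE6.good) (Jl := [1]) (L := [e6p2]) (by decide +kernel) (by decide +kernel) (by decide +kernel)]
      exact (pow_one q).symm
    · have hj' : Dt.J j = {i | i ∈ [3]} := hj
      rw [Dt.card_X_one TE6.extra TE6.braid j hj' (r := e6p4) (by decide +kernel) (by decide +kernel) (by decide +kernel) (g := φ) (hone (by decide +kernel) (by decide +kernel) (by decide +kernel)),
        hfix, hj', TE6.extra.card_posJ (hG := TE6.good) (Jl := [3]) (L := [e6p4]) (by decide +kernel) (by decide +kernel) (by decide +kernel)]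
      exact (pow_one q).symm
    · have hj' : Dt.J j = {i | i ∈ [0, 5]} := hj
      rw [Dt.card_X_two TE6.extra TE6.braid j hj' (a := e6p6) (b := e6p1) (by decide +kernel) (by decide +kernel) (by decide +kernel) (by decide +kernel) (by decide +kernel) (by decide +kernel)
        (fun s t => TE6.good.x_comm (by decide +kernel) (by decide +kernel) (by decide +kernel) (by decide +kernel) (by decide +kernel) t s)
        (g := φ) (g' := φ) (htwo (by decide +kernel) (by decide +kernel) (by decide +kernel)) (htwo (by decide +kernel) (by decide +kernel) (by decide +kernel)) hφ2,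
        hcK, hj', TE6.extra.card_posJ (hG := TE6.good) (Jl := [0, 5]) (L := [e6p6, e6p1]) (by decide +kernel) (by decide +kernel) (by decide +kernel)]
      rfl
    · have hj' : Dt.J j = {i | i ∈ [2, 4]} := hj
      rw [Dt.card_X_two TE6.extra TE6.braid j hj' (a := e6p5) (b := e6p3) (by decide +kernel) (by decide +kernel) (by decide +kernel) (by decide +kernel) (by decide +kernel) (by decide +kernel)
        (fun s t => TE6.good.x_comm (by decide +kernel) (by decide +kernel) (by decide +kernel) (by decide +kernel) (by decide +kernel) t s)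
        (g := φ) (g' := φ) (htwo (by decide +kernel) (by decide +kernel) (by decide +kernel)) (htwo (by decide +kernel) (by decide +kernel) (by decide +kernel)) hφ2,
        hcK, hj', TE6.extra.card_posJ (hG := TE6.good) (Jl := [2, 4]) (L := [e6p5, e6p3]) (by decide +kernel) (by decide +kernel) (by decide +kernel)]
      rfl
  have h := Dt.card_U TE6.extra TE6.braid hQ
  rw [pow_one, ← Dt.U_inf_T TE6.extra TE6.braid] at h
  rw [h]
  rfl

end E6

section D4

variable {K : Type*} [Field K] [Fintype K] {q : ℕ} (φ : K ≃+* K) (hφ : ∀ t, φ t = t ^ q) (hφ3 : ∀ t, φ (φ (φ t)) = t)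

include hφ hφ3 in
theorem d4_card_U (hq : 1 < q) (hK : Fintype.card K = q ^ 3) :
    Nat.card ↥(chevD4.posUnipotent K ⊓ twistedD4 K q) = q ^ 12 := by
  obtain ⟨Dt, e, hJ⟩ := d4_td φ hφ hφ3
  have hfix : Nat.card {t : K // φ t = t} = q := by
    have := CfsgLib.Tw.card_fixed_pow (F := K) hq hK
    rw [← this]
    simp only [hφ]
  have hcK : Nat.card K = q ^ 3 := by rw [Nat.card_eq_fintype_card, hK]
  have htwo : ∀ {r r' : ℕ}, r < chevD4.nroots → d4π r = r' → d4ε r = 1 → ∀ t : K, (tD4 φ).s (TD4.good.xG r t) = TD4.good.xG r' (φ t) := by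
    intro r r' hr h1 h2 t
    rw [tD4_s φ hr, h1, h2]
    simp
  have hQ : ∀ j, Nat.card ↥(((tD4 φ).base TD4.extra TD4.braid).Un (Dt.w TD4.extra TD4.braid j) ⊓ ((tD4 φ).base TD4.extra TD4.braid).Fx) ^ 1 =
      q ^ (posJ chevD4 TD4.cert (Dt.J j)).card := by
    intro j
    have hj := hJ j
    generalize e j = i at hj
    rw [pow_one]
    fin_cases i
    · have hj' : Dt.J j = {i | i ∈ [1]} := hj
      rw [Dt.card_X_one TD4.extra TD4.braid j hj' (r := d4p2) (by decide +kernel) (by decide +kernel) (by decide +kernel) (g := φ) (htwo (by decide +kernel) (by decide +kernel) (by decide +kernel)),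
        hfix, hj', TD4.extra.card_posJ (hG := TD4.good) (Jl := [1]) (L := [d4p2]) (by decide +kernel) (by decide +kernel) (by decide +kernel)]
      exact (pow_one q).symm
    · have hj' : Dt.J j = {i | i ∈ [0, 2, 3]} := hj
      rw [Dt.card_X_three TD4.extra TD4.braid j hj' (a := d4p4) (b := d4p3) (c := d4p1) (by decide +kernel) (by decide +kernel) (by decide +kernel) (by decide +kernel) (by decide +kernel) (by decide +kernel) (by decide +kernel) (by decide +kernel) (by decide +kernel)
        (fun s t => TD4.good.x_comm (by decide +kernel) (by decide +kernel) (by decide +kernel) (by decide +kernel) (by decide +kernel) t s)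
        (fun s t => TD4.good.x_comm (by decide +kernel) (by decide +kernel) (by decide +kernel) (by decide +kernel) (by decide +kernel) t s)
        (fun s t => TD4.good.x_comm (by decide +kernel) (by decide +kernel) (by decide +kernel) (by decide +kernel) (by decide +kernel) t s)
        (g := φ) (htwo (by decide +kernel) (by decide +kernel) (by decide +kernel)) (htwo (by decide +kernel) (by decide +kernel) (by decide +kernel)) (htwo (by decide +kernel) (by decide +kernel) (by decide +kernel)) hφ3,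
        hcK, hj', TD4.extra.card_posJ (hG := TD4.good) (Jl := [0, 2, 3]) (L := [d4p4, d4p3, d4p1]) (by decide +kernel) (by decide +kernel) (by decide +kernel)]
      rfl
  have h := Dt.card_U TD4.extra TD4.braid hQ
  rw [pow_one, ← Dt.U_inf_T TD4.extra TD4.braid] at h
  rw [h]
  rfl

end D4

section F4

variable {K : Type*} [Field K] [Fintype K] [CharP K 2] (hperf : ∀ x : K, ∃ y : K, y ^ 2 = x) (φ : K ≃+* K) (hφ2 : ∀ t, (φ (φ t)) ^ 2 = t)
  {e : ℕ} (hφ : ∀ t, φ t = t ^ e)

local notation "X" => TF4.good.xG (F := K)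

include hperf hφ hφ2 in
theorem f4_card_U : Nat.card ↥(chevF4.posUnipotent K ⊓ twistedF4 K e) = (Nat.card K) ^ 12 := by
  obtain ⟨Dt, e', hJ⟩ := f4_td hperf φ hφ2 hφ
  have hQ : ∀ j, Nat.card ↥(((tF4 hperf φ).base TF4.extra TF4.braid).Un (Dt.w TF4.extra TF4.braid j) ⊓ ((tF4 hperf φ).base TF4.extra TF4.braid).Fx) ^ 2 =
      (Nat.card K) ^ (posJ chevF4 TF4.cert (Dt.J j)).card := by
    intro j
    have hj := hJ j
    generalize e' j = i at hj
    fin_cases i
    · have hj' : Dt.J j = {i | i ∈ [0, 3]} := hj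
      rw [Dt.card_X_two TF4.extra TF4.braid j hj' (a := f4p4) (b := f4p1) (by decide +kernel) (by decide +kernel) (by decide +kernel) (by decide +kernel) (by decide +kernel) (by decide +kernel)
        f4_comm_14 (g := φ) (g' := fun t => (φ t) ^ 2) (fun t => by
          rw [tF4_s hperf φ (by decide +kernel)]
          have e2 : gfF4.ρ f4p4 = f4p1 := by decide +kernel
          have l2 : gfF4.lam f4p4 = 1 := by decide +kernel
          rw [e2, l2, pow_one]) (fun t => by
          rw [tF4_s hperf φ (by decide +kernel)]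
          have e2 : gfF4.ρ f4p1 = f4p4 := by decide +kernel
          have l2 : gfF4.lam f4p1 = 2 := by decide +kernel
          rw [e2, l2]) hφ2,
        hj', TF4.extra.card_posJ (hG := TF4.good) (Jl := [0, 3]) (L := [f4p4, f4p1]) (by decide +kernel) (by decide +kernel) (by decide +kernel)]
      rfl
    · have hj' : Dt.J j = {i | i ∈ [1, 2]} := hj
      have h1 : Nat.card ↥(((tF4 hperf φ).base TF4.extra TF4.braid).Un (Dt.w TF4.extra TF4.braid j) ⊓ ((tF4 hperf φ).base TF4.extra TF4.braid).Fx) = Nat.card (K × K) := by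
        apply CfsgLib.Tw.card_of_param _ (fun p : K × K => f4N p.1 (φ p.1) p.2 (p.1 * (φ p.1) ^ 2 + (φ p.2) ^ 2))
        · rintro ⟨t, u⟩ ⟨t', u'⟩ h
          obtain ⟨h1, -, h3, -⟩ := f4N_inj h
          exact Prod.ext h1 h3
        · intro x
          rw [Dt.mem_X_iff TF4.extra TF4.braid j, hj']
          constructor
          · rintro ⟨hx, hs⟩
            obtain ⟨τ, rfl⟩ := TF4.extra.Xp_prodL TF4.good (Jl := [1, 2]) (L := [f4b, f4a, f4ab, f4aab]) (by decide +kernel) (by decide +kernel) (by decide +kernel) hx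
            rw [f4N_eq_prodL] at hs ⊢
            rw [f4_s_N] at hs
            obtain ⟨h1, h2, h3, h4⟩ := f4N_inj hs
            have h6 : τ f4aab = τ f4b * (φ (τ f4b)) ^ 2 + (φ (τ f4ab)) ^ 2 := by
              rw [← h4, ← h2, hφ2]
            refine ⟨(τ f4b, τ f4ab), ?_⟩
            simp only
            rw [h6, ← h2]
          · rintro ⟨⟨t, u⟩, rfl⟩
            simp only
            rw [← f4_word_eq φ hφ]
            refine ⟨?_, f4_class_fix hperf φ hφ2 hφ t u⟩
            rw [f4_word_eq φ hφ]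
            have hL : ∀ r ∈ [f4b, f4a, f4ab, f4aab], ∀ k < chevF4.rank, k ∉ [1, 2] → TF4.cert.coef r k = 0 := by decide +kernel
            exact mul_mem (mul_mem (TF4.extra.x_mem_Xp TF4.good (by decide +kernel) (by decide +kernel) (hL _ (by simp)) _) (TF4.extra.x_mem_Xp TF4.good (by decide +kernel) (by decide +kernel) (hL _ (by simp)) _))
              (mul_mem (TF4.extra.x_mem_Xp TF4.good (by decide +kernel) (by decide +kernel) (hL _ (by simp)) _) (TF4.extra.x_mem_Xp TF4.good (by decide +kernel) (by decide +kernel) (hL _ (by simp)) _))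
      rw [h1, Nat.card_prod, hj', TF4.extra.card_posJ (hG := TF4.good) (Jl := [1, 2]) (L := [f4b, f4a, f4ab, f4aab]) (by decide +kernel) (by decide +kernel) (by decide +kernel)]
      show (Nat.card K * Nat.card K) ^ 2 = (Nat.card K) ^ 4
      ring
  have h := Dt.card_U TF4.extra TF4.braid hQ
  rw [← Dt.U_inf_T TF4.extra TF4.braid] at h
  have e2 : chevF4.nroots - chevF4.nroots / 2 = 12 * 2 := by decide +kernel
  rw [e2, pow_mul] at h
  exact Nat.pow_left_injective (n := 2) (by norm_num) h

end F4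

section G2

variable {K : Type*} [Field K] [Fintype K] [CharP K 3] (hperf : ∀ x : K, ∃ y : K, y ^ 3 = x) (φ : K ≃+* K) (hφ2 : ∀ t, (φ (φ t)) ^ 3 = t)
  {e : ℕ} (hφ : ∀ t, φ t = t ^ e)

include hperf hφ hφ2 in
/-- The elements of `U¹` for `²G₂`. -/
theorem g2_mem_U {g : GL chevG2.Idx K} : g ∈ chevG2.posUnipotent K ⊓ twistedG2 K e ↔ ∃ t u v : K, g = TG2.good.wordG (reeWordU e t u v) := by
  obtain ⟨Dt, e', hJ⟩ := g2_td hperf φ hφ2 hφ
  rw [Dt.U_inf_T TG2.extra TG2.braid]
  constructor
  · intro hg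
    obtain ⟨hgU, -, hs⟩ := Subgroup.mem_inf.1 hg
    have hx : g ∈ TG2.good.Xp K (fun r => lamJ TG2.cert chevG2.rank {i | i ∈ [0, 1]} r = 0) := by
      obtain ⟨j⟩ : Nonempty Dt.ι := ⟨e'.symm 0⟩
      have hv : chevG2.posUnipotent K ≤ TG2.good.Xp K (fun r => True) := by
        rw [TG2.good.posUnipotent_eq]
        apply (Subgroup.closure_le _).2
        rintro _ ⟨r, hr, t, rfl⟩
        exact Subgroup.subset_closure ⟨r, t, hr.1, (TG2.extra.posIff r hr.1).1 hr, trivial, rfl⟩
      have h2 : TG2.good.Xp K (fun r => True) ≤ TG2.good.Xp K (fun r => lamJ TG2.cert chevG2.rank {i | i ∈ [0, 1]} r = 0) := by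
        apply TG2.good.Xp_mono
        intro r hr _ _
        classical
        unfold lamJ
        apply Finset.sum_eq_zero
        intro k _
        rw [if_pos]
        have : ∀ k < chevG2.rank, k ∈ [0, 1] := by decide +kernel
        exact this k k.2
      exact h2 (hv hgU)
    obtain ⟨τ, rfl⟩ := TG2.extra.Xp_prodL TG2.good (Jl := [0, 1]) (L := [g2b, g2a, g2ab, g2aab, g2aaab, g2aaabb]) (by decide +kernel) (by decide +kernel) (by decide +kernel) hx
    have hs' : (tG2 hperf φ).s (TG2.good.prodL [g2b, g2a, g2ab, g2aab, g2aaab, g2aaabb] τ) = TG2.good.prodL [g2b, g2a, g2ab, g2aab, g2aaab, g2aaabb] τ := hs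
    rw [g2N_eq_prodL] at hs' ⊢
    rw [g2_s_N] at hs'
    obtain ⟨h1, h2, h3, h4, h5, h6⟩ := g2N_inj hs'
    refine ⟨τ g2b, (φ (τ g2ab)) ^ 3, (φ (τ g2aab)) ^ 3, ?_⟩
    rw [g2_word_eq φ hφ]
    simp only [map_pow, hφ2]
    have e5 : τ g2aaab = τ g2b * (φ (τ g2b)) ^ 3 + (φ (τ g2ab)) ^ 3 := by
      rw [← h5, h1]
      ring
    have e6 : τ g2aaabb = (τ g2b) ^ 2 * (φ (τ g2b)) ^ 3 + (φ (τ g2aab)) ^ 3 := by
      rw [← h6, h1]
      ring
    rw [e5, e6, ← h2]
  · rintro ⟨t, u, v, rfl⟩
    have hp : ∀ r ∈ [g2b, g2a, g2ab, g2aab, g2aaab, g2aaabb], chevG2.nroots / 2 ≤ r ∧ r < chevG2.nroots := by decide +kernel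
    have hU : ∀ r ∈ [g2b, g2a, g2ab, g2aab, g2aaab, g2aaabb], ∀ x : K, TG2.good.xG r x ∈ chevG2.posUnipotent K := fun r hr x =>
      TG2.good.posUnipotent_mem ((TG2.extra.posIff r (hp r hr).2).2 (hp r hr).1) x
    refine Subgroup.mem_inf.2 ⟨?_, ?_, ?_⟩
    · rw [g2_word_eq φ hφ]
      exact mul_mem (mul_mem (hU _ (by simp) _) (hU _ (by simp) _)) (mul_mem (hU _ (by simp) _) (mul_mem (hU _ (by simp) _) (mul_mem (hU _ (by simp) _) (hU _ (by simp) _))))
    · exact TG2.good.mem_group_of_word (g2Word_lt t u v) (TG2.good.wordG_val _)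
    · exact g2_word_fix hperf φ hφ2 hφ t u v

include hperf hφ hφ2 in
/-- The order of `U¹` for `²G₂`. -/
theorem g2_card_U : Nat.card ↥(chevG2.posUnipotent K ⊓ twistedG2 K e) = (Nat.card K) ^ 3 := by
  have h : Nat.card ↥(chevG2.posUnipotent K ⊓ twistedG2 K e) = Nat.card (K × K × K) := by
    apply CfsgLib.Tw.card_of_param _ (fun p : K × K × K => TG2.good.wordG (reeWordU e p.1 p.2.1 p.2.2))
    · rintro ⟨t, u, v⟩ ⟨t', u', v'⟩ h
      simp only [g2_word_eq φ hφ] at h
      obtain ⟨h1, -, h3, h4, -, -⟩ := g2N_inj h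
      have h5 := φ.injective h3
      have h6 := φ.injective h4
      rw [h1, h5, h6]
    · intro x
      rw [g2_mem_U hperf φ hφ2 hφ]
      constructor
      · rintro ⟨t, u, v, rfl⟩
        exact ⟨(t, u, v), rfl⟩
      · rintro ⟨⟨t, u, v⟩, rfl⟩
        exact ⟨t, u, v, rfl⟩
  rw [h, Nat.card_prod, Nat.card_prod]
  ring

end G2

end CfsgLib.Chev
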