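/-
The normal core of the Borel subgroup of a twisted group.
-/
import Cfsg.Agent.Lib.Tw.Uni

set_option autoImplicit false
set_option synthInstance.maxHeartbeats 400000
set_option synthInstance.maxSize 1024

namespace CfsgLib.Chev

open Cfsg.Lie Cfsg.Lie.ChevalleyDatum CfsgLib.BN

/-- The field automorphism for `²E₆`. -/
theorem exists_phi2 {K : Type*} [Field K] [Fintype K] {q : ℕ} (hq : IsPrimePow q) (hK : Fintype.card K = q ^ 2) :
    ∃ φ : K ≃+* K, (∀ t, φ t = t ^ q) ∧ ∀ t, φ (φ t) = t := by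
  obtain ⟨φ, hφ⟩ := exists_frobQ hq (by norm_num) hK
  refine ⟨φ, hφ, fun t => ?_⟩
  rw [hφ, hφ, ← pow_mul, ← pow_two, ← hK]
  exact FiniteField.pow_card t

/-- The field automorphism for `³D₄`. -/
theorem exists_phi3 {K : Type*} [Field K] [Fintype K] {q : ℕ} (hq : IsPrimePow q) (hK : Fintype.card K = q ^ 3) :
    ∃ φ : K ≃+* K, (∀ t, φ t = t ^ q) ∧ ∀ t, φ (φ (φ t)) = t := by
  obtain ⟨φ, hφ⟩ := exists_frobQ hq (by norm_num) hK
  refine ⟨φ, hφ, fun t => ?_⟩
  rw [hφ, hφ, hφ, ← pow_mul, ← pow_mul]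
  have e : q * (q * q) = Fintype.card K := by
    rw [hK]
    ring
  rw [e]
  exact FiniteField.pow_card t

section gen

variable {D : ChevalleyDatum} {C : Cert} (hG : Good D C) {K : Type*} [Field K] (hE : Extra D C)

include hG hE in
/-- An element of `H` which is trivial on the simple roots is trivial. -/
lemma Extra.eq_one_of_simple {h : GL D.Idx K} (hh : h ∈ D.diagonalSubgroup K) {d : Fin D.nroots → K} (hd : IsMono hG h 1 d)
    (h1 : ∀ (i : ℕ) (hi : i < D.rank), d ⟨D.simple i, hG.simple_lt hi⟩ = 1) : h = 1 := by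
  obtain ⟨c, hc⟩ := hE.torusHom_surjective hG (F := K) ⟨h, hh⟩
  have h2 : hE.torusHom hG K c = 1 := by
    rw [hE.torusHom_eq_one_iff hG]
    intro j
    have hm := hE.isMono_prodH hG (c := extU D c) (fun i _ => extU_ne c i)
    have e : hG.prodH (extU D c) = h := congrArg Subtype.val hc
    rw [e] at hm
    have e2 := hm.d_unique hd
    have e3 := hE.dProd_extU hG c ⟨_, hG.simple_lt j.2⟩
    rw [e2, h1 j j.2] at e3
    exact Units.ext (by rw [← e3, Units.val_one])
  rw [h2] at hc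
  exact (congrArg Subtype.val hc).symm

include hG hE in
/-- Conjugating a product of root elements by an element of `H`. -/
lemma Extra.conj_prodL {h : GL D.Idx K} {d : Fin D.nroots → K} (hd : IsMono hG h 1 d) (L : List ℕ) (hL : ∀ r ∈ L, r < D.nroots) (τ : ℕ → K) :
    h * hG.prodL L τ * h⁻¹ = hG.prodL L (fun r => if hr : r < D.nroots then d ⟨r, hr⟩ * τ r else τ r) := by
  induction L with
  | nil =>
    rw [hG.prodL_nil, hG.prodL_nil]
    group
  | cons a L ih =>
    have e1 : h * (hG.xG a (τ a) * hG.prodL L τ) * h⁻¹ = (h * hG.xG a (τ a) * h⁻¹) * (h * hG.prodL L τ * h⁻¹) := by group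
    have ha := hL a (List.mem_cons_self ..)
    rw [hG.prodL_cons, e1, ih (fun r hr => hL r (List.mem_cons_of_mem _ hr)), hG.prodL_cons]
    have h2 := hd.conj ⟨a, ha⟩ (τ a)
    rw [h2]
    simp only [Equiv.Perm.one_apply]
    rw [dif_pos ha]

end gen

section

variable {D : ChevalleyDatum} {C : Cert} {hG : Good D C} {K : Type*} [Field K] {A : TwAct hG K} {T : Subgroup (GL D.Idx K)}

/-- The normal core of the Borel subgroup of a twisted group is trivial. -/
theorem TwData.core_eq_bot (Dt : TwData A T) (hE : Extra D C) (hB : Braid D C)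
    (hX : ∀ (i : ℕ), i < D.rank → ∃ (L : List ℕ) (τ : ℕ → K), L.Pairwise (· < ·) ∧ (∀ r ∈ L, D.nroots / 2 ≤ r ∧ r < D.nroots) ∧ D.simple i ∈ L ∧ τ (D.simple i) ≠ 0 ∧ hG.prodL L τ ∈ T) :
    ((D.borelSubgroup K ⊓ T).subgroupOf T).normalCore = ⊥ := by
  rw [eq_bot_iff]
  intro x hx
  obtain ⟨n, hnN, hnT, hn⟩ := Dt.long_field hE hB
  have hcore : ∀ y : ↥T, y ∈ ((D.borelSubgroup K ⊓ T).subgroupOf T).normalCore → (y : GL D.Idx K) ∈ D.diagonalSubgroup K := by
    intro y hy
    have hy' : ∀ b : ↥T, b * y * b⁻¹ ∈ (D.borelSubgroup K ⊓ T).subgroupOf T := hy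
    have h1 : (y : GL D.Idx K) ∈ D.borelSubgroup K := by
      have := hy' 1
      rw [Subgroup.mem_subgroupOf] at this
      have h2 := (Subgroup.mem_inf.1 this).1
      simpa using h2
    have h2 : n⁻¹ * y * n ∈ D.borelSubgroup K := by
      have := hy' ⟨n⁻¹, inv_mem hnT⟩
      rw [Subgroup.mem_subgroupOf] at this
      have h2 := (Subgroup.mem_inf.1 this).1
      simpa using h2
    have h3 : ∀ b ∈ D.borelSubgroup K, n * b * n⁻¹ ∈ D.negUnipotent K ⊔ D.diagonalSubgroup K := by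
      intro b hb
      unfold ChevalleyDatum.borelSubgroup at hb
      rw [mem_sup_of_le_normalizer (hE.diagonal_normalizes_unipotent hG).1] at hb
      obtain ⟨u, hu, h, hh, rfl⟩ := hb
      have e : n * (u * h) * n⁻¹ = (n * u * n⁻¹) * (n * h * n⁻¹) := by group
      rw [e]
      apply Subgroup.mul_mem
      · exact Subgroup.mem_sup_left (hn u hu)
      · exact Subgroup.mem_sup_right (hE.diagonal_conj hG hnN hh)
    have h4 : (y : GL D.Idx K) ∈ D.negUnipotent K ⊔ D.diagonalSubgroup K := by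
      have := h3 _ h2
      have e : n * (n⁻¹ * y * n) * n⁻¹ = y := by group
      rwa [e] at this
    have h5 : (y : GL D.Idx K) ∈ D.borelSubgroup K ⊓ (D.negUnipotent K ⊔ D.diagonalSubgroup K) :=
      Subgroup.mem_inf.2 ⟨h1, h4⟩
    rwa [hE.borel_inf_negBorel hG] at h5
  have hxH := hcore x hx
  obtain ⟨_, d, hd⟩ := hG.diagonal_le_KK hxH
  have hnorm := Subgroup.normalCore_normal ((D.borelSubgroup K ⊓ T).subgroupOf T)
  have key : ∀ (i : ℕ) (hi : i < D.rank), d ⟨D.simple i, hG.simple_lt hi⟩ = 1 := by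
    intro i hi
    obtain ⟨L, τ, hnd, hL, hs, hτ, hmem⟩ := hX i hi
    let k : ↥T := ⟨hG.prodL L τ, hmem⟩
    have hkU : hG.prodL L τ ∈ D.posUnipotent K := by
      apply hG.prodL_mem
      intro r hr t
      exact hG.posUnipotent_mem ((hE.posIff r (hL r hr).2).2 (hL r hr).1) t
    have hy : k * x * k⁻¹ * x⁻¹ ∈ ((D.borelSubgroup K ⊓ T).subgroupOf T).normalCore :=
      Subgroup.mul_mem _ (hnorm.conj_mem x hx k) (Subgroup.inv_mem _ hx)
    have hyH := hcore _ hy
    have e : ((k * x * k⁻¹ * x⁻¹ : ↥T) : GL D.Idx K) = hG.prodL L τ * ((x : GL D.Idx K) * (hG.prodL L τ)⁻¹ * (x : GL D.Idx K)⁻¹) := by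
      show hG.prodL L τ * x.val * (hG.prodL L τ)⁻¹ * (x.val)⁻¹ = _
      group
    have hyU : ((k * x * k⁻¹ * x⁻¹ : ↥T) : GL D.Idx K) ∈ D.posUnipotent K := by
      rw [e]
      exact mul_mem hkU (hE.H_U hG hxH (inv_mem hkU))
    have h1 := hE.U_H hG hyU hyH
    rw [e] at h1
    have h2 : (x : GL D.Idx K) * hG.prodL L τ * (x : GL D.Idx K)⁻¹ = hG.prodL L τ := by
      have h3 := eq_inv_of_mul_eq_one_right h1
      have e2 : (x : GL D.Idx K) * (hG.prodL L τ)⁻¹ * (x : GL D.Idx K)⁻¹ = ((x : GL D.Idx K) * hG.prodL L τ * (x : GL D.Idx K)⁻¹)⁻¹ := by group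
      rw [e2] at h3
      exact inv_inj.1 h3
    rw [hE.conj_prodL hG hd L (fun r hr => (hL r hr).2)] at h2
    have h3 := hE.prodL_injective hG hnd hL _ _ h2 (D.simple i) hs
    rw [dif_pos (hG.simple_lt hi)] at h3
    exact mul_right_cancel₀ hτ (by rw [h3, one_mul])
  have := hE.eq_one_of_simple hG hxH hd key
  exact Subgroup.mem_bot.2 (Subtype.ext this)

end

section inst

variable {K : Type*} [Field K]

section E6

variable {q : ℕ} (φ : K ≃+* K) (hφ : ∀ t, φ t = t ^ q) (hφ2 : ∀ t, φ (φ t) = t)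

include hφ hφ2 in
theorem e6_core : ((chevE6.borelSubgroup K ⊓ twistedE6 K q).subgroupOf (twistedE6 K q)).normalCore = ⊥ := by
  obtain ⟨Dt, -, -⟩ := e6_td φ hφ hφ2
  apply Dt.core_eq_bot TE6.extra TE6.braid
  intro i hi
  have hone : ∀ r ∈ [e6p2, e6m2, e6p4, e6m4], TE6.good.prodL [r] (fun _ => (1 : K)) ∈ twistedE6 K q := by
    intro r hr
    have h3 : TE6.good.wordG [(r, (1 : K))] ∈ twistedE6 K q :=
      TE6.good.wordG_mem_gen (Or.inl ⟨1, by simp, r, hr, rfl⟩)
    simpa [Good.wordG, TE6.good.prodL_cons, TE6.good.prodL_nil] using h3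
  have htwo : ∀ r ∈ [(e6p1, e6p6), (e6p3, e6p5)], TE6.good.prodL [r.2, r.1] (fun _ => (1 : K)) ∈ twistedE6 K q := by
    intro r hr
    have h5 : TE6.good.wordG [(r.1, (1 : K)), (r.2, (1 : K) ^ q)] ∈ twistedE6 K q :=
      TE6.good.wordG_mem_gen (Or.inr ⟨1, r, by
        simp only [List.mem_cons, List.not_mem_nil, or_false] at hr ⊢
        tauto, rfl⟩)
    have hc : TE6.good.xG r.2 (1 : K) * TE6.good.xG r.1 (1 : K) = TE6.good.xG r.1 (1 : K) * TE6.good.xG r.2 (1 : K) := by
      simp only [List.mem_cons, List.not_mem_nil, or_false] at hr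
      rcases hr with rfl | rfl
      all_goals
        exact TE6.good.x_comm (by decide +kernel) (by decide +kernel) (by decide +kernel) (by decide +kernel) (by decide +kernel) 1 1
    simpa [Good.wordG, TE6.good.prodL_cons, TE6.good.prodL_nil, hc] using h5
  have hi' : i < 6 := hi
  interval_cases i
  · exact ⟨[e6p6, e6p1], fun _ => 1, by decide +kernel, by decide +kernel, by decide +kernel, one_ne_zero, htwo (e6p1, e6p6) (by simp)⟩
  · exact ⟨[e6p2], fun _ => 1, by decide +kernel, by decide +kernel, by decide +kernel, one_ne_zero, hone e6p2 (by simp)⟩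
  · exact ⟨[e6p5, e6p3], fun _ => 1, by decide +kernel, by decide +kernel, by decide +kernel, one_ne_zero, htwo (e6p3, e6p5) (by simp)⟩
  · exact ⟨[e6p4], fun _ => 1, by decide +kernel, by decide +kernel, by decide +kernel, one_ne_zero, hone e6p4 (by simp)⟩
  · exact ⟨[e6p5, e6p3], fun _ => 1, by decide +kernel, by decide +kernel, by decide +kernel, one_ne_zero, htwo (e6p3, e6p5) (by simp)⟩
  · exact ⟨[e6p6, e6p1], fun _ => 1, by decide +kernel, by decide +kernel, by decide +kernel, one_ne_zero, htwo (e6p1, e6p6) (by simp)⟩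

end E6

section D4

variable {q : ℕ} (φ : K ≃+* K) (hφ : ∀ t, φ t = t ^ q) (hφ3 : ∀ t, φ (φ (φ t)) = t)

include hφ hφ3 in
theorem d4_core : ((chevD4.borelSubgroup K ⊓ twistedD4 K q).subgroupOf (twistedD4 K q)).normalCore = ⊥ := by
  obtain ⟨Dt, -, -⟩ := d4_td φ hφ hφ3
  apply Dt.core_eq_bot TD4.extra TD4.braid
  intro i hi
  have hone : TD4.good.prodL [d4p2] (fun _ => (1 : K)) ∈ twistedD4 K q := by
    have h3 : TD4.good.wordG [(d4p2, (1 : K))] ∈ twistedD4 K q :=
      TD4.good.wordG_mem_gen (Or.inl ⟨1, by simp, d4p2, by simp, rfl⟩)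
    simpa [Good.wordG, TD4.good.prodL_cons, TD4.good.prodL_nil] using h3
  have htwo : TD4.good.prodL [d4p4, d4p3, d4p1] (fun _ => (1 : K)) ∈ twistedD4 K q := by
    have h5 : TD4.good.wordG [(d4p1, (1 : K)), (d4p3, (1 : K) ^ q), (d4p4, (1 : K) ^ (q ^ 2))] ∈ twistedD4 K q :=
      TD4.good.wordG_mem_gen (Or.inr ⟨1, (d4p1, d4p3, d4p4), by simp, rfl⟩)
    have hc1 : TD4.good.xG d4p1 (1 : K) * TD4.good.xG d4p4 (1 : K) = TD4.good.xG d4p4 (1 : K) * TD4.good.xG d4p1 (1 : K) :=
      TD4.good.x_comm (by decide +kernel) (by decide +kernel) (by decide +kernel) (by decide +kernel) (by decide +kernel) 1 1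
    have hc2 : TD4.good.xG d4p1 (1 : K) * TD4.good.xG d4p3 (1 : K) = TD4.good.xG d4p3 (1 : K) * TD4.good.xG d4p1 (1 : K) :=
      TD4.good.x_comm (by decide +kernel) (by decide +kernel) (by decide +kernel) (by decide +kernel) (by decide +kernel) 1 1
    have hc3 : TD4.good.xG d4p3 (1 : K) * TD4.good.xG d4p4 (1 : K) = TD4.good.xG d4p4 (1 : K) * TD4.good.xG d4p3 (1 : K) :=
      TD4.good.x_comm (by decide +kernel) (by decide +kernel) (by decide +kernel) (by decide +kernel) (by decide +kernel) 1 1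
    have e : TD4.good.prodL [d4p4, d4p3, d4p1] (fun _ => (1 : K)) = TD4.good.wordG [(d4p1, (1 : K)), (d4p3, (1 : K) ^ q), (d4p4, (1 : K) ^ (q ^ 2))] := by
      simp only [Good.wordG, List.map_cons, List.map_nil, List.prod_cons, List.prod_nil, mul_one, one_pow, TD4.good.prodL_cons, TD4.good.prodL_nil]
      rw [← hc2, ← mul_assoc (TD4.good.xG d4p4 _) (TD4.good.xG d4p1 _), ← hc1, mul_assoc (TD4.good.xG d4p1 _) (TD4.good.xG d4p4 _), ← hc3]
    rw [e]
    exact h5
  have hi' : i < 4 := hi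
  interval_cases i
  · exact ⟨[d4p4, d4p3, d4p1], fun _ => 1, by decide +kernel, by decide +kernel, by decide +kernel, one_ne_zero, htwo⟩
  · exact ⟨[d4p2], fun _ => 1, by decide +kernel, by decide +kernel, by decide +kernel, one_ne_zero, hone⟩
  · exact ⟨[d4p4, d4p3, d4p1], fun _ => 1, by decide +kernel, by decide +kernel, by decide +kernel, one_ne_zero, htwo⟩
  · exact ⟨[d4p4, d4p3, d4p1], fun _ => 1, by decide +kernel, by decide +kernel, by decide +kernel, one_ne_zero, htwo⟩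

end D4

section F4

variable [CharP K 2] (hperf : ∀ x : K, ∃ y : K, y ^ 2 = x) (φ : K ≃+* K) (hφ2 : ∀ t, (φ (φ t)) ^ 2 = t)
  {e : ℕ} (hφ : ∀ t, φ t = t ^ e)

include hperf hφ hφ2 in
theorem f4_core : ((chevF4.borelSubgroup K ⊓ twistedF4 K e).subgroupOf (twistedF4 K e)).normalCore = ⊥ := by
  obtain ⟨Dt, -, -⟩ := f4_td hperf φ hφ2 hφ
  apply Dt.core_eq_bot TF4.extra TF4.braid
  intro i hi
  have hP : TF4.good.prodL [f4p4, f4p1] (fun _ => (1 : K)) ∈ twistedF4 K e := by
    have h5 : TF4.good.wordG (f4PairWord e f4p1 f4p4 (1 : K)) ∈ twistedF4 K e := TF4.good.wordG_mem_gen (Or.inl ⟨1, Or.inl rfl⟩)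
    have e1 : TF4.good.wordG (f4PairWord e f4p1 f4p4 (1 : K)) = TF4.good.prodL [f4p4, f4p1] (fun _ => (1 : K)) := by
      simp only [f4PairWord, Good.wordG, List.map_cons, List.map_nil, List.prod_cons, List.prod_nil, mul_one, one_pow, TF4.good.prodL_cons, TF4.good.prodL_nil]
      exact f4_comm_14 _ _
    rwa [e1] at h5
  have hQ : TF4.good.prodL [f4b, f4a, f4ab, f4aab] (fun r => if r = f4ab then 0 else (1 : K)) ∈ twistedF4 K e := by
    have h5 : TF4.good.wordG (b2ClassWord e f4a f4b f4ab f4aab (1 : K) 0) ∈ twistedF4 K e := TF4.good.wordG_mem_gen (Or.inr ⟨1, 0, Or.inl rfl⟩)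
    rw [f4_word_eq φ hφ] at h5
    rw [f4N_eq_prodL]
    have e1 : f4b ≠ f4ab := by decide
    have e2 : f4a ≠ f4ab := by decide
    have e3 : f4aab ≠ f4ab := by decide
    simp only [if_true, if_neg e1, if_neg e2, if_neg e3]
    simpa using h5
  have hi' : i < 4 := hi
  interval_cases i
  · exact ⟨[f4p4, f4p1], fun _ => 1, by decide +kernel, by decide +kernel, by decide +kernel, one_ne_zero, hP⟩
  · refine ⟨[f4b, f4a, f4ab, f4aab], _, by decide +kernel, by decide +kernel, by decide +kernel, ?_, hQ⟩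
    have e1 : chevF4.simple 1 = f4a := by decide +kernel
    have e2 : f4a ≠ f4ab := by decide
    rw [e1, if_neg e2]
    exact one_ne_zero
  · refine ⟨[f4b, f4a, f4ab, f4aab], _, by decide +kernel, by decide +kernel, by decide +kernel, ?_, hQ⟩
    have e1 : chevF4.simple 2 = f4b := by decide +kernel
    have e2 : f4b ≠ f4ab := by decide
    rw [e1, if_neg e2]
    exact one_ne_zero
  · exact ⟨[f4p4, f4p1], fun _ => 1, by decide +kernel, by decide +kernel, by decide +kernel, one_ne_zero, hP⟩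

end F4

section G2

variable [CharP K 3] (hperf : ∀ x : K, ∃ y : K, y ^ 3 = x) (φ : K ≃+* K) (hφ2 : ∀ t, (φ (φ t)) ^ 3 = t)
  {e : ℕ} (hφ : ∀ t, φ t = t ^ e)

include hperf hφ hφ2 in
theorem g2_core : ((chevG2.borelSubgroup K ⊓ twistedG2 K e).subgroupOf (twistedG2 K e)).normalCore = ⊥ := by
  obtain ⟨Dt, -, -⟩ := g2_td hperf φ hφ2 hφ
  apply Dt.core_eq_bot TG2.extra TG2.braid
  intro i hi
  have hQ : TG2.good.prodL [g2b, g2a, g2ab, g2aab, g2aaab, g2aaabb] (fun r => if r = g2ab ∨ r = g2aab then 0 else (1 : K)) ∈ twistedG2 K e := by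
    have h5 : TG2.good.wordG (reeWordU e (1 : K) 0 0) ∈ twistedG2 K e := TG2.good.wordG_mem_gen ⟨1, 0, 0, Or.inl rfl⟩
    rw [g2_word_eq φ hφ] at h5
    rw [g2N_eq_prodL]
    have e1 : ¬ (g2b = g2ab ∨ g2b = g2aab) := by decide
    have e2 : ¬ (g2a = g2ab ∨ g2a = g2aab) := by decide
    have e3 : (g2ab = g2ab ∨ g2ab = g2aab) := by decide
    have e4 : (g2aab = g2ab ∨ g2aab = g2aab) := by decide
    have e5 : ¬ (g2aaab = g2ab ∨ g2aaab = g2aab) := by decide
    have e6 : ¬ (g2aaabb = g2ab ∨ g2aaabb = g2aab) := by decide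
    simp only [if_pos e3, if_pos e4, if_neg e1, if_neg e2, if_neg e5, if_neg e6]
    simpa using h5
  refine ⟨[g2b, g2a, g2ab, g2aab, g2aaab, g2aaabb], _, by decide +kernel, by decide +kernel, ?_, ?_, hQ⟩
  · have hi' : i < 2 := hi
    interval_cases i <;> decide +kernel
  · have hi' : i < 2 := hi
    interval_cases i
    · have e1 : chevG2.simple 0 = g2a := by decide +kernel
      have e2 : ¬ (g2a = g2ab ∨ g2a = g2aab) := by decide
      rw [e1, if_neg e2]
      exact one_ne_zero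
    · have e1 : chevG2.simple 1 = g2b := by decide +kernel
      have e2 : ¬ (g2b = g2ab ∨ g2b = g2aab) := by decide
      rw [e1, if_neg e2]
      exact one_ne_zero

end G2

end inst

end CfsgLib.Chev
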