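/-
The order of a twisted group from its canonical form.
-/
import Cfsg.Agent.Lib.Tw.CoreT

set_option autoImplicit false

namespace CfsgLib.Chev

open Cfsg.Lie Cfsg.Lie.ChevalleyDatum CfsgLib.BN

/-- The value of `lamJ` for a list. -/
lemma lamJ_list_iff {D : ChevalleyDatum} {C : Cert} (hG : Good D C) (hE : Extra D C) {Jl : List ℕ} {r : ℕ} (hr : r < D.nroots) :
    lamJ C D.rank {i | i ∈ Jl} r = 0 ↔ ∀ k < D.rank, k ∉ Jl → C.coef r k = 0 := by
  classical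
  constructor
  · intro h k hk hkJ
    exact hE.coef_zero_of_lam hG hr h hk hkJ
  · intro h
    unfold lamJ
    apply Finset.sum_eq_zero
    intro j _
    split_ifs with h3
    · rfl
    · exact h j j.2 h3

section

variable {D : ChevalleyDatum} {C : Cert} {hG : Good D C} {K : Type*} [Field K] {A : TwAct hG K} {T : Subgroup (GL D.Idx K)}

namespace TwData

variable (Dt : TwData A T) (hE : Extra D C) (hB : Braid D C)

include Dt in
/-- The canonical form. -/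
theorem card_T_sigma [Finite K] :
    letI : Fintype ↥(D.monomialSubgroup K ⊓ T) := Fintype.ofFinite _
    Nat.card ↥T = Nat.card ↥(D.posUnipotent K ⊓ T) *
      ∑ n : ↥(D.monomialSubgroup K ⊓ T), Nat.card ↥((A.base hE hB).Un (n : GL D.Idx K) ⊓ (A.base hE hB).Fx) := by
  letI : Fintype ↥(D.monomialSubgroup K ⊓ T) := Fintype.ofFinite _
  set S := A.base hE hB with hS
  set P := Dt.twist hE hB with hP
  have hUT : D.posUnipotent K ⊓ T = D.posUnipotent K ⊓ S.Fx := Dt.U_inf_T hE hB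
  haveI : ∀ n : ↥(D.monomialSubgroup K ⊓ T), Finite ↥(S.Un (n : GL D.Idx K) ⊓ S.Fx) := fun _ => inferInstance
  rw [← Nat.card_sigma, ← Nat.card_prod]
  symm
  have hmem : ∀ p : ↥(D.posUnipotent K ⊓ T) × (Σ n : ↥(D.monomialSubgroup K ⊓ T), ↥(S.Un (n : GL D.Idx K) ⊓ S.Fx)),
      (p.1 : GL D.Idx K) * (p.2.1 : GL D.Idx K) * (p.2.2 : GL D.Idx K) ∈ T := by
    rintro ⟨⟨a, ha⟩, ⟨⟨n, hn⟩, ⟨c, hc⟩⟩⟩
    have hc' := Subgroup.mem_inf.1 hc
    exact mul_mem (mul_mem (Subgroup.mem_inf.1 ha).2 (Subgroup.mem_inf.1 hn).2) (P.U_fixed_le (Subgroup.mem_inf.2 ⟨hc'.1.1, hc'.2⟩))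
  refine Nat.card_congr (Equiv.ofBijective (fun p => ⟨_, hmem p⟩) ⟨?_, ?_⟩)
  · rintro ⟨⟨a, ha⟩, ⟨⟨n, hn⟩, ⟨c, hc⟩⟩⟩ ⟨⟨a', ha'⟩, ⟨⟨n', hn'⟩, ⟨c', hc'⟩⟩⟩ e
    have e1 : a * n * c = a' * n' * c' := congrArg Subtype.val e
    have hc1 := Subgroup.mem_inf.1 hc
    have hc2 := Subgroup.mem_inf.1 hc'
    obtain ⟨h1, h2, h3⟩ := S.canonical_unique (Subgroup.mem_inf.1 ha).1 (Subgroup.mem_inf.1 ha').1 (Subgroup.mem_inf.1 hn).1 (Subgroup.mem_inf.1 hn').1 hc1.1.1 hc2.1.1 hc1.1.2 hc2.1.2 e1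
    subst h1 h2 h3
    rfl
  · rintro ⟨g, hg⟩
    obtain ⟨a, ha, n, hn, c, hc, e, hv⟩ := P.canonical hg
    refine ⟨⟨⟨a, by rw [hUT]; exact ha⟩, ⟨⟨n, hn⟩, ⟨c, Subgroup.mem_inf.2 ⟨⟨(Subgroup.mem_inf.1 hc).1, hv⟩, (Subgroup.mem_inf.1 hc).2⟩⟩⟩⟩, ?_⟩
    exact Subtype.ext e.symm

include hE hB in
/-- The elements of `N ∩ T` with the same permutation. -/
theorem card_fiber [Finite K] (τ : Equiv.Perm (Fin D.nroots)) (n₀ : ↥(D.monomialSubgroup K ⊓ T)) (h₀ : hG.permOf (n₀ : GL D.Idx K) = τ) :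
    letI : Fintype ↥(D.monomialSubgroup K ⊓ T) := Fintype.ofFinite _
    open Classical in
    (Finset.univ.filter fun n : ↥(D.monomialSubgroup K ⊓ T) => hG.permOf (n : GL D.Idx K) = τ).card = Nat.card ↥(D.diagonalSubgroup K ⊓ T) := by
  classical
  letI : Fintype ↥(D.monomialSubgroup K ⊓ T) := Fintype.ofFinite _
  have h1 : (Finset.univ.filter fun n : ↥(D.monomialSubgroup K ⊓ T) => hG.permOf (n : GL D.Idx K) = τ).card =
      Nat.card {n : ↥(D.monomialSubgroup K ⊓ T) // hG.permOf (n : GL D.Idx K) = τ} := by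
    rw [Nat.card_eq_fintype_card, Fintype.card_subtype]
  rw [h1]
  obtain ⟨τ', d, hi⟩ := hG.mono_of_mem_N hE (Subgroup.mem_inf.1 n₀.2).1
  have h2 : τ' = τ := by rw [← h₀, permOf_eq hi]
  subst h2
  symm
  have hmem : ∀ h : ↥(D.diagonalSubgroup K ⊓ T), (n₀ : GL D.Idx K) * (h : GL D.Idx K) ∈ D.monomialSubgroup K ⊓ T := by
    rintro ⟨h, hh⟩
    have hh' := Subgroup.mem_inf.1 hh
    exact Subgroup.mem_inf.2 ⟨mul_mem (Subgroup.mem_inf.1 n₀.2).1 (hG.diagonal_le_monomial hh'.1), mul_mem (Subgroup.mem_inf.1 n₀.2).2 hh'.2⟩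
  refine Nat.card_congr (Equiv.ofBijective (fun h => ⟨⟨_, hmem h⟩, ?_⟩) ⟨?_, ?_⟩)
  · obtain ⟨τ2, d2, hi2⟩ := hG.mono_of_mem_N hE (hG.diagonal_le_monomial (Subgroup.mem_inf.1 h.2).1)
    have h3 := hE.perm_of_H hG hB (Subgroup.mem_inf.1 h.2).1 hi2
    subst h3
    have h4 := hi.mul hi2
    rw [mul_one] at h4
    exact permOf_eq h4
  · rintro ⟨h, hh⟩ ⟨h', hh'⟩ e
    have e1 : (n₀ : GL D.Idx K) * h = n₀ * h' := congrArg (fun x => ((x : {n : ↥(D.monomialSubgroup K ⊓ T) // hG.permOf (n : GL D.Idx K) = τ'}).1 : GL D.Idx K)) e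
    exact Subtype.ext (mul_left_cancel e1)
  · rintro ⟨⟨n, hn⟩, hp⟩
    have hn' := Subgroup.mem_inf.1 hn
    obtain ⟨τ2, d2, hi2⟩ := hG.mono_of_mem_N hE hn'.1
    have h3 : τ2 = τ' := by
      rw [← hp]
      exact (permOf_eq hi2).symm
    subst h3
    have h4 := hi.inv.mul hi2
    rw [inv_mul_cancel] at h4
    have h5 : (n₀ : GL D.Idx K)⁻¹ * n ∈ D.diagonalSubgroup K :=
      hE.mem_H_of_perm hG hB (mul_mem (inv_mem (Subgroup.mem_inf.1 n₀.2).1) hn'.1) h4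
    refine ⟨⟨_, Subgroup.mem_inf.2 ⟨h5, mul_mem (inv_mem (Subgroup.mem_inf.1 n₀.2).2) hn'.2⟩⟩, ?_⟩
    apply Subtype.ext
    apply Subtype.ext
    show (n₀ : GL D.Idx K) * ((n₀ : GL D.Idx K)⁻¹ * n) = n
    group

open Classical in
/-- The permutations of the elements of `N ∩ T`. -/
noncomputable def W1 (_ : TwData A T) : Finset (Equiv.Perm (Fin D.nroots)) :=
  Finset.univ.filter fun τ => ∃ n ∈ D.monomialSubgroup K ⊓ T, hG.permOf n = τ

lemma mem_W1 {τ : Equiv.Perm (Fin D.nroots)} : τ ∈ Dt.W1 ↔ ∃ n ∈ D.monomialSubgroup K ⊓ T, hG.permOf n = τ := by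
  classical
  unfold W1
  simp

/-- The order of the group in terms of the orders of `U` and `H`. -/
theorem card_T [Finite K] (F : ℕ → ℕ)
    (hF : ∀ m ∈ D.monomialSubgroup K ⊓ T, Nat.card ↥((A.base hE hB).Un m ⊓ (A.base hE hB).Fx) = F (invN D (hG.permOf m))) :
    Nat.card ↥T = Nat.card ↥(D.posUnipotent K ⊓ T) * Nat.card ↥(D.diagonalSubgroup K ⊓ T) * ∑ τ ∈ Dt.W1, F (invN D τ) := by
  classical
  letI : Fintype ↥(D.monomialSubgroup K ⊓ T) := Fintype.ofFinite _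
  have h1 := Dt.card_T_sigma hE hB
  rw [h1, mul_assoc]
  congr 1
  have h2 : ∑ n : ↥(D.monomialSubgroup K ⊓ T), Nat.card ↥((A.base hE hB).Un (n : GL D.Idx K) ⊓ (A.base hE hB).Fx) =
      ∑ n : ↥(D.monomialSubgroup K ⊓ T), F (invN D (hG.permOf (n : GL D.Idx K))) :=
    Finset.sum_congr rfl fun n _ => hF _ n.2
  have h3 : ∀ n ∈ (Finset.univ : Finset ↥(D.monomialSubgroup K ⊓ T)), hG.permOf (n : GL D.Idx K) ∈ Dt.W1 := fun n _ =>
    (Dt.mem_W1).2 ⟨n, n.2, rfl⟩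
  rw [h2, ← Finset.sum_fiberwise_of_maps_to h3, Finset.mul_sum]
  apply Finset.sum_congr rfl
  intro τ hτ
  obtain ⟨n₀, hn₀, h₀⟩ := (Dt.mem_W1).1 hτ
  have h4 := TwData.card_fiber (hG := hG) (T := T) hE hB τ ⟨n₀, hn₀⟩ h₀
  rw [← h4]
  have h5 : ∑ n ∈ Finset.univ.filter (fun n : ↥(D.monomialSubgroup K ⊓ T) => hG.permOf (n : GL D.Idx K) = τ), F (invN D (hG.permOf (n : GL D.Idx K))) =
      ∑ n ∈ Finset.univ.filter (fun n : ↥(D.monomialSubgroup K ⊓ T) => hG.permOf (n : GL D.Idx K) = τ), F (invN D τ) := by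
    apply Finset.sum_congr rfl
    intro n hn
    rw [(Finset.mem_filter.1 hn).2]
  rw [h5, Finset.sum_const, smul_eq_mul]

/-- The number of inversions of a code. -/
def invC {α : Type} (dig : α → ℕ → ℕ) (n : ℕ) (c : α) : ℕ :=
  ((List.range n).filter fun r => decide (n / 2 ≤ r) && decide (dig c r < n / 2)).length

omit hG in
lemma invN_eq_invC {α : Type} {dig : α → ℕ → ℕ} {c : α} {τ : Equiv.Perm (Fin D.nroots)}
    (h : ∀ r (hr : r < D.nroots), (τ ⟨r, hr⟩).val = dig c r) : invN D τ = invC dig D.nroots c := by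
  classical
  unfold invN invC
  rw [← List.toFinset_card_of_nodup (List.Nodup.filter _ List.nodup_range)]
  apply Finset.card_bij (fun r _ => r.val)
  · intro r hr
    obtain ⟨h1, h2⟩ := (Finset.mem_filter.1 hr).2
    simp only [List.mem_toFinset, List.mem_filter, List.mem_range, Bool.and_eq_true, decide_eq_true_eq]
    refine ⟨r.2, h1, ?_⟩
    rw [← h r r.2]
    exact h2
  · intro a _ b _ e
    exact Fin.ext e
  · intro r hr
    simp only [List.mem_toFinset, List.mem_filter, List.mem_range, Bool.and_eq_true, decide_eq_true_eq] at hr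
    obtain ⟨h1, h2, h3⟩ := hr
    refine ⟨⟨r, h1⟩, ?_, rfl⟩
    simp only [Finset.mem_filter, Finset.mem_univ, true_and]
    refine ⟨h2, ?_⟩
    rw [h r h1]
    exact h3

lemma one_mem_W1 : (1 : Equiv.Perm (Fin D.nroots)) ∈ Dt.W1 := by
  refine (Dt.mem_W1).2 ⟨1, one_mem _, permOf_eq (IsMono.one hG)⟩

lemma mul_mem_W1 {τ : Equiv.Perm (Fin D.nroots)} (hτ : τ ∈ Dt.W1) (j : Dt.ι) : τ * Dt.τw hE hB j ∈ Dt.W1 := by
  obtain ⟨n, hn, h⟩ := (Dt.mem_W1).1 hτ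
  have hn' := Subgroup.mem_inf.1 hn
  obtain ⟨τ', d, hi⟩ := hG.mono_of_mem_N hE hn'.1
  have e : τ' = τ := by rw [← h, permOf_eq hi]
  subst e
  refine (Dt.mem_W1).2 ⟨n * Dt.w hE hB j, Subgroup.mem_inf.2 ⟨mul_mem hn'.1 (Dt.w_N hE hB j), mul_mem hn'.2 (Dt.w_T hE hB j)⟩, ?_⟩
  exact permOf_eq (hi.mul (Dt.w_mono hE hB j))

/-- The permutations of the elements of `N ∩ T`, from a list of codes. -/
theorem sum_W1 {α : Type} (dig : α → ℕ → ℕ) (codes : List α) {k : ℕ} (e : Dt.ι ≃ Fin k) (gen : Fin k → α)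
    (hgen : ∀ j r (hr : r < D.nroots), ((Dt.τw hE hB j) ⟨r, hr⟩).val = dig (gen (e j)) r)
    (hid : ∃ c₀ ∈ codes, ∀ r < D.nroots, dig c₀ r = r)
    (hcl : ∀ c ∈ codes, ∀ j : Fin k, ∃ c' ∈ codes, ∀ r < D.nroots, dig c' r = dig c (dig (gen j) r))
    (hdesc : ∀ c ∈ codes, (∀ r < D.nroots, dig c r = r) ∨ ∃ j : Fin k, ∃ c' ∈ codes, (∀ r < D.nroots, dig c r = dig c' (dig (gen j) r)) ∧
      invC dig D.nroots c' < invC dig D.nroots c)
    (hsep : codes.Pairwise (fun c c' => ∃ r < D.nroots, dig c r ≠ dig c' r)) (F : ℕ → ℕ) :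
    ∑ τ ∈ Dt.W1, F (invN D τ) = (codes.map fun c => F (invC dig D.nroots c)).sum := by
  classical
  -- every element of `W1` has a code
  have h1 : ∀ (k : ℕ) (m : GL D.Idx K), m ∈ D.monomialSubgroup K ⊓ T → invN D (hG.permOf m) ≤ k →
      ∃ c ∈ codes, ∀ r (hr : r < D.nroots), ((hG.permOf m) ⟨r, hr⟩).val = dig c r := by
    have hdiag : ∀ m ∈ D.diagonalSubgroup K, ∃ c ∈ codes, ∀ r (hr : r < D.nroots), ((hG.permOf m) ⟨r, hr⟩).val = dig c r := by
      intro m hm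
      obtain ⟨τ, d, hi⟩ := hG.mono_of_mem_N hE (hG.diagonal_le_monomial hm)
      have e1 := hE.perm_of_H hG hB hm hi
      subst e1
      obtain ⟨c₀, h2, h3⟩ := hid
      refine ⟨c₀, h2, fun r hr => ?_⟩
      rw [permOf_eq hi, h3 r hr]
      rfl
    intro k
    induction k with
    | zero =>
      intro m hm hk
      have hm' := Subgroup.mem_inf.1 hm
      rcases Dt.step_field hE hB hm'.1 (Dt.T_fix m hm'.2) with h | ⟨j, h1, h2, h3, h4⟩
      · exact hdiag m h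
      · omega
    | succ k ih =>
      intro m hm hk
      have hm' := Subgroup.mem_inf.1 hm
      rcases Dt.step_field hE hB hm'.1 (Dt.T_fix m hm'.2) with h | ⟨j, h1, h2, h3, h4⟩
      · exact hdiag m h
      · obtain ⟨c, hc, hc2⟩ := ih (m * Dt.w hE hB j) (Subgroup.mem_inf.2 ⟨mul_mem hm'.1 (Dt.w_N hE hB j), mul_mem hm'.2 (Dt.w_T hE hB j)⟩) (by omega)
        obtain ⟨c', hc', hc3⟩ := hcl c hc (e j)
        refine ⟨c', hc', fun r hr => ?_⟩
        obtain ⟨τ, d, hi⟩ := hG.mono_of_mem_N hE hm'.1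
        have e2 := permOf_eq (hi.mul (Dt.w_mono hE hB j))
        rw [e2] at hc2
        rw [permOf_eq hi, hc3 r hr, ← hgen j r hr, ← hc2 _ (Dt.τw hE hB j ⟨r, hr⟩).2]
        show _ = ((τ * Dt.τw hE hB j) (Dt.τw hE hB j ⟨r, hr⟩)).val
        rw [Equiv.Perm.mul_apply, ← Equiv.Perm.mul_apply (Dt.τw hE hB j), Dt.τw_sq hE hB j]
        rfl
  -- every code has an element
  have h2 : ∀ (k : ℕ) (c : α), c ∈ codes → invC dig D.nroots c ≤ k → ∃ τ ∈ Dt.W1, ∀ r (hr : r < D.nroots), (τ ⟨r, hr⟩).val = dig c r := by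
    have hone : ∀ c : α, (∀ r < D.nroots, dig c r = r) → ∃ τ ∈ Dt.W1, ∀ r (hr : r < D.nroots), (τ ⟨r, hr⟩).val = dig c r := by
      intro c h3
      refine ⟨1, Dt.one_mem_W1, fun r hr => ?_⟩
      rw [h3 r hr]
      rfl
    intro k
    induction k with
    | zero =>
      intro c hc hk
      rcases hdesc c hc with h3 | ⟨j, c', hc', h3, h4⟩
      · exact hone c h3
      · omega
    | succ k ih =>
      intro c hc hk
      rcases hdesc c hc with h3 | ⟨j, c', hc', h3, h4⟩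
      · exact hone c h3
      · obtain ⟨τ, hτ, h5⟩ := ih c' hc' (by omega)
        refine ⟨τ * Dt.τw hE hB (e.symm j), Dt.mul_mem_W1 hE hB hτ _, fun r hr => ?_⟩
        have h6 := hgen (e.symm j) r hr
        rw [Equiv.apply_symm_apply] at h6
        rw [h3 r hr, ← h6, ← h5 _ (Dt.τw hE hB (e.symm j) ⟨r, hr⟩).2]
        rfl
  have h3 : ∀ c, ∃ τ : Equiv.Perm (Fin D.nroots), c ∈ codes → τ ∈ Dt.W1 ∧ ∀ r (hr : r < D.nroots), (τ ⟨r, hr⟩).val = dig c r := by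
    intro c
    by_cases hc : c ∈ codes
    · obtain ⟨τ, h4, h5⟩ := h2 _ c hc le_rfl
      exact ⟨τ, fun _ => ⟨h4, h5⟩⟩
    · exact ⟨1, fun h => absurd h hc⟩
  choose τ' hτ' using h3
  have hnd : (codes.map τ').Nodup := by
    unfold List.Nodup
    rw [List.pairwise_map]
    apply hsep.imp_of_mem
    rintro a b ha hb ⟨r, hr, hne⟩ e'
    apply hne
    rw [← (hτ' a ha).2 r hr, ← (hτ' b hb).2 r hr, e']
  have hW : Dt.W1 = (codes.map τ').toFinset := by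
    ext τ
    simp only [List.mem_toFinset, List.mem_map]
    constructor
    · intro hτ
      obtain ⟨n, hn, rfl⟩ := (Dt.mem_W1).1 hτ
      obtain ⟨c, hc, h5⟩ := h1 _ n hn le_rfl
      refine ⟨c, hc, ?_⟩
      apply Equiv.ext
      rintro ⟨r, hr⟩
      apply Fin.ext
      rw [(hτ' c hc).2 r hr, h5 r hr]
    · rintro ⟨c, hc, rfl⟩
      exact (hτ' c hc).1
  rw [hW, List.sum_toFinset _ hnd, List.map_map]
  apply congrArg
  apply List.map_congr_left
  intro c hc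
  simp only [Function.comp]
  rw [invN_eq_invC (hτ' c hc).2]

/-- A word for the chosen elements. -/
lemma τw_eq_permW (j : Dt.ι) {L : List ℕ} (hL : ∀ i ∈ L, i < D.rank ∧ i ∈ Dt.J j)
    (hS : ∀ r : Fin D.nroots, D.nroots / 2 ≤ r.val → ((actW C L r).1 < D.nroots / 2 ↔ lamJ C D.rank (Dt.J j) r = 0)) :
    Dt.τw hE hB j = hG.permW L := by
  have hL' : ∀ i ∈ L, i < D.rank := fun i hi => (hL i hi).1
  refine hE.signJ_unique hG hB (Dt.w_W hE hB j) ?_ (Dt.w_sign hE hB j) ?_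
  · have key : ∀ L : List ℕ, (∀ i ∈ L, i < D.rank ∧ i ∈ Dt.J j) → hG.permW L ∈ hG.WJ (Dt.J j) := by
      intro L
      induction L with
      | nil => exact fun _ => Subgroup.one_mem _
      | cons i L ih =>
        intro h
        obtain ⟨hi, hiJ⟩ := h i (by simp)
        rw [hG.permW_cons, hG.piP_of_lt hi]
        exact Subgroup.mul_mem _ (hG.piPerm_mem_WJ hi hiJ) (ih fun k hk => h k (by simp [hk]))
    exact key L hL
  · intro r hr
    rw [hG.permW_val hL']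
    exact hS r hr

/-- A word for the chosen elements, checkable. -/
lemma τw_val_eq (j : Dt.ι) {Jl L : List ℕ} (hJ : Dt.J j = {i | i ∈ Jl}) (hL : ∀ i ∈ L, i < D.rank ∧ i ∈ Jl)
    (hS : ∀ r < D.nroots, D.nroots / 2 ≤ r → ((actW C L r).1 < D.nroots / 2 ↔ ∀ k < D.rank, k ∉ Jl → C.coef r k = 0))
    (r : ℕ) (hr : r < D.nroots) : ((Dt.τw hE hB j) ⟨r, hr⟩).val = (actW C L r).1 := by
  rw [Dt.τw_eq_permW hE hB j (L := L)]
  · exact hG.permW_val (fun i hi => (hL i hi).1) _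
  · intro i hi
    rw [hJ]
    exact hL i hi
  · intro r hr2
    rw [hJ, lamJ_list_iff hG hE r.2]
    exact hS r r.2 hr2

end TwData

end

end CfsgLib.Chev
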