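/-
The homomorphism from `N¹` onto a Coxeter group with kernel `H¹`.
-/
import Cfsg.Agent.Lib.Tw.CardT
import Cfsg.Agent.Lib.BN.CoxIso

set_option autoImplicit false

namespace CfsgLib.BN

/-- A homomorphism from `N` onto a Coxeter group with kernel `B ⊓ N`. -/
theorem exists_hom_coxeter {G : Type*} [Group G] (Q : Cfsg.BNPair G) {k : ℕ} (M' : CoxeterMatrix (Fin k)) (b : Q.S ≃ Fin k)
    (hM : ∀ (s s' : Q.S) (n : ℕ), ((s : G) * s') ^ n ∈ Q.B ↔ M' (b s) (b s') ∣ n) :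
    ∃ φ : Q.N →* M'.Group, Function.Surjective φ ∧ ∀ n : Q.N, φ n = 1 ↔ (n : G) ∈ Q.B := by
  classical
  haveI := BNnormal Q
  obtain ⟨M, e, hM1, hM2⟩ := exists_coxeter Q
  have hker : ∀ u : Q.N, (QuotientGroup.mk u : Q.N ⧸ (Q.B ⊓ Q.N).subgroupOf Q.N) = 1 ↔ (u : G) ∈ Q.B := by
    intro u
    rw [QuotientGroup.eq_one_iff, Subgroup.mem_subgroupOf]
    exact ⟨fun h => (Subgroup.mem_inf.1 h).1, fun h => Subgroup.mem_inf.2 ⟨h, u.2⟩⟩
  have hMM : ∀ s s', M s s' = M' (b s) (b s') := by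
    intro s s'
    rw [hM1]
    have key : ∀ n : ℕ, ((QuotientGroup.mk (⟨(s : G), Q.subset s.2⟩ : Q.N) : Q.N ⧸ (Q.B ⊓ Q.N).subgroupOf Q.N) *
        (QuotientGroup.mk (⟨(s' : G), Q.subset s'.2⟩ : Q.N) : Q.N ⧸ (Q.B ⊓ Q.N).subgroupOf Q.N)) ^ n = 1 ↔ M' (b s) (b s') ∣ n := by
      intro n
      rw [← hM s s' n]
      rw [← QuotientGroup.mk_mul, ← QuotientGroup.mk_pow, hker]
      rfl
    apply Nat.dvd_antisymm
    · exact orderOf_dvd_of_pow_eq_one ((key _).2 dvd_rfl)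
    · exact (key _).1 (pow_orderOf_eq_one _)
  have hr : M.reindex b = M' := by
    ext i j
    show M (b.symm i) (b.symm j) = _
    rw [hMM, Equiv.apply_symm_apply, Equiv.apply_symm_apply]
  subst hr
  refine ⟨(M.reindexGroupEquiv b).symm.toMonoidHom.comp (e.symm.toMonoidHom.comp (QuotientGroup.mk' _)), ?_, ?_⟩
  · intro x
    obtain ⟨y, hy⟩ := QuotientGroup.mk'_surjective _ (e (M.reindexGroupEquiv b x))
    refine ⟨y, ?_⟩
    simp only [MonoidHom.comp_apply]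
    rw [hy]
    simp
  · intro n
    rw [← hker n]
    simp only [MonoidHom.comp_apply, MulEquiv.coe_toMonoidHom, QuotientGroup.mk'_apply, EmbeddingLike.map_eq_one_iff]

/-- The composition with a surjection of the same order. -/
theorem comp_of_card {N Γ₀ Γ : Type*} [Group N] [Group Γ₀] [Group Γ] [Finite Γ] (φ : N →* Γ₀) (hφ : Function.Surjective φ) (ψ : Γ₀ →* Γ)
    (hψ : Function.Surjective ψ) (h : φ.ker.index = Nat.card Γ) :
    Function.Surjective (ψ.comp φ) ∧ (ψ.comp φ).ker = φ.ker := by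
  have h1 : Nat.card Γ₀ = Nat.card Γ := by
    rw [← h, Subgroup.index_ker, MonoidHom.range_eq_top.2 hφ, Subgroup.card_top]
  have h2 : Finite Γ₀ := Nat.finite_of_card_ne_zero (by rw [h1]; exact Nat.card_pos.ne')
  have h3 := hψ.bijective_of_nat_card_le h1.le
  refine ⟨hψ.comp hφ, ?_⟩
  ext x
  simp only [MonoidHom.mem_ker, MonoidHom.comp_apply]
  exact ⟨fun e => h3.1 (by rw [e, map_one]), fun e => by rw [e, map_one]⟩

end CfsgLib.BN

namespace CfsgLib.Chev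

open Cfsg.Lie Cfsg.Lie.ChevalleyDatum CfsgLib.BN

section

variable {D : ChevalleyDatum} {C : Cert} {hG : Good D C} {K : Type*} [Field K]

/-- The permutation of the monomial elements as a homomorphism. -/
noncomputable def Extra.permHom (hE : Extra D C) (hG : Good D C) : ↥(D.monomialSubgroup K) →* Equiv.Perm (Fin D.nroots) :=
  MonoidHom.mk' (fun n => hG.permOf n.1) (by
    rintro ⟨a, ha⟩ ⟨b, hb⟩
    obtain ⟨τ, d, hi⟩ := hG.mono_of_mem_N hE ha
    obtain ⟨τ', d', hi'⟩ := hG.mono_of_mem_N hE hb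
    show hG.permOf (a * b) = hG.permOf a * hG.permOf b
    rw [permOf_eq hi, permOf_eq hi', permOf_eq (hi.mul hi')])

lemma Extra.permHom_eq_one (hE : Extra D C) (hB : Braid D C) (n : ↥(D.monomialSubgroup K)) : hE.permHom hG n = 1 ↔ n.1 ∈ D.diagonalSubgroup K := by
  obtain ⟨τ, d, hi⟩ := hG.mono_of_mem_N hE n.2
  have e : hE.permHom hG n = τ := permOf_eq hi
  rw [e]
  constructor
  · rintro rfl
    exact hE.mem_H_of_perm hG hB n.2 hi
  · intro h
    exact hE.perm_of_H hG hB h hi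

variable {A : TwAct hG K} {T : Subgroup (GL D.Idx K)} (Dt : TwData A T) (hE : Extra D C) (hB : Braid D C)

namespace TwData

include hE hB in
/-- The index of `H¹` in `N¹`. -/
theorem index_H : ((D.diagonalSubgroup K ⊓ T).subgroupOf (D.monomialSubgroup K ⊓ T)).index = Dt.W1.card := by
  classical
  let ρ : ↥(D.monomialSubgroup K ⊓ T) →* Equiv.Perm (Fin D.nroots) :=
    (hE.permHom hG).comp (Subgroup.inclusion inf_le_left)
  have hk : ρ.ker = (D.diagonalSubgroup K ⊓ T).subgroupOf (D.monomialSubgroup K ⊓ T) := by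
    ext x
    rw [MonoidHom.mem_ker, Subgroup.mem_subgroupOf]
    have e := hE.permHom_eq_one (hG := hG) hB (K := K) ⟨x.1, (Subgroup.mem_inf.1 x.2).1⟩
    constructor
    · intro h
      exact Subgroup.mem_inf.2 ⟨e.1 h, (Subgroup.mem_inf.1 x.2).2⟩
    · intro h
      exact e.2 (Subgroup.mem_inf.1 h).1
  rw [← hk, Subgroup.index_ker]
  have hr : ∀ τ, τ ∈ ρ.range ↔ τ ∈ Dt.W1 := by
    intro τ
    rw [Dt.mem_W1]
    constructor
    · rintro ⟨x, rfl⟩
      exact ⟨x.1, x.2, rfl⟩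
    · rintro ⟨n, hn, rfl⟩
      exact ⟨⟨n, hn⟩, rfl⟩
  rw [Nat.card_congr (Equiv.subtypeEquivRight hr), Nat.card_eq_fintype_card, Fintype.card_coe]

include hE hB in
/-- The homomorphism from `N¹` onto a Coxeter group. -/
theorem exists_cox_hom {k : ℕ} (e' : Dt.ι ≃ Fin k) (M' : CoxeterMatrix (Fin k))
    (hM : ∀ i j, M' i j = orderOf (Dt.τw hE hB (e'.symm i) * Dt.τw hE hB (e'.symm j))) :
    ∃ φ : ↥(D.monomialSubgroup K ⊓ T) →* M'.Group, Function.Surjective φ ∧ φ.ker = (D.diagonalSubgroup K ⊓ T).subgroupOf (D.monomialSubgroup K ⊓ T) := by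
  classical
  obtain ⟨Q, hQB, hQN, hQS⟩ := Dt.exists_bnpair hE hB
  -- the generators
  have hfS : ∀ i, (⟨Dt.w hE hB (e'.symm i), Dt.w_T hE hB _⟩ : ↥T) ∈ Q.S := by
    intro i
    rw [hQS]
    exact ⟨_, rfl⟩
  let f : Fin k → Q.S := fun i => ⟨_, hfS i⟩
  have hfb : Function.Bijective f := by
    constructor
    · intro i j h
      have h1 : Dt.w hE hB (e'.symm i) = Dt.w hE hB (e'.symm j) := congrArg (fun x : Q.S => ((x : ↥T) : GL D.Idx K)) h
      have h2 := Dt.w_inj_field hE hB (e'.symm i) (e'.symm j) (by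
        rw [h1, inv_mul_cancel]
        exact one_mem _)
      exact e'.symm.injective h2
    · rintro ⟨⟨s, hs0⟩, hs⟩
      have hs' := hs
      rw [hQS] at hs'
      obtain ⟨j, hj⟩ := hs'
      refine ⟨e' j, ?_⟩
      apply Subtype.ext
      apply Subtype.ext
      show Dt.w hE hB (e'.symm (e' j)) = s
      rw [e'.symm_apply_apply]
      exact hj
  let b : Q.S ≃ Fin k := (Equiv.ofBijective f hfb).symm
  have hfb' : ∀ s, f (b s) = s := fun s => (Equiv.ofBijective f hfb).apply_symm_apply s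
  have hborel : ∀ x : ↥T, x ∈ Q.B ↔ (x : GL D.Idx K) ∈ D.borelSubgroup K := by
    intro x
    rw [hQB, Subgroup.mem_subgroupOf]
    exact ⟨fun h => (Subgroup.mem_inf.1 h).1, fun h => Subgroup.mem_inf.2 ⟨h, x.2⟩⟩
  have hmon : ∀ x : GL D.Idx K, x ∈ D.monomialSubgroup K → (x ∈ D.borelSubgroup K ↔ x ∈ D.diagonalSubgroup K) := by
    intro x hx
    rw [← hE.borel_inf_monomial hG hB, Subgroup.mem_inf]
    exact ⟨fun h => ⟨h, hx⟩, fun h => h.1⟩
  have hM' : ∀ (s s' : Q.S) (n : ℕ), ((s : ↥T) * s') ^ n ∈ Q.B ↔ M' (b s) (b s') ∣ n := by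
    intro s s' n
    obtain ⟨i, rfl⟩ := hfb.2 s
    obtain ⟨j, rfl⟩ := hfb.2 s'
    have hbi : b (f i) = i := (Equiv.ofBijective f hfb).symm_apply_apply i
    have hbj : b (f j) = j := (Equiv.ofBijective f hfb).symm_apply_apply j
    rw [hbi, hbj, hM, hborel]
    have hwN : Dt.w hE hB (e'.symm i) * Dt.w hE hB (e'.symm j) ∈ D.monomialSubgroup K := mul_mem (Dt.w_N hE hB _) (Dt.w_N hE hB _)
    have e1 : (((f i : ↥T) * (f j : ↥T)) ^ n : ↥T).1 = (Dt.w hE hB (e'.symm i) * Dt.w hE hB (e'.symm j)) ^ n := rfl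
    rw [e1, hmon _ (pow_mem hwN n), ← orderOf_dvd_iff_pow_eq_one.symm.trans Iff.rfl]
    have e2 := hE.permHom_eq_one (hG := hG) hB (K := K) (⟨Dt.w hE hB (e'.symm i) * Dt.w hE hB (e'.symm j), hwN⟩ ^ n)
    have e3 : hE.permHom hG (K := K) ⟨Dt.w hE hB (e'.symm i) * Dt.w hE hB (e'.symm j), hwN⟩ = Dt.τw hE hB (e'.symm i) * Dt.τw hE hB (e'.symm j) :=
      permOf_eq ((Dt.w_mono hE hB _).mul (Dt.w_mono hE hB _))
    rw [map_pow, e3] at e2
    exact e2.symm
  obtain ⟨φ₀, hφ₀, hk⟩ := exists_hom_coxeter Q M' b hM'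
  have hι : ∀ n : ↥(D.monomialSubgroup K ⊓ T), (⟨n.1, (Subgroup.mem_inf.1 n.2).2⟩ : ↥T) ∈ Q.N := by
    intro n
    rw [hQN]
    exact Subgroup.mem_subgroupOf.2 n.2
  let ι : ↥(D.monomialSubgroup K ⊓ T) →* Q.N := MonoidHom.mk' (fun n => ⟨⟨n.1, (Subgroup.mem_inf.1 n.2).2⟩, hι n⟩) (fun _ _ => rfl)
  have hιs : Function.Surjective ι := by
    rintro ⟨⟨x, hx⟩, hxN⟩
    have h1 := hxN
    rw [hQN] at h1
    exact ⟨⟨x, Subgroup.mem_subgroupOf.1 h1⟩, rfl⟩
  refine ⟨φ₀.comp ι, hφ₀.comp hιs, ?_⟩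
  ext n
  rw [MonoidHom.mem_ker, MonoidHom.comp_apply, hk, hborel, Subgroup.mem_subgroupOf]
  show n.1 ∈ D.borelSubgroup K ↔ _
  rw [hmon _ (Subgroup.mem_inf.1 n.2).1]
  exact ⟨fun h => Subgroup.mem_inf.2 ⟨h, (Subgroup.mem_inf.1 n.2).2⟩, fun h => (Subgroup.mem_inf.1 h).1⟩

/-- Orders of permutations from their values on numbers. -/
lemma orderOf_of_digits {n : ℕ} (p : Equiv.Perm (Fin n)) (g : ℕ → ℕ) (hg : ∀ r (hr : r < n), (p ⟨r, hr⟩).val = g r) {m : ℕ} (hm : 0 < m)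
    (h1 : ∀ r < n, g^[m] r = r) (h2 : ∀ m', 0 < m' → m' < m → ∃ r < n, g^[m'] r ≠ r) : orderOf p = m := by
  have key : ∀ (l r : ℕ) (hr : r < n), ((p ^ l) ⟨r, hr⟩).val = g^[l] r := by
    intro l
    induction l with
    | zero =>
      intro r hr
      rfl
    | succ l ih =>
      intro r hr
      rw [pow_succ', Function.iterate_succ_apply', Equiv.Perm.mul_apply, hg _ (Fin.is_lt _), ih r hr]
  rw [orderOf_eq_iff hm]
  constructor
  · ext ⟨r, hr⟩
    rw [key, h1 r hr]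
    rfl
  · intro m' hm' hpos e
    obtain ⟨r, hr, hne⟩ := h2 m' hpos hm'
    apply hne
    rw [← key _ _ hr, e]
    rfl

include hE hB in
/-- The homomorphism from `N¹` onto a Coxeter group, from the values on numbers. -/
theorem exists_cox_hom_digits {k : ℕ} (e' : Dt.ι ≃ Fin k) (M' : CoxeterMatrix (Fin k)) (mm : Fin k → Fin k → ℕ) (hmm : ∀ i j, M' i j = mm i j) (dig : Fin k → ℕ → ℕ)
    (hgen : ∀ j r (hr : r < D.nroots), ((Dt.τw hE hB j) ⟨r, hr⟩).val = dig (e' j) r) (hpos : ∀ i j, 0 < mm i j)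
    (h1 : ∀ i j, ∀ r < D.nroots, (fun x => dig i (dig j x))^[mm i j] r = r)
    (h2 : ∀ i j, ∀ m' < mm i j, 0 < m' → ∃ r < D.nroots, (fun x => dig i (dig j x))^[m'] r ≠ r) :
    ∃ φ : ↥(D.monomialSubgroup K ⊓ T) →* M'.Group, Function.Surjective φ ∧ φ.ker = (D.diagonalSubgroup K ⊓ T).subgroupOf (D.monomialSubgroup K ⊓ T) := by
  refine Dt.exists_cox_hom hE hB e' M' fun i j => ?_
  symm
  rw [hmm]
  apply orderOf_of_digits _ (fun x => dig i (dig j x)) _ (hpos i j) (h1 i j) (fun m' h3 h4 => h2 i j m' h4 h3)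
  intro r hr
  rw [Equiv.Perm.mul_apply, hgen _ _ (Fin.is_lt _), Equiv.apply_symm_apply, hgen _ _ hr, Equiv.apply_symm_apply]

end TwData

end

end CfsgLib.Chev
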