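/-
Characters of elements of `H` and commutators with the chosen elements of `N`.
-/
import Cfsg.Agent.Lib.Tw.CardT

set_option autoImplicit false

namespace CfsgLib.Chev

open Cfsg.Lie Cfsg.Lie.ChevalleyDatum CfsgLib.BN

section gen

variable {D : ChevalleyDatum} {C : Cert} {hG : Good D C} {K : Type*} [Field K]

lemma IsMono.hmul {a b : GL D.Idx K} {d d' : Fin D.nroots → K} (ha : IsMono hG a 1 d) (hb : IsMono hG b 1 d') :
    IsMono hG (a * b) 1 (fun s => d s * d' s) := by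
  have := ha.mul hb
  rw [mul_one] at this
  exact this

lemma IsMono.hinv {a : GL D.Idx K} {d : Fin D.nroots → K} (ha : IsMono hG a 1 d) : IsMono hG a⁻¹ 1 (fun s => (d s)⁻¹) := by
  have := ha.inv
  rw [inv_one] at this
  exact this

lemma IsMono.hconj {g w : GL D.Idx K} {d e : Fin D.nroots → K} {τ : Equiv.Perm (Fin D.nroots)} (hg : IsMono hG g 1 d) (hw : IsMono hG w τ e) :
    IsMono hG (w * g * w⁻¹) 1 (fun s => d (τ⁻¹ s)) := by
  have h := (hw.mul hg).mul hw.inv
  have e1 : τ * 1 * τ⁻¹ = 1 := by group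
  rw [e1] at h
  have e2 : (fun s => e ((1 : Equiv.Perm (Fin D.nroots)) (τ⁻¹ s)) * d (τ⁻¹ s) * (e (τ⁻¹ s))⁻¹) = fun s => d (τ⁻¹ s) := by
    funext s
    have := hw.d_ne (τ⁻¹ s)
    simp only [Equiv.Perm.one_apply]
    field_simp
  rw [e2] at h
  exact h

variable (hG)

include hG

/-- The value of a character on a root. -/
theorem Extra.d_coef (hE : Extra D C) {h : GL D.Idx K} (hh : h ∈ D.diagonalSubgroup K) {d : Fin D.nroots → K} (hd : IsMono hG h 1 d) (s : Fin D.nroots) :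
    d s = ∏ j : Fin D.rank, (d ⟨D.simple j, hG.simple_lt j.2⟩) ^ (C.coef s j) := by
  obtain ⟨c, hc⟩ := hE.torusHom_surjective hG (F := K) ⟨h, hh⟩
  have hm := hE.isMono_prodH hG (c := extU D c) (fun i _ => extU_ne c i)
  have e : hG.prodH (extU D c) = h := congrArg Subtype.val hc
  rw [e] at hm
  have e2 := hm.d_unique hd
  have e3 : ∀ s : Fin D.nroots, d s = ((∏ i, c i ^ (D.cartan i s) : Kˣ) : K) := by
    intro s
    rw [← e2, hE.dProd_extU hG]
  have h1 : ∀ i : Fin D.rank, c i ^ (D.cartan i s) = ∏ j : Fin D.rank, (c i ^ (D.cartan i (D.simple j))) ^ (C.coef s j) := by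
    intro i
    rw [hG.cartan_eq s.2 i.2, ← prod_zpow_sum]
    apply Finset.prod_congr rfl
    intro j _
    rw [← zpow_mul, mul_comm, hG.simple_eq j.2, hG.agree.hcar i i.2 _ (hG.simple_lt' j.2)]
    rfl
  rw [e3 s, Finset.prod_congr rfl (fun i _ => h1 i), Finset.prod_comm, Units.coe_prod]
  apply Finset.prod_congr rfl
  intro j _
  rw [e3 ⟨D.simple j, hG.simple_lt j.2⟩, Finset.prod_zpow, Units.val_zpow_eq_zpow_val]

/-- Two elements of `H` with the same values on the simple roots are equal. -/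
lemma Extra.H_ext (hE : Extra D C) {h h' : GL D.Idx K} (hh : h ∈ D.diagonalSubgroup K) (hh' : h' ∈ D.diagonalSubgroup K) {d d' : Fin D.nroots → K}
    (hd : IsMono hG h 1 d) (hd' : IsMono hG h' 1 d')
    (e : ∀ (i : ℕ) (hi : i < D.rank), d ⟨D.simple i, hG.simple_lt hi⟩ = d' ⟨D.simple i, hG.simple_lt hi⟩) : h = h' := by
  have h1 := hd.hmul hd'.hinv
  have h2 := hE.eq_one_of_simple hG (mul_mem hh (inv_mem hh')) h1 (fun i hi => by
    rw [e i hi]
    exact mul_inv_cancel₀ (hd'.d_ne _))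
  exact mul_inv_eq_one.1 h2

/-- Elements of `H` with prescribed values on the simple roots. -/
theorem Extra.exists_H_chars (hE : Extra D C) (A' : Matrix (Fin D.rank) (Fin D.rank) ℤ)
    (hA' : A' * (Matrix.of fun i j : Fin D.rank => D.cartan i (D.simple j)) = 1) (y : Fin D.rank → Kˣ) :
    ∃ h ∈ D.diagonalSubgroup K, ∃ d, IsMono hG h 1 d ∧ ∀ (i : ℕ) (hi : i < D.rank), d ⟨D.simple i, hG.simple_lt hi⟩ = (y ⟨i, hi⟩ : K) := by
  set c := actZ A' y with hc
  have hm := hE.isMono_prodH hG (c := extU D c) (fun i _ => extU_ne c i)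
  refine ⟨_, hG.prodH_mem _ (fun i _ => extU_ne c i), _, hm, fun i hi => ?_⟩
  rw [hE.dProd_extU hG]
  have h1 : actZ (Matrix.of fun i j : Fin D.rank => D.cartan i (D.simple j)) c = y := by
    rw [hc, ← actZ_mul, hA', actZ_one]
  have h2 := congrFun h1 ⟨i, hi⟩
  rw [← h2]
  rfl

/-- Root elements under a ring homomorphism. -/
lemma Good.x_map_hom {K' : Type*} [Field K'] (f : K →+* K') (r : ℕ) (t : K) : (D.x K r t).map f = D.x K' r (f t) := by
  have hv : ∀ (a : K) (v j : ℕ) (L : List (ℕ × ℤ)), f (chainVal a v j L) = chainVal (f a) v j L := by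
    intro a v j L
    induction L generalizing j with
    | nil => simp [chainVal]
    | cons e L ih =>
      simp only [chainVal, map_add, ih]
      congr 1
      split_ifs <;> simp
  by_cases hr : r < D.nroots
  · have hN := hG.shp.uniq r hr
    ext ρ c
    rw [Matrix.map_apply]
    rcases ρ with j' | v <;> rcases c with j | s
    · rw [x_inl_inl D hr, x_inl_inl D hr]
      split_ifs <;> simp
    · rw [x_inl_inr D hr, x_inl_inr D hr]
      split_ifs <;> simp
    · rw [x_inr_inl D hr, x_inr_inl D hr]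
      split_ifs <;> simp
    · rw [x_inr_inr D hr _ _ _ hN, x_inr_inr D hr _ _ _ hN]
      split_ifs <;> simp [hv]
  · rw [x_of_ge D (by omega), x_of_ge D (by omega)]
    simp

/-- Words under a ring homomorphism. -/
lemma Good.wordMat_map {K' : Type*} [Field K'] (f : K →+* K') (w : List (ℕ × K)) :
    (D.wordMat K w).map f = D.wordMat K' (w.map fun p => (p.1, f p.2)) := by
  induction w with
  | nil =>
    simp [ChevalleyDatum.wordMat]
  | cons a w ih =>
    unfold ChevalleyDatum.wordMat at ih ⊢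
    simp only [List.map_cons, List.prod_cons]
    rw [Matrix.map_mul, hG.x_map_hom, ih]

/-- The last column of `U`. -/
lemma Extra.col_U (hE : Extra D C) {ρ : Fin D.nroots} (h1 : ∀ r < D.nroots, D.nroots / 2 ≤ r → ρ.val ≠ D.neg r)
    (h2 : ∀ r < D.nroots, D.nroots / 2 ≤ r → D.chainEntry r ρ = []) {g : GL D.Idx K} (hg : g ∈ D.posUnipotent K) :
    ∀ k, (g : Matrix D.Idx D.Idx K) k (Sum.inr ρ) = (1 : Matrix D.Idx D.Idx K) k (Sum.inr ρ) := by
  rw [hG.posUnipotent_eq] at hg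
  induction hg using Subgroup.closure_induction with
  | mem x hx =>
    obtain ⟨r, hr, t, rfl⟩ := hx
    have hr1 := hr.1
    have hr2 := (hE.posIff r hr1).1 hr
    have hN := hG.shp.uniq r hr1
    intro k
    rw [hG.xG_val]
    rcases k with j | u
    · rw [x_inl_inr D hr1, if_neg (h1 r hr1 hr2)]
      have h5 : (1 : Matrix D.Idx D.Idx K) (Sum.inl j) (Sum.inr ρ) = 0 := Matrix.one_apply_ne (by simp)
      rw [h5]
      split_ifs <;> rfl
    · rw [x_inr_inr D hr1 _ _ _ hN]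
      by_cases h3 : ρ.val = r
      · rw [if_pos h3]
        by_cases h4 : u = ρ
        · subst h4
          rw [if_pos h3, Matrix.one_apply_eq]
        · rw [Matrix.one_apply_ne (by simpa using h4), if_neg (fun e => h4 (Fin.ext (e.trans h3.symm)))]
      · rw [if_neg h3, if_neg (h1 r hr1 hr2), h2 r hr1 hr2]
        by_cases h4 : u = ρ
        · subst h4
          simp [chainVal]
        · rw [if_neg h4, Matrix.one_apply_ne (by simpa using h4)]
          simp [chainVal]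
  | one =>
    intro k
    rfl
  | mul a b _ _ ha hb =>
    intro k
    rw [Units.val_mul, Matrix.mul_apply]
    simp only [hb]
    rw [← Matrix.mul_apply, Matrix.mul_one, ha]
  | inv a _ ha =>
    intro k
    have h3 : ((a⁻¹ * a : GL D.Idx K) : Matrix D.Idx D.Idx K) k (Sum.inr ρ) = (1 : Matrix D.Idx D.Idx K) k (Sum.inr ρ) := by
      rw [inv_mul_cancel]
      rfl
    rw [Units.val_mul, Matrix.mul_apply] at h3
    simp only [ha] at h3
    rw [← Matrix.mul_apply, Matrix.mul_one] at h3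
    exact h3

/-- The first row of `U`. -/
lemma Extra.row_U (hE : Extra D C) {ρ : Fin D.nroots} (h1 : ∀ r < D.nroots, D.nroots / 2 ≤ r → ρ.val ≠ r)
    (h2 : ∀ r < D.nroots, D.nroots / 2 ≤ r → ∀ s < D.nroots, ∀ e ∈ D.chainEntry r s, e.1 ≠ ρ.val) {g : GL D.Idx K} (hg : g ∈ D.posUnipotent K) :
    ∀ k, (g : Matrix D.Idx D.Idx K) (Sum.inr ρ) k = (1 : Matrix D.Idx D.Idx K) (Sum.inr ρ) k := by
  rw [hG.posUnipotent_eq] at hg
  induction hg using Subgroup.closure_induction with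
  | mem x hx =>
    obtain ⟨r, hr, t, rfl⟩ := hx
    have hr1 := hr.1
    have hr2 := (hE.posIff r hr1).1 hr
    have hN := hG.shp.uniq r hr1
    intro k
    rw [hG.xG_val]
    rcases k with j | s
    · rw [x_inr_inl D hr1, if_neg (h1 r hr1 hr2)]
      have h5 : (1 : Matrix D.Idx D.Idx K) (Sum.inr ρ) (Sum.inl j) = 0 := Matrix.one_apply_ne (by simp)
      rw [h5]
    · rw [x_inr_inr D hr1 _ _ _ hN]
      by_cases h3 : s.val = r
      · rw [if_pos h3, if_neg (h1 r hr1 hr2)]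
        exact (Matrix.one_apply_ne (by
          intro e
          have e2 := Sum.inr_injective e
          exact h1 r hr1 hr2 (by rw [e2, h3]))).symm
      · rw [if_neg h3]
        by_cases h4 : s.val = D.neg r
        · rw [if_pos h4, if_neg (h1 r hr1 hr2)]
          by_cases h5 : ρ = s
          · subst h5
            rw [if_pos rfl, Matrix.one_apply_eq]
          · rw [if_neg h5, Matrix.one_apply_ne (by simpa using h5)]
        · rw [if_neg h4]
          have h6 : chainVal t ρ.val 0 (D.chainEntry r s.val) = 0 := by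
            by_contra h7
            obtain ⟨k, e, he, he2⟩ := chainVal_ne_zero h7
            exact h2 r hr1 hr2 s s.2 e (List.mem_of_getElem? he) he2
          rw [h6, add_zero]
          by_cases h5 : ρ = s
          · subst h5
            rw [if_pos rfl, Matrix.one_apply_eq]
          · rw [if_neg h5, Matrix.one_apply_ne (by simpa using h5)]
  | one =>
    intro k
    rfl
  | mul a b _ _ ha hb =>
    intro k
    rw [Units.val_mul, Matrix.mul_apply]
    simp only [ha]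
    rw [← Matrix.mul_apply, Matrix.one_mul]
    exact hb k
  | inv a _ ha =>
    intro k
    have h3 : ((a * a⁻¹ : GL D.Idx K) : Matrix D.Idx D.Idx K) (Sum.inr ρ) k = (1 : Matrix D.Idx D.Idx K) (Sum.inr ρ) k := by
      rw [mul_inv_cancel]
      rfl
    rw [Units.val_mul, Matrix.mul_apply] at h3
    simp only [ha] at h3
    rw [← Matrix.mul_apply, Matrix.one_mul] at h3
    exact h3

/-- The entry of a canonical form. -/
lemma Extra.entry_canonical (hE : Extra D C) {ρ ρ' : Fin D.nroots} (h1 : ∀ r < D.nroots, D.nroots / 2 ≤ r → ρ.val ≠ D.neg r)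
    (h2 : ∀ r < D.nroots, D.nroots / 2 ≤ r → D.chainEntry r ρ = []) (h3 : ∀ r < D.nroots, D.nroots / 2 ≤ r → ρ'.val ≠ r)
    (h4 : ∀ r < D.nroots, D.nroots / 2 ≤ r → ∀ s < D.nroots, ∀ e ∈ D.chainEntry r s, e.1 ≠ ρ'.val)
    {a c m : GL D.Idx K} (ha : a ∈ D.posUnipotent K) (hc : c ∈ D.posUnipotent K) :
    ((a * m * c : GL D.Idx K) : Matrix D.Idx D.Idx K) (Sum.inr ρ') (Sum.inr ρ) = (m : Matrix D.Idx D.Idx K) (Sum.inr ρ') (Sum.inr ρ) := by
  rw [Units.val_mul, Matrix.mul_apply]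
  simp only [hE.col_U hG h1 h2 hc]
  rw [← Matrix.mul_apply, Matrix.mul_one, Units.val_mul, Matrix.mul_apply]
  simp only [hE.row_U hG h3 h4 ha]
  rw [← Matrix.mul_apply, Matrix.one_mul]

end gen

section act

variable {D : ChevalleyDatum} {C : Cert} {hG : Good D C} {K : Type*} [Field K] {A : TwAct hG K} {T : Subgroup (GL D.Idx K)}

namespace TwAct

variable (A) (hE : Extra D C)

include hE

/-- The values of a character on the image. -/
lemma char_s {h : GL D.Idx K} (hh : h ∈ D.group K) {d d' : Fin D.nroots → K} (hd : IsMono hG h 1 d) (hd' : IsMono hG (A.s h) 1 d') {r : ℕ} (hr : r < D.nroots) (t : K) :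
    d' ⟨A.π r, A.π_lt r hr⟩ * A.f r t = A.f r (d ⟨r, hr⟩ * t) := by
  have h1 := hd.conj ⟨r, hr⟩ t
  simp only [Equiv.Perm.one_apply] at h1
  have h2 := congrArg A.s h1
  rw [A.s_mul (mul_mem hh (hG.mem_group hr t)) (inv_mem hh), A.s_mul hh (hG.mem_group hr t), A.s_inv hh, A.s_x hr, A.s_x hr] at h2
  have h3 := hd'.conj ⟨A.π r, A.π_lt r hr⟩ (A.f r t)
  simp only [Equiv.Perm.one_apply] at h3
  rw [h3] at h2
  exact hE.xG_inj hG (A.π_lt r hr) h2

/-- A fixed element of `H` from its character. -/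
lemma fixed_of_chars {h : GL D.Idx K} (hh : h ∈ D.diagonalSubgroup K) {d : Fin D.nroots → K} (hd : IsMono hG h 1 d)
    (hc : ∀ (i : ℕ) (hi : i < D.rank), ∃ (r : ℕ) (hr : r < D.nroots), A.π r = D.simple i ∧ A.f r 1 = 1 ∧ A.f r (d ⟨r, hr⟩) = d ⟨D.simple i, hG.simple_lt hi⟩) :
    A.s h = h := by
  have hsh := A.s_H hh
  obtain ⟨_, d', hd'⟩ := hG.diagonal_le_KK hsh
  refine hE.H_ext hG hsh hh hd' hd fun i hi => ?_
  obtain ⟨r, hr, h1, h2, h3⟩ := hc i hi
  have h4 := A.char_s hE (hG.diagonal_le_group hh) hd hd' hr 1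
  rw [h2, mul_one, mul_one, h3] at h4
  rw [← h4]
  congr 2
  exact h1.symm

/-- The values of a fixed element. -/
lemma chars_of_fixed {h : GL D.Idx K} (hh : h ∈ D.diagonalSubgroup K) (hs : A.s h = h) {d : Fin D.nroots → K} (hd : IsMono hG h 1 d) {r r' : ℕ} (hr : r < D.nroots) (hr' : r' < D.nroots) (e : A.π r = r')
    (h1 : A.f r 1 = 1) : A.f r (d ⟨r, hr⟩) = d ⟨r', hr'⟩ := by
  have h2 : IsMono hG (A.s h) 1 d := by rw [hs]; exact hd
  have h4 := A.char_s hE (hG.diagonal_le_group hh) hd h2 hr 1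
  rw [h1, mul_one, mul_one] at h4
  rw [← h4]
  congr 2

end TwAct

namespace TwData

variable (Dt : TwData A T) (hE : Extra D C) (hB : Braid D C)

/-- The commutator with the chosen elements of `N`. -/
theorem comm_mem (j : Dt.ι) {g : GL D.Idx K} (hg : g ∈ D.diagonalSubgroup K) (hs : A.s g = g) :
    g * (Dt.w hE hB j * g⁻¹ * (Dt.w hE hB j)⁻¹) ∈ T := by
  set w := Dt.w hE hB j with hw
  have hwN : w ∈ D.monomialSubgroup K := Dt.w_N hE hB j
  have hwT : w ∈ T := Dt.w_T hE hB j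
  have hwG := hG.monomial_le_group hwN
  have hwF : A.s w = w := Dt.T_fix _ hwT
  have hgG := hG.diagonal_le_group hg
  set S := A.base hE hB with hS
  set P := Dt.twist hE hB with hP
  obtain ⟨x, hxU, hxV, hxG, hxs, hx1⟩ := Dt.X_ne_field hE hB j
  have hmemT : ∀ z, z ∈ D.posUnipotent K → w * z * w⁻¹ ∈ D.negUnipotent K → z ∈ D.group K → A.s z = z → z ∈ T := by
    intro z h1 h2 h3 h4
    exact Dt.X_T j z (Dt.Un_le_X hE hB j h1 h2) h4
  have hxT : x ∈ T := hmemT x hxU hxV hxG hxs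
  set y := w * x * w⁻¹ with hy
  have hyT : y ∈ T := mul_mem (mul_mem hwT hxT) (inv_mem hwT)
  obtain ⟨a, ha, m, hm, c, hc, e, hv⟩ := P.canonical hyT
  have ha' := Subgroup.mem_inf.1 ha
  have hc' := Subgroup.mem_inf.1 hc
  have hm' := Subgroup.mem_inf.1 hm
  have hmG := hG.monomial_le_group hm'.1
  have hmF : A.s m = m := Dt.T_fix _ hm'.2
  -- the element of `N`
  have hr := Dt.rank1_field hE hB j hm'.1 hmF ha'.1 hc'.1 hxU e
  have hmH : m * w⁻¹ ∈ D.diagonalSubgroup K := by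
    rcases hr with h | h
    · exfalso
      apply hx1
      have h1 : y ∈ D.borelSubgroup K := by
        rw [e]
        exact mul_mem (mul_mem (Subgroup.mem_sup_left ha'.1) (Subgroup.mem_sup_right h)) (Subgroup.mem_sup_left hc'.1)
      have h2 : y = 1 := hE.B_V hG h1 hxV
      have e2 : x = w⁻¹ * y * w := by
        rw [hy]
        group
      rw [e2, h2]
      group
    · exact h
  -- conjugating
  set g₁ := w⁻¹ * g * w with hg₁
  have hg₁H : g₁ ∈ D.diagonalSubgroup K := by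
    have := hE.diagonal_conj hG (inv_mem hwN) hg
    simpa [hg₁] using this
  have hg₁s : A.s g₁ = g₁ := by
    rw [hg₁, A.s_mul (mul_mem (inv_mem hwG) hgG) hwG, A.s_mul (inv_mem hwG) hgG, A.s_inv hwG, hwF, hs]
  have hg₁G := hG.diagonal_le_group hg₁H
  set x₁ := g₁ * x * g₁⁻¹ with hx₁
  have hx₁U : x₁ ∈ D.posUnipotent K := hE.H_U hG hg₁H hxU
  have hx₁V : w * x₁ * w⁻¹ ∈ D.negUnipotent K := by
    have e2 : w * x₁ * w⁻¹ = g * y * g⁻¹ := by
      rw [hx₁, hg₁, hy]
      group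
    rw [e2]
    exact hG.H_V hg hxV
  have hx₁G : x₁ ∈ D.group K := mul_mem (mul_mem hg₁G hxG) (inv_mem hg₁G)
  have hx₁s : A.s x₁ = x₁ := by
    rw [hx₁, A.s_mul (mul_mem hg₁G hxG) (inv_mem hg₁G), A.s_mul hg₁G hxG, A.s_inv hg₁G, hg₁s, hxs]
  have hx₁T := hmemT x₁ hx₁U hx₁V hx₁G hx₁s
  have h1 : g * y * g⁻¹ ∈ T := by
    have e2 : g * y * g⁻¹ = w * x₁ * w⁻¹ := by
      rw [hx₁, hg₁, hy]
      group
    rw [e2]
    exact mul_mem (mul_mem hwT hx₁T) (inv_mem hwT)
  have hfix : ∀ z, z ∈ D.posUnipotent K → A.s z = z → g * z * g⁻¹ ∈ T := by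
    intro z h2 h3
    have hzG := hG.posUnipotent_le_group h2
    refine P.U_fixed_le' (Subgroup.mem_inf.2 ⟨hE.H_U hG hg h2, mul_mem (mul_mem hgG hzG) (inv_mem hgG), ?_⟩)
    show A.s (g * z * g⁻¹) = g * z * g⁻¹
    rw [A.s_mul (mul_mem hgG hzG) (inv_mem hgG), A.s_mul hgG hzG, A.s_inv hgG, hs, h3]
  have h2 : g * m * g⁻¹ ∈ T := by
    have e2 : g * m * g⁻¹ = (g * a * g⁻¹)⁻¹ * (g * y * g⁻¹) * (g * c * g⁻¹)⁻¹ := by
      rw [e]
      group
    rw [e2]
    exact mul_mem (mul_mem (inv_mem (hfix a ha'.1 ha'.2.2)) h1) (inv_mem (hfix c hc'.1 hc'.2.2))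
  have h3 : g * m * g⁻¹ * m⁻¹ ∈ T := mul_mem h2 (inv_mem hm'.2)
  have e3 : g * m * g⁻¹ * m⁻¹ = g * (w * g⁻¹ * w⁻¹) := by
    set h₁ := m * w⁻¹ with hh₁
    have e4 : m = h₁ * w := by
      rw [hh₁]
      group
    have hk : w * g⁻¹ * w⁻¹ ∈ D.diagonalSubgroup K := hE.diagonal_conj hG hwN (inv_mem hg)
    have hc2 : (w * g⁻¹ * w⁻¹) * h₁⁻¹ = h₁⁻¹ * (w * g⁻¹ * w⁻¹) := hG.diagonal_comm hk (inv_mem hmH)
    rw [e4]
    have e5 : g * (h₁ * w) * g⁻¹ * (h₁ * w)⁻¹ = (g * h₁) * ((w * g⁻¹ * w⁻¹) * h₁⁻¹) := by group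
    rw [e5, hc2]
    group
  rwa [e3] at h3

/-- The rank one property for negative elements. -/
lemma rank1_neg (j : Dt.ι) {m a c y : GL D.Idx K} (hm : m ∈ D.monomialSubgroup K) (hs : A.s m = m) (ha : a ∈ D.posUnipotent K) (hc : c ∈ D.posUnipotent K)
    (hy : y ∈ hG.Xm K (fun r => lamJ C D.rank (Dt.J j) r = 0)) (e : y = a * m * c) (hy1 : y ≠ 1) :
    m * (Dt.w hE hB j)⁻¹ ∈ D.diagonalSubgroup K := by
  set J := Dt.J j with hJ
  have hys' : y ∈ D.parabolicSubgroup K J := by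
    rw [hE.parabolic_eq_gens hG]
    apply Subgroup.mem_sup_right
    have : hG.Xm K (fun r => lamJ C D.rank J r = 0) ≤ hG.Xge K J := by
      apply hG.Xm_le_of
      intro r h1 _ h3 t
      exact Subgroup.subset_closure ⟨r, ⟨h1, by omega⟩, t, rfl⟩
    exact this hy
  have hUP : D.posUnipotent K ≤ D.parabolicSubgroup K J := le_trans le_sup_left le_sup_left
  have hmP : m ∈ D.parabolicSubgroup K J := by
    have e2 : m = a⁻¹ * y * c⁻¹ := by
      rw [e]
      group
    rw [e2]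
    exact mul_mem (mul_mem (inv_mem (hUP ha)) hys') (inv_mem (hUP hc))
  obtain ⟨τ, d, hi⟩ := hG.mono_of_mem_N hE hm
  have hτ := hE.perm_mem_WJ hG hB hm hmP hi
  have hc' := A.perm_comm hE (hG.monomial_le_group hm) hs hi
  have h1 : τ ≠ 1 := by
    rintro rfl
    have hmH := hE.mem_H_of_perm hG hB hm hi
    apply hy1
    apply hE.B_V hG _ (hE.Xm_le_V hG _ hy)
    rw [e]
    exact mul_mem (mul_mem (Subgroup.mem_sup_left ha) (Subgroup.mem_sup_right hmH)) (Subgroup.mem_sup_left hc)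
  have hsign : SignJ D C τ J := by
    apply hE.signJ_of_orbit hG hB hτ _ h1
    intro i hi i' hi' hiJ hiJ' h
    exact (Dt.sign_orbit hE hc' j i hi i' hi' hiJ hiJ').1 h
  have h2 := hE.signJ_unique hG hB hτ (Dt.w_W hE hB j) hsign (Dt.w_sign hE hB j)
  have h3 := hi.mul (Dt.w_mono hE hB j).inv
  rw [h2, mul_inv_cancel] at h3
  exact hE.mem_H_of_perm hG hB (mul_mem hm (inv_mem (Dt.w_N hE hB j))) h3

/-- The order of the fixed points of `U_m`, when the order of the root groups are powers of `Q` with half the number of roots as exponent. -/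
theorem card_Un2 {Q : ℕ} (hQ : ∀ j, ∃ v : ℕ, (posJ D C (Dt.J j)).card = 2 * v ∧ Nat.card ↥((A.base hE hB).Un (Dt.w hE hB j) ⊓ (A.base hE hB).Fx) = Q ^ v) :
    ∀ (k : ℕ) (m : GL D.Idx K), m ∈ D.monomialSubgroup K → A.s m = m → invN D (hG.permOf m) ≤ k →
      Nat.card ↥((A.base hE hB).Un m ⊓ (A.base hE hB).Fx) = Q ^ (invN D (hG.permOf m) / 2) ∧ Even (invN D (hG.permOf m)) := by
  have hdiag : ∀ m : GL D.Idx K, m ∈ D.diagonalSubgroup K →
      Nat.card ↥((A.base hE hB).Un m ⊓ (A.base hE hB).Fx) = Q ^ (invN D (hG.permOf m) / 2) ∧ Even (invN D (hG.permOf m)) := by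
    intro m hm
    have h1 : (A.base hE hB).Un m ⊓ (A.base hE hB).Fx = ⊥ := by
      rw [eq_bot_iff]
      rintro u ⟨⟨hu1, hu2⟩, -⟩
      have h3 : m * u * m⁻¹ = 1 := (A.base hE hB).U_V _ ((A.base hE hB).H_U m hm u hu1) hu2
      have e : u = m⁻¹ * (m * u * m⁻¹) * m := by group
      rw [e, h3]
      simp
    obtain ⟨τ, d, hi⟩ := hG.mono_of_mem_N hE (hG.diagonal_le_monomial hm)
    have h2 := hE.perm_of_H hG hB hm hi
    subst h2
    rw [h1, permOf_eq hi]
    have h3 : invN D 1 = 0 := by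
      rw [invN_eq_zero_iff]
      intro r hr
      exact hr
    rw [h3]
    simp
  intro k
  induction k with
  | zero =>
    intro m hm hs hk
    rcases Dt.step_field hE hB hm hs with h | ⟨j, h1, h2, h3, h4⟩
    · exact hdiag m h
    · omega
  | succ k ih =>
    intro m hm hs hk
    rcases Dt.step_field hE hB hm hs with h | ⟨j, h1, h2, h3, h4⟩
    · exact hdiag m h
    · have hwF : Dt.w hE hB j ∈ (A.base hE hB).N ⊓ (A.base hE hB).Fx :=
        Subgroup.mem_inf.2 ⟨Dt.w_N hE hB j, Dt.T_le (Dt.w_T hE hB j), Dt.T_fix _ (Dt.w_T hE hB j)⟩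
      have h5 := (A.base hE hB).card_step hwF (Dt.w_sq hE hB j) (fun x hx => h1 x hx.1 hx.2) (fun z hz => h2 z hz.1 hz.2)
      have hmG := hG.monomial_le_group hm
      have hwG := hG.monomial_le_group (Dt.w_N hE hB j)
      obtain ⟨h6, h7⟩ := ih (m * Dt.w hE hB j) (mul_mem hm (Dt.w_N hE hB j)) (by
        rw [A.s_mul hmG hwG, hs, Dt.T_fix _ (Dt.w_T hE hB j)]) (by omega)
      obtain ⟨v, hv1, hv2⟩ := hQ j
      obtain ⟨l, hl⟩ := h7
      refine ⟨?_, ?_⟩
      · rw [h5, h6, hv2, ← pow_add]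
        congr 1
        omega
      · exact ⟨l + v, by omega⟩

/-- The character of the commutator with the chosen elements of `N`. -/
theorem comm_isMono (j : Dt.ι) {g : GL D.Idx K} {d : Fin D.nroots → K} (hd : IsMono hG g 1 d) :
    IsMono hG (g * (Dt.w hE hB j * g⁻¹ * (Dt.w hE hB j)⁻¹)) 1 (fun s => d s * (d (Dt.τw hE hB j s))⁻¹) := by
  have h1 := hd.hmul (hd.hinv.hconj (Dt.w_mono hE hB j))
  have e : (Dt.τw hE hB j)⁻¹ = Dt.τw hE hB j := inv_eq_of_mul_eq_one_left (Dt.τw_sq hE hB j)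
  rw [e] at h1
  exact h1

end TwData

end act

end CfsgLib.Chev
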