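/-
The torus and the order of `³D₄`.
-/
import Cfsg.Agent.Lib.Tw.Chars

set_option autoImplicit false
set_option synthInstance.maxHeartbeats 400000
set_option synthInstance.maxSize 1024

namespace CfsgLib.Chev

open Cfsg.Lie Cfsg.Lie.ChevalleyDatum CfsgLib.BN

section gp

variable {G : Type*} [Group G] {F : Type*} [Field F]

lemma block3 {p q r p' q' r' : G} (h1 : p' * q = q * p') (h2 : q' * r = r * q') (h3 : p' * r = r * p') :
    (p * p') * (q * q') * (r * r') = (p * q * r) * (p' * q' * r') := by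
  have e1 : (p * p') * (q * q') * (r * r') = p * (p' * q) * (q' * r) * r' := by group
  rw [e1, h1, h2]
  have e2 : p * (q * p') * (r * q') * r' = p * q * (p' * r) * q' * r' := by group
  rw [e2, h3]
  group

lemma nn_comm {X Y X' Y' : F → G} (h1 : ∀ s t, Commute (X s) (X' t)) (h2 : ∀ s t, Commute (X s) (Y' t)) (h3 : ∀ s t, Commute (Y s) (X' t))
    (h4 : ∀ s t, Commute (Y s) (Y' t)) (s t : F) : Commute (nn X Y s) (nn X' Y' t) := by
  unfold nn
  have hX : ∀ s', Commute (X s') (X' t * Y' (-t⁻¹) * X' t) := fun s' => ((h1 s' t).mul_right (h2 s' _)).mul_right (h1 s' t)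
  have hY : ∀ s', Commute (Y s') (X' t * Y' (-t⁻¹) * X' t) := fun s' => ((h3 s' t).mul_right (h4 s' _)).mul_right (h3 s' t)
  exact ((hX s).mul_left (hY _)).mul_left (hX s)

lemma nn_prod {X Y X' Y' : F → G} (h1 : ∀ s t, Commute (X s) (X' t)) (h2 : ∀ s t, Commute (X s) (Y' t)) (h3 : ∀ s t, Commute (Y s) (X' t)) (t : F) :
    nn (fun s => X s * X' s) (fun s => Y s * Y' s) t = nn X Y t * nn X' Y' t := by
  unfold nn
  exact block3 (h3 _ _).symm.eq (h2 _ _).symm.eq (h1 _ _).symm.eq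

lemma hh_prod {X Y X' Y' : F → G} (h1 : ∀ s t, Commute (X s) (X' t)) (h2 : ∀ s t, Commute (X s) (Y' t)) (h3 : ∀ s t, Commute (Y s) (X' t))
    (h4 : ∀ s t, Commute (Y s) (Y' t)) (t : F) :
    hh (fun s => X s * X' s) (fun s => Y s * Y' s) t = hh X Y t * hh X' Y' t := by
  unfold hh
  rw [nn_prod h1 h2 h3, nn_prod h1 h2 h3]
  have c := (nn_comm h1 h2 h3 h4 (-1) t).eq
  calc nn X Y t * nn X' Y' t * (nn X Y (-1) * nn X' Y' (-1)) = nn X Y t * (nn X' Y' t * nn X Y (-1)) * nn X' Y' (-1) := by group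
    _ = nn X Y t * (nn X Y (-1) * nn X' Y' t) * nn X' Y' (-1) := by rw [c]
    _ = _ := by group

lemma hh_mem {X Y : F → G} {T : Subgroup G} {t : F} (hX : X t ∈ T) (hX' : X (-1) ∈ T) (hY : Y (-t⁻¹) ∈ T) (hY' : Y (-(-1 : F)⁻¹) ∈ T) : hh X Y t ∈ T := by
  unfold hh nn
  exact mul_mem (mul_mem (mul_mem hX hY) hX) (mul_mem (mul_mem hX' hY') hX')

end gp

section D4

variable {K : Type*} [Field K] {q : ℕ} (φ : K ≃+* K) (hφ : ∀ t, φ t = t ^ q) (hφ3 : ∀ t, φ (φ (φ t)) = t)

local notation "Xr" => TD4.good.xG (F := K)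

/-- Root indices as elements of `Fin`. -/
abbrev d4P1 : Fin chevD4.nroots := ⟨18, by decide +kernel⟩
abbrev d4P2 : Fin chevD4.nroots := ⟨14, by decide +kernel⟩
abbrev d4P3 : Fin chevD4.nroots := ⟨13, by decide +kernel⟩
abbrev d4P4 : Fin chevD4.nroots := ⟨12, by decide +kernel⟩

lemma d4_c {r s : ℕ} (hr : r < chevD4.nroots) (hs : s < chevD4.nroots) (h1 : s ≠ r) (h2 : s ≠ chevD4.neg r) (hc : chevD4.commTerms r s = []) (a b : K) :
    Commute (Xr s a) (Xr r b) := TD4.good.x_comm hr hs h1 h2 hc b a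

/-- The torus elements of the orbit. -/
lemma d4_orb (b : K) : hh (fun s => Xr d4p1 s * Xr d4p3 (φ s) * Xr d4p4 (φ (φ s))) (fun s => Xr d4m1 s * Xr d4m3 (φ s) * Xr d4m4 (φ (φ s))) b =
    TD4.good.hhG d4p1 b * TD4.good.hhG d4p3 (φ b) * TD4.good.hhG d4p4 (φ (φ b)) := by
  have key : ∀ (r r' : ℕ) (g : K ≃+* K), chevD4.neg r = r' → hh (fun s => Xr r (g s)) (fun s => Xr r' (g s)) b = TD4.good.hhG r (g b) := by
    rintro r r' g rfl
    unfold Good.hhG hh nn
    simp only [map_neg, map_inv₀, map_one]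
  have e1 := hh_prod (X := fun s => Xr d4p1 s * Xr d4p3 (φ s)) (Y := fun s => Xr d4m1 s * Xr d4m3 (φ s))
    (X' := fun s => Xr d4p4 (φ (φ s))) (Y' := fun s => Xr d4m4 (φ (φ s)))
    (fun s t => (d4_c (by decide +kernel) (by decide +kernel) (by decide +kernel) (by decide +kernel) (by decide +kernel) _ _).mul_left (d4_c (by decide +kernel) (by decide +kernel) (by decide +kernel) (by decide +kernel) (by decide +kernel) _ _))
    (fun s t => (d4_c (by decide +kernel) (by decide +kernel) (by decide +kernel) (by decide +kernel) (by decide +kernel) _ _).mul_left (d4_c (by decide +kernel) (by decide +kernel) (by decide +kernel) (by decide +kernel) (by decide +kernel) _ _))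
    (fun s t => (d4_c (by decide +kernel) (by decide +kernel) (by decide +kernel) (by decide +kernel) (by decide +kernel) _ _).mul_left (d4_c (by decide +kernel) (by decide +kernel) (by decide +kernel) (by decide +kernel) (by decide +kernel) _ _))
    (fun s t => (d4_c (by decide +kernel) (by decide +kernel) (by decide +kernel) (by decide +kernel) (by decide +kernel) _ _).mul_left (d4_c (by decide +kernel) (by decide +kernel) (by decide +kernel) (by decide +kernel) (by decide +kernel) _ _)) b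
  have e2 := hh_prod (X := fun s => Xr d4p1 s) (Y := fun s => Xr d4m1 s)
    (X' := fun s => Xr d4p3 (φ s)) (Y' := fun s => Xr d4m3 (φ s))
    (fun s t => d4_c (by decide +kernel) (by decide +kernel) (by decide +kernel) (by decide +kernel) (by decide +kernel) _ _)
    (fun s t => d4_c (by decide +kernel) (by decide +kernel) (by decide +kernel) (by decide +kernel) (by decide +kernel) _ _)
    (fun s t => d4_c (by decide +kernel) (by decide +kernel) (by decide +kernel) (by decide +kernel) (by decide +kernel) _ _)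
    (fun s t => d4_c (by decide +kernel) (by decide +kernel) (by decide +kernel) (by decide +kernel) (by decide +kernel) _ _) b
  have e3 := key d4p3 d4m3 φ (by decide +kernel)
  have e4 := key d4p4 d4m4 (φ.trans φ) (by decide +kernel)
  have e5 : hh (fun s => Xr d4p1 s) (fun s => Xr d4m1 s) b = TD4.good.hhG d4p1 b := by
    have : chevD4.neg d4p1 = d4m1 := by decide +kernel
    unfold Good.hhG
    rw [this]
  simp only [RingEquiv.coe_trans, Function.comp_apply] at e4
  rw [e1, e2, e3, e4, e5]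

include hφ in
/-- The elements of the orbit are in the group. -/
lemma d4_hh_mem (b : K) (hb : b ≠ 0) : TD4.good.hhG d4p1 b * TD4.good.hhG d4p3 (φ b) * TD4.good.hhG d4p4 (φ (φ b)) ∈ twistedD4 K q := by
  rw [← d4_orb φ b]
  have e2 : ∀ t : K, t ^ (q ^ 2) = φ (φ t) := fun t => by
    rw [hφ, hφ, ← pow_mul, pow_two]
  have h1 : ∀ t : K, Xr d4p1 t * Xr d4p3 (φ t) * Xr d4p4 (φ (φ t)) ∈ twistedD4 K q := by
    intro t
    have h5 : TD4.good.wordG [(d4p1, t), (d4p3, t ^ q), (d4p4, t ^ (q ^ 2))] ∈ twistedD4 K q :=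
      TD4.good.wordG_mem_gen (Or.inr ⟨t, (d4p1, d4p3, d4p4), by simp, rfl⟩)
    simp only [Good.wordG, List.map_cons, List.map_nil, List.prod_cons, List.prod_nil, mul_one] at h5
    rw [e2, ← hφ, ← mul_assoc] at h5
    exact h5
  have h2 : ∀ t : K, Xr d4m1 t * Xr d4m3 (φ t) * Xr d4m4 (φ (φ t)) ∈ twistedD4 K q := by
    intro t
    have h5 : TD4.good.wordG [(d4m1, t), (d4m3, t ^ q), (d4m4, t ^ (q ^ 2))] ∈ twistedD4 K q :=
      TD4.good.wordG_mem_gen (Or.inr ⟨t, (d4m1, d4m3, d4m4), by simp, rfl⟩)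
    simp only [Good.wordG, List.map_cons, List.map_nil, List.prod_cons, List.prod_nil, mul_one] at h5
    rw [e2, ← hφ, ← mul_assoc] at h5
    exact h5
  exact hh_mem (h1 _) (h1 _) (h2 _) (h2 _)

include hφ in
/-- The elements of the central node are in the group. -/
lemma d4_hh_mem' {c : K} (hc : φ c = c) : TD4.good.hhG d4p2 c ∈ twistedD4 K q := by
  have h1 : ∀ t : K, φ t = t → Xr d4p2 t ∈ twistedD4 K q := by
    intro t ht
    have h5 : TD4.good.wordG [(d4p2, t)] ∈ twistedD4 K q :=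
      TD4.good.wordG_mem_gen (Or.inl ⟨t, by rw [← hφ, ht], d4p2, by simp, rfl⟩)
    simpa [Good.wordG] using h5
  have h2 : ∀ t : K, φ t = t → Xr d4m2 t ∈ twistedD4 K q := by
    intro t ht
    have h5 : TD4.good.wordG [(d4m2, t)] ∈ twistedD4 K q :=
      TD4.good.wordG_mem_gen (Or.inl ⟨t, by rw [← hφ, ht], d4m2, by simp, rfl⟩)
    simpa [Good.wordG] using h5
  have e : chevD4.neg d4p2 = d4m2 := by decide +kernel
  unfold Good.hhG
  rw [e]
  exact hh_mem (h1 _ hc) (h1 _ (by simp)) (h2 _ (by simp [hc])) (h2 _ (by simp))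

/-- The group element with prescribed parameters. -/
noncomputable def d4H (c b : K) : GL chevD4.Idx K :=
  TD4.good.hhG d4p2 c * (TD4.good.hhG d4p1 b * TD4.good.hhG d4p3 (φ b) * TD4.good.hhG d4p4 (φ (φ b)))

lemma d4H_mono {c b : K} (hc : c ≠ 0) (hb : b ≠ 0) : IsMono TD4.good (d4H φ c b) 1
    (fun s => c ^ cartanA chevD4 d4p2 s * (b ^ cartanA chevD4 d4p1 s * (φ b) ^ cartanA chevD4 d4p3 s * (φ (φ b)) ^ cartanA chevD4 d4p4 s)) := by
  have hb1 : φ b ≠ 0 := by simpa using hb
  have hb2 : φ (φ b) ≠ 0 := by simpa using hb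
  exact (TD4.good.isMono_hhG (by decide +kernel) hc).hmul (((TD4.good.isMono_hhG (by decide +kernel) hb).hmul (TD4.good.isMono_hhG (by decide +kernel) hb1)).hmul (TD4.good.isMono_hhG (by decide +kernel) hb2))

lemma d4H_mem_diag {c b : K} (hc : c ≠ 0) (hb : b ≠ 0) : d4H φ c b ∈ chevD4.diagonalSubgroup K := by
  have hb1 : φ b ≠ 0 := by simpa using hb
  have hb2 : φ (φ b) ≠ 0 := by simpa using hb
  exact mul_mem (TD4.good.hhG_mem_diagonal (by decide +kernel) hc) (mul_mem (mul_mem (TD4.good.hhG_mem_diagonal (by decide +kernel) hb) (TD4.good.hhG_mem_diagonal (by decide +kernel) hb1)) (TD4.good.hhG_mem_diagonal (by decide +kernel) hb2))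

include hφ in
lemma d4H_mem {c b : K} (hc : φ c = c) (hb : b ≠ 0) : d4H φ c b ∈ twistedD4 K q :=
  mul_mem (d4_hh_mem' φ hφ hc) (d4_hh_mem φ hφ b hb)

omit [Field K] in
lemma d4_simple_eq : chevD4.simple 0 = d4p1 ∧ chevD4.simple 1 = d4p2 ∧ chevD4.simple 2 = d4p3 ∧ chevD4.simple 3 = d4p4 := by
  decide +kernel

/-- The characters of the fixed elements. -/
lemma d4_chars_fixed {h : GL chevD4.Idx K} (hh : h ∈ chevD4.diagonalSubgroup K) (hs : (tD4 φ).s h = h) {d : Fin chevD4.nroots → K} (hd : IsMono TD4.good h 1 d) :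
    d d4P3 = φ (d d4P1) ∧ d d4P4 = φ (d d4P3) ∧ d d4P2 = φ (d d4P2) := by
  have key : ∀ {r r' : ℕ} (hr : r < chevD4.nroots) (hr' : r' < chevD4.nroots), d4π r = r' → d4ε r = 1 → φ (d ⟨r, hr⟩) = d ⟨r', hr'⟩ := by
    intro r r' hr hr' h1 h2
    have h3 := (tD4 φ).chars_of_fixed TD4.extra hh hs hd hr hr' h1 (by
      show ((d4ε r : ℤ) : K) * φ 1 = 1
      rw [h2]
      simp)
    have h4 : ((d4ε r : ℤ) : K) * φ (d ⟨r, hr⟩) = d ⟨r', hr'⟩ := h3
    rw [h2] at h4
    simpa using h4
  exact ⟨(key (by decide +kernel) (by decide +kernel) (by decide +kernel) (by decide +kernel)).symm,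
    (key (by decide +kernel) (by decide +kernel) (by decide +kernel) (by decide +kernel)).symm,
    (key (by decide +kernel) (by decide +kernel) (by decide +kernel) (by decide +kernel)).symm⟩

/-- The parameter set. -/
abbrev D4S (φ : K ≃+* K) : Type _ := {p : Kˣ × Kˣ // φ (p.1 : K) = p.1}

include hφ3 in
/-- The parameter map is bijective. -/
lemma d4ψ_surj [Finite K] (C B : Kˣ) (hC : φ (C : K) = C) : ∃ c b : Kˣ, φ (c : K) = c ∧
    (c : K) ^ 2 * ((b : K) * φ b * φ (φ b))⁻¹ = C ∧ (c : K)⁻¹ * (b : K) ^ 2 = B := by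
  let uφ : Kˣ →* Kˣ := Units.map (φ : K →* K)
  have huφ : ∀ x : Kˣ, ((uφ x : Kˣ) : K) = φ x := fun _ => rfl
  let ψ : D4S φ → D4S φ := fun p => ⟨(p.1.1 ^ 2 * (p.1.2 * uφ p.1.2 * uφ (uφ p.1.2))⁻¹, p.1.1⁻¹ * p.1.2 ^ 2), by
    have h := p.2
    simp only [Units.val_mul, Units.val_pow_eq_pow_val, Units.val_inv_eq_inv_val, huφ, map_mul, map_pow, map_inv₀, hφ3, h]
    ring⟩
  have hinj : Function.Injective ψ := by
    rintro ⟨⟨a, b⟩, ha⟩ ⟨⟨a', b'⟩, ha'⟩ hab
    simp only at ha ha'
    have h0 := congrArg Subtype.val hab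
    have h1 : (a : K) ^ 2 * ((b : K) * φ b * φ (φ b))⁻¹ = (a' : K) ^ 2 * ((b' : K) * φ b' * φ (φ b'))⁻¹ := by
      have := congrArg (fun p : Kˣ × Kˣ => (p.1 : K)) h0
      simpa [ψ, huφ] using this
    have h2 : (a : K)⁻¹ * (b : K) ^ 2 = (a' : K)⁻¹ * (b' : K) ^ 2 := by
      have := congrArg (fun p : Kˣ × Kˣ => (p.2 : K)) h0
      simpa [ψ] using this
    have hb : (b : K) ≠ 0 := b.ne_zero
    have hb' : (b' : K) ≠ 0 := b'.ne_zero
    have ha0 : (a : K) ≠ 0 := a.ne_zero
    have ha0' : (a' : K) ≠ 0 := a'.ne_zero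
    have hb1 : φ (b : K) ≠ 0 := by simp
    have hb1' : φ (b' : K) ≠ 0 := by simp
    have hb2 : φ (φ (b : K)) ≠ 0 := by simp
    have hb2' : φ (φ (b' : K)) ≠ 0 := by simp
    set v : K := (b : K) * (b' : K)⁻¹ with hv
    set u : K := (a : K) * (a' : K)⁻¹ with hu
    have hv0 : v ≠ 0 := mul_ne_zero hb (inv_ne_zero hb')
    have hu0 : u ≠ 0 := mul_ne_zero ha0 (inv_ne_zero ha0')
    have h3 : u = v ^ 2 := by
      rw [hu, hv]
      field_simp at h2 ⊢
      linear_combination (-1 : K) * h2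
    have h4 : u ^ 2 = v * φ v * φ (φ v) := by
      rw [hu, hv]
      simp only [map_mul, map_inv₀]
      field_simp at h1 ⊢
      linear_combination h1
    have hφu : φ u = u := by
      rw [hu, map_mul, map_inv₀, ha, ha']
    have h5 : φ v = v := by
      have h6 : (φ v) ^ 2 = v ^ 2 := by
        rw [← map_pow, ← h3, hφu]
      have h7 : (φ v - v) * (φ v + v) = 0 := by
        linear_combination h6
      rcases mul_eq_zero.1 h7 with h8 | h8
      · exact sub_eq_zero.1 h8
      · have h9 : φ v = -v := eq_neg_of_add_eq_zero_left h8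
        have h10 := hφ3 v
        simp only [h9, map_neg, neg_neg] at h10
        rw [h9]
        exact h10
    have h6 : v = 1 := by
      rw [h5, h5, h3] at h4
      have h7 : v ^ 3 * (v - 1) = 0 := by
        linear_combination h4
      rcases mul_eq_zero.1 h7 with h8 | h8
      · exact absurd (pow_eq_zero_iff (by norm_num) |>.1 h8) hv0
      · exact sub_eq_zero.1 h8
    have h7 : u = 1 := by
      rw [h3, h6, one_pow]
    apply Subtype.ext
    apply Prod.ext
    · apply Units.ext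
      rw [hu] at h7
      field_simp at h7
      exact h7
    · apply Units.ext
      rw [hv] at h6
      field_simp at h6
      exact h6
  have hsurj := Finite.injective_iff_surjective.1 hinj
  obtain ⟨⟨⟨c, b⟩, hc⟩, h⟩ := hsurj ⟨(C, B), hC⟩
  have h0 := congrArg Subtype.val h
  refine ⟨c, b, hc, ?_, ?_⟩
  · have := congrArg (fun p : Kˣ × Kˣ => (p.1 : K)) h0
    simpa [ψ, huφ] using this
  · have := congrArg (fun p : Kˣ × Kˣ => (p.2 : K)) h0
    simpa [ψ] using this

include hφ hφ3 in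
/-- The elements of `H¹`. -/
lemma d4_surj [Finite K] (C B : Kˣ) (hC : φ (C : K) = C) : ∃ k ∈ chevD4.diagonalSubgroup K ⊓ twistedD4 K q, ∃ d, IsMono TD4.good k 1 d ∧ d d4P2 = C ∧ d d4P1 = B := by
  obtain ⟨c, b, hc, e1, e2⟩ := d4ψ_surj φ hφ3 C B hC
  refine ⟨d4H φ c b, Subgroup.mem_inf.2 ⟨d4H_mem_diag φ c.ne_zero b.ne_zero, d4H_mem φ hφ hc b.ne_zero⟩, _, d4H_mono φ c.ne_zero b.ne_zero, ?_, ?_⟩
  · show (c : K) ^ cartanA chevD4 d4p2 d4p2 * ((b : K) ^ cartanA chevD4 d4p1 d4p2 * (φ b) ^ cartanA chevD4 d4p3 d4p2 * (φ (φ b)) ^ cartanA chevD4 d4p4 d4p2) = C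
    have a1 : cartanA chevD4 d4p2 d4p2 = 2 := by decide +kernel
    have a2 : cartanA chevD4 d4p1 d4p2 = -1 := by decide +kernel
    have a3 : cartanA chevD4 d4p3 d4p2 = -1 := by decide +kernel
    have a4 : cartanA chevD4 d4p4 d4p2 = -1 := by decide +kernel
    rw [a1, a2, a3, a4, ← e1]
    simp only [zpow_neg, zpow_one, zpow_ofNat]
    rw [mul_inv, mul_inv]
    simp only [pow_one]
  · show (c : K) ^ cartanA chevD4 d4p2 d4p1 * ((b : K) ^ cartanA chevD4 d4p1 d4p1 * (φ b) ^ cartanA chevD4 d4p3 d4p1 * (φ (φ b)) ^ cartanA chevD4 d4p4 d4p1) = B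
    have a1 : cartanA chevD4 d4p2 d4p1 = -1 := by decide +kernel
    have a2 : cartanA chevD4 d4p1 d4p1 = 2 := by decide +kernel
    have a3 : cartanA chevD4 d4p3 d4p1 = 0 := by decide +kernel
    have a4 : cartanA chevD4 d4p4 d4p1 = 0 := by decide +kernel
    rw [a1, a2, a3, a4, ← e2]
    simp only [zpow_neg, zpow_one, zpow_ofNat, zpow_zero, mul_one]
    simp only [pow_one, pow_zero, mul_one]

include hφ hφ3 in
/-- The order of `H¹`. -/
theorem d4_card_H [Finite K] : Nat.card ↥(chevD4.diagonalSubgroup K ⊓ twistedD4 K q) = Nat.card (D4S φ) := by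
  have hfix : ∀ g ∈ twistedD4 K q, (tD4 φ).s g = g := fun g hg => (d4_le_Fx φ hφ hφ3 hg).2
  have hs := fun p : D4S φ => d4_surj φ hφ hφ3 p.1.1 p.1.2 p.2
  choose f hf d hd hd1 hd2 using hs
  apply CfsgLib.Tw.card_of_param _ f
  · intro y y' h
    have h1 := hd y
    rw [h] at h1
    have h2 := h1.d_unique (hd y')
    apply Subtype.ext
    refine Prod.ext (Units.ext ?_) (Units.ext ?_)
    · rw [← hd1 y, h2, hd1]
    · rw [← hd2 y, h2, hd2]
  · intro x
    constructor
    · intro hx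
      obtain ⟨hx1, hx2⟩ := Subgroup.mem_inf.1 hx
      obtain ⟨τ, d', hi⟩ := TD4.good.mono_of_mem_N TD4.extra (TD4.good.diagonal_le_monomial hx1)
      have hτ1 := TD4.extra.perm_of_H TD4.good TD4.braid hx1 hi
      subst hτ1
      obtain ⟨e1, e2, e3⟩ := d4_chars_fixed φ hx1 (hfix _ hx2) hi
      refine ⟨⟨(Units.mk0 (d' d4P2) (hi.d_ne _), Units.mk0 (d' d4P1) (hi.d_ne _)), e3.symm⟩, ?_⟩
      set y : D4S φ := ⟨(Units.mk0 (d' d4P2) (hi.d_ne _), Units.mk0 (d' d4P1) (hi.d_ne _)), e3.symm⟩ with hy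
      obtain ⟨h1, h2⟩ := Subgroup.mem_inf.1 (hf y)
      apply TD4.extra.H_ext TD4.good h1 hx1 (hd y) hi
      have e4 : d y d4P2 = d' d4P2 := by rw [hd1, hy]; rfl
      have e5 : d y d4P1 = d' d4P1 := by rw [hd2, hy]; rfl
      obtain ⟨e6, e7, -⟩ := d4_chars_fixed φ h1 (hfix _ h2) (hd y)
      intro i hi'
      have hi'' : i < 4 := hi'
      interval_cases i
      · exact e5
      · exact e4
      · show d y d4P3 = d' d4P3
        rw [e6, e1, e5]
      · show d y d4P4 = d' d4P4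
        rw [e7, e2, e6, e1, e5]
    · rintro ⟨a, rfl⟩
      exact hf a

include hφ in
/-- The number of parameters. -/
lemma d4S_card [Fintype K] (hq : 1 < q) (hK : Fintype.card K = q ^ 3) : Nat.card (D4S φ) = (q - 1) * (q ^ 3 - 1) := by
  classical
  have h1 : Nat.card {t : K // φ t = t} = q := by
    have := CfsgLib.Tw.card_fixed_pow (F := K) hq hK
    rw [← this]
    simp only [hφ]
  -- units fixed by `φ`
  have h2 : Nat.card {t : K // φ t = t} = Nat.card {c : Kˣ // φ (c : K) = c} + 1 := by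
    rw [← Finite.card_option]
    apply Nat.card_congr
    refine Equiv.symm (Equiv.ofBijective (fun o : Option {c : Kˣ // φ (c : K) = c} => match o with
      | none => (⟨0, by simp⟩ : {t : K // φ t = t})
      | some x => ⟨((x.1 : Kˣ) : K), x.2⟩) ⟨?_, ?_⟩)
    · intro o o' e
      rcases o with _ | x <;> rcases o' with _ | x'
      · rfl
      · have : (0 : K) = ((x'.1 : Kˣ) : K) := congrArg Subtype.val e
        exact absurd this.symm x'.1.ne_zero
      · have : ((x.1 : Kˣ) : K) = 0 := congrArg Subtype.val e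
        exact absurd this x.1.ne_zero
      · have : ((x.1 : Kˣ) : K) = ((x'.1 : Kˣ) : K) := congrArg Subtype.val e
        congr 1
        exact Subtype.ext (Units.ext this)
    · rintro ⟨t, ht⟩
      by_cases h0 : t = 0
      · subst h0
        exact ⟨none, rfl⟩
      · exact ⟨some ⟨Units.mk0 t h0, ht⟩, rfl⟩
  have h3 : Nat.card (D4S φ) = Nat.card ({c : Kˣ // φ (c : K) = c} × Kˣ) := by
    apply Nat.card_congr
    exact {
      toFun := fun p => (⟨p.1.1, p.2⟩, p.1.2)
      invFun := fun p => ⟨(p.1.1, p.2), p.1.2⟩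
      left_inv := fun _ => rfl
      right_inv := fun _ => rfl }
  rw [h3, Nat.card_prod, Nat.card_eq_fintype_card (α := Kˣ), Fintype.card_units, hK]
  have h4 : Nat.card {c : Kˣ // φ (c : K) = c} = q - 1 := by omega
  rw [h4]

include hφ hφ3 in
/-- The fixed points of the rank one groups. -/
lemma d4_hQ [Fintype K] (hq : 1 < q) (hK : Fintype.card K = q ^ 3) (Dt : TwData (tD4 φ) (twistedD4 K q)) (e' : Dt.ι ≃ Fin 2) (hJ : ∀ j, Dt.J j = {i | i ∈ d4J (e' j)}) :
    ∀ j, Nat.card ↥(((tD4 φ).base TD4.extra TD4.braid).Un (Dt.w TD4.extra TD4.braid j) ⊓ ((tD4 φ).base TD4.extra TD4.braid).Fx) ^ 1 =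
      q ^ (posJ chevD4 TD4.cert (Dt.J j)).card := by
  have hfix : Nat.card {t : K // φ t = t} = q := by
    have := CfsgLib.Tw.card_fixed_pow (F := K) hq hK
    rw [← this]
    simp only [hφ]
  have hcK : Nat.card K = q ^ 3 := by rw [Nat.card_eq_fintype_card, hK]
  have htwo : ∀ {r r' : ℕ}, r < chevD4.nroots → d4π r = r' → d4ε r = 1 → ∀ t : K, (tD4 φ).s (TD4.good.xG r t) = TD4.good.xG r' (φ t) := by
    intro r r' hr h1 h2 t
    rw [tD4_s φ hr, h1, h2]
    simp
  intro j
  have hj := hJ j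
  generalize e' j = i at hj
  rw [pow_one]
  fin_cases i
  · have hj' : Dt.J j = {i | i ∈ [1]} := hj
    rw [Dt.card_X_one TD4.extra TD4.braid j hj' (r := d4p2) (by decide +kernel) (by decide +kernel) (by decide +kernel) (g := φ) (htwo (by decide +kernel) (by decide +kernel) (by decide +kernel)),
      hfix, hj', TD4.extra.card_posJ (hG := TD4.good) (Jl := [1]) (L := [d4p2]) (by decide +kernel) (by decide +kernel) (by decide +kernel)]
    exact (pow_one q).symm
  · have hj' : Dt.J j = {i | i ∈ [0, 2, 3]} := hj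
    rw [Dt.card_X_three TD4.extra TD4.braid j hj' (a := d4p4) (b := d4p3) (c := d4p1) (by decide +kernel) (by decide +kernel) (by decide +kernel) (by decide +kernel) (by decide +kernel) (by decide +kernel) (by decide +kernel) (by decide +kernel) (by decide +kernel)
      (fun s t => TD4.good.x_comm (by decide +kernel) (by decide +kernel) (by decide +kernel) (by decide +kernel) (by decide +kernel) t s)
      (fun s t => TD4.good.x_comm (by decide +kernel) (by decide +kernel) (by decide +kernel) (by decide +kernel) (by decide +kernel) t s)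
      (fun s t => TD4.good.x_comm (by decide +kernel) (by decide +kernel) (by decide +kernel) (by decide +kernel) (by decide +kernel) t s)
      (g := φ) (htwo (by decide +kernel) (by decide +kernel) (by decide +kernel)) (htwo (by decide +kernel) (by decide +kernel) (by decide +kernel)) (htwo (by decide +kernel) (by decide +kernel) (by decide +kernel)) hφ3,
      hcK, hj', TD4.extra.card_posJ (hG := TD4.good) (Jl := [0, 2, 3]) (L := [d4p4, d4p3, d4p1]) (by decide +kernel) (by decide +kernel) (by decide +kernel)]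
    rfl

/-- The digits of the Weyl group of the fixed points. -/
noncomputable def d4Dig (c : List ℕ) (r : ℕ) : ℕ := (actW TD4.cert c r).1

/-- The generators. -/
def d4Gen (i : Fin 2) : List ℕ := if i = 0 then [1] else [0, 2, 3]

/-- The elements of the Weyl group of the fixed points. -/
def d4Codes : List (List ℕ) :=
  [[], [1], [0, 2, 3], [0, 2, 3, 1], [1, 0, 2, 3], [1, 0, 2, 3, 1], [0, 2, 3, 1, 0, 2, 3],
    [0, 2, 3, 1, 0, 2, 3, 1], [1, 0, 2, 3, 1, 0, 2, 3], [1, 0, 2, 3, 1, 0, 2, 3, 1],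
    [0, 2, 3, 1, 0, 2, 3, 1, 0, 2, 3], [0, 2, 3, 1, 0, 2, 3, 1, 0, 2, 3, 1]]

set_option maxRecDepth 100000 in
lemma d4Codes_inv : d4Codes.map (TwData.invC d4Dig chevD4.nroots) = [0, 1, 3, 4, 4, 5, 7, 8, 8, 9, 11, 12] := by
  decide +kernel

set_option maxRecDepth 100000 in
include hφ hφ3 in
/-- The order of the group, given the order of the torus. -/
theorem d4_card_T [Fintype K] (hq : 1 < q) (hK : Fintype.card K = q ^ 3) :
    Nat.card ↥(twistedD4 K q) = q ^ 12 * Nat.card ↥(chevD4.diagonalSubgroup K ⊓ twistedD4 K q) *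
      (1 + q + q ^ 3 + q ^ 4 + q ^ 4 + q ^ 5 + q ^ 7 + q ^ 8 + q ^ 8 + q ^ 9 + q ^ 11 + q ^ 12) := by
  obtain ⟨Dt, e', hJ⟩ := d4_td φ hφ hφ3
  have hU := d4_card_U φ hφ hφ3 hq hK
  have hk := d4_hQ φ hφ hφ3 hq hK Dt e' hJ
  have h1 := Dt.card_T TD4.extra TD4.braid (fun k => q ^ k) (fun m hm => by
    obtain ⟨hm1, hm2⟩ := Subgroup.mem_inf.1 hm
    have := Dt.card_Un TD4.extra TD4.braid hk _ m hm1 (Dt.T_fix m hm2) le_rfl
    rwa [pow_one] at this)
  have hgen : ∀ j r (hr : r < chevD4.nroots), ((Dt.τw TD4.extra TD4.braid j) ⟨r, hr⟩).val = d4Dig (d4Gen (e' j)) r := by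
    intro j r hr
    have hj := hJ j
    rcases h : e' j with ⟨i, hi⟩
    rw [h] at hj
    have hi' : i < 2 := hi
    interval_cases i
    · exact Dt.τw_val_eq TD4.extra TD4.braid j (Jl := [1]) (L := [1]) hj (by decide +kernel) (by decide +kernel) r hr
    · exact Dt.τw_val_eq TD4.extra TD4.braid j (Jl := [0, 2, 3]) (L := [0, 2, 3]) hj (by decide +kernel) (by decide +kernel) r hr
  have h2 := Dt.sum_W1 TD4.extra TD4.braid d4Dig d4Codes e' d4Gen hgen
    (by decide +kernel) (by decide +kernel) (by decide +kernel) (by decide +kernel) (fun k => q ^ k)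
  beta_reduce at h2
  rw [h1, hU, h2]
  have h3 : (d4Codes.map fun c => q ^ (TwData.invC d4Dig chevD4.nroots c)) = (d4Codes.map (TwData.invC d4Dig chevD4.nroots)).map (fun k => q ^ k) := by
    rw [List.map_map]
    rfl
  rw [h3, d4Codes_inv]
  simp only [List.map_cons, List.map_nil, List.sum_cons, List.sum_nil]
  ring

end D4

end CfsgLib.Chev
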