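/-
The torus of `²E₆`.
-/
import Cfsg.Agent.Lib.Tw.OrdD4

set_option autoImplicit false
set_option synthInstance.maxHeartbeats 400000
set_option synthInstance.maxSize 1024

namespace CfsgLib.Chev

open Cfsg.Lie Cfsg.Lie.ChevalleyDatum CfsgLib.BN

section E6

variable {K : Type*} [Field K] {q : ℕ} (φ : K ≃+* K) (hφ : ∀ t, φ t = t ^ q) (hφ2 : ∀ t, φ (φ t) = t)

local notation "Xr" => TE6.good.xG (F := K)

/-- Root indices as elements of `Fin`. -/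
abbrev e6P1 : Fin chevE6.nroots := ⟨56, by decide +kernel⟩
abbrev e6P2 : Fin chevE6.nroots := ⟨46, by decide +kernel⟩
abbrev e6P3 : Fin chevE6.nroots := ⟨42, by decide +kernel⟩
abbrev e6P4 : Fin chevE6.nroots := ⟨39, by decide +kernel⟩
abbrev e6P5 : Fin chevE6.nroots := ⟨37, by decide +kernel⟩
abbrev e6P6 : Fin chevE6.nroots := ⟨36, by decide +kernel⟩

/-- The characters of the fixed elements. -/
lemma e6_chars_fixed {h : GL chevE6.Idx K} (hh : h ∈ chevE6.diagonalSubgroup K) (hs : (tE6 φ).s h = h) {d : Fin chevE6.nroots → K} (hd : IsMono TE6.good h 1 d) :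
    φ (d e6P1) = d e6P6 ∧ φ (d e6P6) = d e6P1 ∧ φ (d e6P3) = d e6P5 ∧ φ (d e6P5) = d e6P3 ∧ φ (d e6P2) = d e6P2 ∧ φ (d e6P4) = d e6P4 := by
  have key : ∀ {r r' : ℕ} (hr : r < chevE6.nroots) (hr' : r' < chevE6.nroots), spE6.π r = r' → spE6.σ r = 1 → φ (d ⟨r, hr⟩) = d ⟨r', hr'⟩ := by
    intro r r' hr hr' h1 h2
    have h3 := (tE6 φ).chars_of_fixed TE6.extra hh hs hd hr hr' h1 (by
      show ((spE6.σ r : ℤ) : K) * φ 1 = 1
      rw [h2]
      simp)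
    have h4 : ((spE6.σ r : ℤ) : K) * φ (d ⟨r, hr⟩) = d ⟨r', hr'⟩ := h3
    rw [h2] at h4
    simpa using h4
  exact ⟨key (by decide +kernel) (by decide +kernel) (by decide +kernel) (by decide +kernel),
    key (by decide +kernel) (by decide +kernel) (by decide +kernel) (by decide +kernel),
    key (by decide +kernel) (by decide +kernel) (by decide +kernel) (by decide +kernel),
    key (by decide +kernel) (by decide +kernel) (by decide +kernel) (by decide +kernel),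
    key (by decide +kernel) (by decide +kernel) (by decide +kernel) (by decide +kernel),
    key (by decide +kernel) (by decide +kernel) (by decide +kernel) (by decide +kernel)⟩

omit [Field K] in
/-- The Cartan matrix on the simple roots. -/
lemma e6_cartan : cartanA chevE6 e6p1 e6p1 = 2 ∧
    cartanA chevE6 e6p1 e6p2 = 0 ∧
    cartanA chevE6 e6p1 e6p3 = -1 ∧
    cartanA chevE6 e6p1 e6p4 = 0 ∧
    cartanA chevE6 e6p1 e6p5 = 0 ∧
    cartanA chevE6 e6p1 e6p6 = 0 ∧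
    cartanA chevE6 e6p2 e6p1 = 0 ∧
    cartanA chevE6 e6p2 e6p2 = 2 ∧
    cartanA chevE6 e6p2 e6p3 = 0 ∧
    cartanA chevE6 e6p2 e6p4 = -1 ∧
    cartanA chevE6 e6p2 e6p5 = 0 ∧
    cartanA chevE6 e6p2 e6p6 = 0 ∧
    cartanA chevE6 e6p3 e6p1 = -1 ∧
    cartanA chevE6 e6p3 e6p2 = 0 ∧
    cartanA chevE6 e6p3 e6p3 = 2 ∧
    cartanA chevE6 e6p3 e6p4 = -1 ∧
    cartanA chevE6 e6p3 e6p5 = 0 ∧
    cartanA chevE6 e6p3 e6p6 = 0 ∧
    cartanA chevE6 e6p4 e6p1 = 0 ∧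
    cartanA chevE6 e6p4 e6p2 = -1 ∧
    cartanA chevE6 e6p4 e6p3 = -1 ∧
    cartanA chevE6 e6p4 e6p4 = 2 ∧
    cartanA chevE6 e6p4 e6p5 = -1 ∧
    cartanA chevE6 e6p4 e6p6 = 0 ∧
    cartanA chevE6 e6p5 e6p1 = 0 ∧
    cartanA chevE6 e6p5 e6p2 = 0 ∧
    cartanA chevE6 e6p5 e6p3 = 0 ∧
    cartanA chevE6 e6p5 e6p4 = -1 ∧
    cartanA chevE6 e6p5 e6p5 = 2 ∧
    cartanA chevE6 e6p5 e6p6 = -1 ∧
    cartanA chevE6 e6p6 e6p1 = 0 ∧
    cartanA chevE6 e6p6 e6p2 = 0 ∧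
    cartanA chevE6 e6p6 e6p3 = 0 ∧
    cartanA chevE6 e6p6 e6p4 = 0 ∧
    cartanA chevE6 e6p6 e6p5 = -1 ∧
    cartanA chevE6 e6p6 e6p6 = 2 := by
  decide +kernel

/-- The simple characters of a product. -/
def e6F (t0 t1 t2 t3 t4 t5 : K) (j : ℕ) : K :=
  match j with
  | 0 => t0 ^ 2 * t2⁻¹
  | 1 => t1 ^ 2 * t3⁻¹
  | 2 => t2 ^ 2 * t0⁻¹ * t3⁻¹
  | 3 => t3 ^ 2 * t1⁻¹ * t2⁻¹ * t4⁻¹
  | 4 => t4 ^ 2 * t3⁻¹ * t5⁻¹
  | _ => t5 ^ 2 * t4⁻¹

lemma e6_simple : chevE6.simple 0 = e6p1 ∧ chevE6.simple 1 = e6p2 ∧ chevE6.simple 2 = e6p3 ∧ chevE6.simple 3 = e6p4 ∧ chevE6.simple 4 = e6p5 ∧ chevE6.simple 5 = e6p6 := by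
  decide +kernel

/-- An element of `H` is determined by the characters. -/
lemma e6_ext {h h' : GL chevE6.Idx K} (hh : h ∈ chevE6.diagonalSubgroup K) (hh' : h' ∈ chevE6.diagonalSubgroup K) {d d' : Fin chevE6.nroots → K}
    (hd : IsMono TE6.good h 1 d) (hd' : IsMono TE6.good h' 1 d')
    (e : d e6P1 = d' e6P1 ∧ d e6P2 = d' e6P2 ∧ d e6P3 = d' e6P3 ∧ d e6P4 = d' e6P4 ∧ d e6P5 = d' e6P5 ∧ d e6P6 = d' e6P6) : h = h' := by
  obtain ⟨e1, e2, e3, e4, e5, e6⟩ := e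
  apply TE6.extra.H_ext TE6.good hh hh' hd hd'
  intro i hi
  have hi' : i < 6 := hi
  interval_cases i
  · exact e1
  · exact e2
  · exact e3
  · exact e4
  · exact e5
  · exact e6

/-- The kernel of the Cartan matrix. -/
lemma e6_kernel {r0 r1 r2 r3 r4 r5 : K} (h0 : r0 ≠ 0) (h5 : r5 ≠ 0)
    (e0 : r0 ^ 2 = r2) (e1 : r1 ^ 2 = r3) (e2 : r2 ^ 2 = r3 * r0) (e3 : r3 ^ 2 = r1 * r4 * r2) (e4 : r4 ^ 2 = r5 * r3) (e5 : r5 ^ 2 = r4) :
    r0 ^ 3 = 1 ∧ r1 = 1 ∧ r2 = r0 ^ 2 ∧ r3 = 1 ∧ r4 = r0 ∧ r5 = r0 ^ 2 := by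
  subst e0 e5
  have a3 : r3 = r0 ^ 3 := by
    apply mul_right_cancel₀ h0
    rw [← e2]
    ring
  have a3' : r3 = r5 ^ 3 := by
    apply mul_left_cancel₀ h5
    rw [← e4]
    ring
  have a1 : r0 ^ 4 = r1 * r5 ^ 2 := by
    apply mul_right_cancel₀ (pow_ne_zero 2 h0)
    rw [a3] at e3
    linear_combination e3
  have a2 : r5 ^ 4 = r0 ^ 5 := by
    have h3 : r0 ^ 3 * r5 ^ 4 = r0 ^ 3 * r0 ^ 5 := by
      rw [a3] at e1
      linear_combination (-1 : K) * r5 ^ 4 * e1 - (r0 ^ 4 + r1 * r5 ^ 2) * a1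
    exact mul_left_cancel₀ (pow_ne_zero 3 h0) h3
  have a4 : r5 = r0 ^ 2 := by
    apply mul_right_cancel₀ (pow_ne_zero 3 h0)
    rw [a3] at a3'
    linear_combination a2 + r5 * a3'
  subst a4
  have a5 : r0 ^ 3 = 1 := by
    apply mul_left_cancel₀ (pow_ne_zero 3 h0)
    rw [a3] at a3'
    linear_combination (-1 : K) * a3'
  have a6 : r1 = 1 := by
    have h3 : r1 * r0 ^ 4 = r0 ^ 4 := by
      linear_combination (-1 : K) * a1
    exact mul_right_cancel₀ (pow_ne_zero 4 h0) (by rw [h3, one_mul])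
  refine ⟨a5, a6, rfl, by rw [a3, a5], ?_, rfl⟩
  linear_combination r0 * a5

/-- The characters of a product of `h`'s. -/
noncomputable def e6G (t0 t1 t2 t3 t4 t5 : K) (s : ℕ) : K :=
  t0 ^ cartanA chevE6 e6p1 s * t1 ^ cartanA chevE6 e6p2 s * t2 ^ cartanA chevE6 e6p3 s * t3 ^ cartanA chevE6 e6p4 s * t4 ^ cartanA chevE6 e6p5 s * t5 ^ cartanA chevE6 e6p6 s

lemma e6G_0 (t0 t1 t2 t3 t4 t5 : K) : e6G t0 t1 t2 t3 t4 t5 e6p1 = t0 ^ 2 * t2⁻¹ := by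
  have c0 : cartanA chevE6 e6p1 e6p1 = 2 := by decide +kernel
  have c1 : cartanA chevE6 e6p2 e6p1 = 0 := by decide +kernel
  have c2 : cartanA chevE6 e6p3 e6p1 = -1 := by decide +kernel
  have c3 : cartanA chevE6 e6p4 e6p1 = 0 := by decide +kernel
  have c4 : cartanA chevE6 e6p5 e6p1 = 0 := by decide +kernel
  have c5 : cartanA chevE6 e6p6 e6p1 = 0 := by decide +kernel
  unfold e6G
  rw [c0, c1, c2, c3, c4, c5]
  simp only [zpow_neg, zpow_one, zpow_zero, zpow_ofNat, one_mul, mul_one]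
  ring

lemma e6G_1 (t0 t1 t2 t3 t4 t5 : K) : e6G t0 t1 t2 t3 t4 t5 e6p2 = t1 ^ 2 * t3⁻¹ := by
  have c0 : cartanA chevE6 e6p1 e6p2 = 0 := by decide +kernel
  have c1 : cartanA chevE6 e6p2 e6p2 = 2 := by decide +kernel
  have c2 : cartanA chevE6 e6p3 e6p2 = 0 := by decide +kernel
  have c3 : cartanA chevE6 e6p4 e6p2 = -1 := by decide +kernel
  have c4 : cartanA chevE6 e6p5 e6p2 = 0 := by decide +kernel
  have c5 : cartanA chevE6 e6p6 e6p2 = 0 := by decide +kernel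
  unfold e6G
  rw [c0, c1, c2, c3, c4, c5]
  simp only [zpow_neg, zpow_one, zpow_zero, zpow_ofNat, one_mul, mul_one]
  ring

lemma e6G_2 (t0 t1 t2 t3 t4 t5 : K) : e6G t0 t1 t2 t3 t4 t5 e6p3 = t2 ^ 2 * t0⁻¹ * t3⁻¹ := by
  have c0 : cartanA chevE6 e6p1 e6p3 = -1 := by decide +kernel
  have c1 : cartanA chevE6 e6p2 e6p3 = 0 := by decide +kernel
  have c2 : cartanA chevE6 e6p3 e6p3 = 2 := by decide +kernel
  have c3 : cartanA chevE6 e6p4 e6p3 = -1 := by decide +kernel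
  have c4 : cartanA chevE6 e6p5 e6p3 = 0 := by decide +kernel
  have c5 : cartanA chevE6 e6p6 e6p3 = 0 := by decide +kernel
  unfold e6G
  rw [c0, c1, c2, c3, c4, c5]
  simp only [zpow_neg, zpow_one, zpow_zero, zpow_ofNat, one_mul, mul_one]
  ring

lemma e6G_3 (t0 t1 t2 t3 t4 t5 : K) : e6G t0 t1 t2 t3 t4 t5 e6p4 = t3 ^ 2 * t1⁻¹ * t2⁻¹ * t4⁻¹ := by
  have c0 : cartanA chevE6 e6p1 e6p4 = 0 := by decide +kernel
  have c1 : cartanA chevE6 e6p2 e6p4 = -1 := by decide +kernel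
  have c2 : cartanA chevE6 e6p3 e6p4 = -1 := by decide +kernel
  have c3 : cartanA chevE6 e6p4 e6p4 = 2 := by decide +kernel
  have c4 : cartanA chevE6 e6p5 e6p4 = -1 := by decide +kernel
  have c5 : cartanA chevE6 e6p6 e6p4 = 0 := by decide +kernel
  unfold e6G
  rw [c0, c1, c2, c3, c4, c5]
  simp only [zpow_neg, zpow_one, zpow_zero, zpow_ofNat, one_mul, mul_one]
  ring

lemma e6G_4 (t0 t1 t2 t3 t4 t5 : K) : e6G t0 t1 t2 t3 t4 t5 e6p5 = t4 ^ 2 * t3⁻¹ * t5⁻¹ := by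
  have c0 : cartanA chevE6 e6p1 e6p5 = 0 := by decide +kernel
  have c1 : cartanA chevE6 e6p2 e6p5 = 0 := by decide +kernel
  have c2 : cartanA chevE6 e6p3 e6p5 = 0 := by decide +kernel
  have c3 : cartanA chevE6 e6p4 e6p5 = -1 := by decide +kernel
  have c4 : cartanA chevE6 e6p5 e6p5 = 2 := by decide +kernel
  have c5 : cartanA chevE6 e6p6 e6p5 = -1 := by decide +kernel
  unfold e6G
  rw [c0, c1, c2, c3, c4, c5]
  simp only [zpow_neg, zpow_one, zpow_zero, zpow_ofNat, one_mul, mul_one]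
  ring

lemma e6G_5 (t0 t1 t2 t3 t4 t5 : K) : e6G t0 t1 t2 t3 t4 t5 e6p6 = t5 ^ 2 * t4⁻¹ := by
  have c0 : cartanA chevE6 e6p1 e6p6 = 0 := by decide +kernel
  have c1 : cartanA chevE6 e6p2 e6p6 = 0 := by decide +kernel
  have c2 : cartanA chevE6 e6p3 e6p6 = 0 := by decide +kernel
  have c3 : cartanA chevE6 e6p4 e6p6 = 0 := by decide +kernel
  have c4 : cartanA chevE6 e6p5 e6p6 = -1 := by decide +kernel
  have c5 : cartanA chevE6 e6p6 e6p6 = 2 := by decide +kernel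
  unfold e6G
  rw [c0, c1, c2, c3, c4, c5]
  simp only [zpow_neg, zpow_one, zpow_zero, zpow_ofNat, one_mul, mul_one]
  ring

lemma e6_dProd (c : ℕ → K) (s : Fin chevE6.nroots) : dProd chevE6 (List.range chevE6.rank) c s = e6G (c 0) (c 1) (c 2) (c 3) (c 4) (c 5) s := by
  have e1 : List.range chevE6.rank = [0, 1, 2, 3, 4, 5] := by decide +kernel
  obtain ⟨s0, s1, s2, s3, s4, s5⟩ := e6_simple
  unfold dProd e6G
  rw [e1]
  simp only [List.map_cons, List.map_nil, List.prod_cons, List.prod_nil, s0, s1, s2, s3, s4, s5, mul_one, mul_assoc]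

include hφ2 in
/-- The parameters of a fixed element of `H`. -/
lemma e6_params {h : GL chevE6.Idx K} (hh : h ∈ chevE6.diagonalSubgroup K) (hs : (tE6 φ).s h = h) {d : Fin chevE6.nroots → K} (hd : IsMono TE6.good h 1 d) :
    ∃ a b c1 c3 : K, a ≠ 0 ∧ b ≠ 0 ∧ c1 ≠ 0 ∧ c3 ≠ 0 ∧ φ c1 = c1 ∧ φ c3 = c3 ∧
      d e6P1 = e6G a c1 b c3 (φ b) (φ a) e6p1 ∧ d e6P2 = e6G a c1 b c3 (φ b) (φ a) e6p2 ∧ d e6P3 = e6G a c1 b c3 (φ b) (φ a) e6p3 ∧
      d e6P4 = e6G a c1 b c3 (φ b) (φ a) e6p4 ∧ d e6P5 = e6G a c1 b c3 (φ b) (φ a) e6p5 ∧ d e6P6 = e6G a c1 b c3 (φ b) (φ a) e6p6 := by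
  obtain ⟨e1, e2, e3, e4, e5, e6⟩ := e6_chars_fixed φ hh hs hd
  obtain ⟨c, hc, rfl⟩ := TE6.extra.diagonal_prod TE6.good hh
  have hm := TE6.extra.isMono_prodH TE6.good hc
  have hd' := hd.d_unique hm
  have hr : chevE6.rank = 6 := by decide +kernel
  have n0 : c 0 ≠ 0 := hc 0 (by omega)
  have n1 : c 1 ≠ 0 := hc 1 (by omega)
  have n2 : c 2 ≠ 0 := hc 2 (by omega)
  have n3 : c 3 ≠ 0 := hc 3 (by omega)
  have n4 : c 4 ≠ 0 := hc 4 (by omega)
  have n5 : c 5 ≠ 0 := hc 5 (by omega)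
  have ed : ∀ s, d s = e6G (c 0) (c 1) (c 2) (c 3) (c 4) (c 5) s := by
    intro s
    rw [hd']
    exact e6_dProd c s
  generalize c 0 = t0 at *
  generalize c 1 = t1 at *
  generalize c 2 = t2 at *
  generalize c 3 = t3 at *
  generalize c 4 = t4 at *
  generalize c 5 = t5 at *
  have g0 : d e6P1 = t0 ^ 2 * t2⁻¹ := by rw [ed]; exact e6G_0 _ _ _ _ _ _
  have g1 : d e6P2 = t1 ^ 2 * t3⁻¹ := by rw [ed]; exact e6G_1 _ _ _ _ _ _
  have g2 : d e6P3 = t2 ^ 2 * t0⁻¹ * t3⁻¹ := by rw [ed]; exact e6G_2 _ _ _ _ _ _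
  have g3 : d e6P4 = t3 ^ 2 * t1⁻¹ * t2⁻¹ * t4⁻¹ := by rw [ed]; exact e6G_3 _ _ _ _ _ _
  have g4 : d e6P5 = t4 ^ 2 * t3⁻¹ * t5⁻¹ := by rw [ed]; exact e6G_4 _ _ _ _ _ _
  have g5 : d e6P6 = t5 ^ 2 * t4⁻¹ := by rw [ed]; exact e6G_5 _ _ _ _ _ _
  rw [g0, g5] at e1 e2
  rw [g2, g4] at e3 e4
  rw [g1] at e5
  rw [g3] at e6
  simp only [map_mul, map_pow, map_inv₀] at e1 e2 e3 e4 e5 e6
  have m0 : φ t0 ≠ 0 := by simpa using n0
  have m1 : φ t1 ≠ 0 := by simpa using n1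
  have m2 : φ t2 ≠ 0 := by simpa using n2
  have m3 : φ t3 ≠ 0 := by simpa using n3
  have m4 : φ t4 ≠ 0 := by simpa using n4
  have m5 : φ t5 ≠ 0 := by simpa using n5
  obtain ⟨r0, hr0⟩ : ∃ r, φ t5 = r * t0 := ⟨φ t5 * t0⁻¹, by field_simp⟩
  obtain ⟨r1, hr1⟩ : ∃ r, φ t1 = r * t1 := ⟨φ t1 * t1⁻¹, by field_simp⟩
  obtain ⟨r2, hr2⟩ : ∃ r, φ t4 = r * t2 := ⟨φ t4 * t2⁻¹, by field_simp⟩
  obtain ⟨r3, hr3⟩ : ∃ r, φ t3 = r * t3 := ⟨φ t3 * t3⁻¹, by field_simp⟩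
  obtain ⟨r4, hr4⟩ : ∃ r, φ t2 = r * t4 := ⟨φ t2 * t4⁻¹, by field_simp⟩
  obtain ⟨r5, hr5⟩ : ∃ r, φ t0 = r * t5 := ⟨φ t0 * t5⁻¹, by field_simp⟩
  have p0 : r0 ≠ 0 := fun h => m5 (by rw [hr0, h, zero_mul])
  have p1 : r1 ≠ 0 := fun h => m1 (by rw [hr1, h, zero_mul])
  have p2 : r2 ≠ 0 := fun h => m4 (by rw [hr2, h, zero_mul])
  have p3 : r3 ≠ 0 := fun h => m3 (by rw [hr3, h, zero_mul])
  have p4 : r4 ≠ 0 := fun h => m2 (by rw [hr4, h, zero_mul])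
  have p5 : r5 ≠ 0 := fun h => m0 (by rw [hr5, h, zero_mul])
  simp only [hr0, hr1, hr2, hr3, hr4, hr5] at e1 e2 e3 e4 e5 e6
  have eq0 : r0 ^ 2 = r2 := by
    field_simp at e2
    linear_combination e2
  have eq1 : r1 ^ 2 = r3 := by
    field_simp at e5
    linear_combination e5
  have eq2 : r2 ^ 2 = r3 * r0 := by
    field_simp at e4
    linear_combination e4
  have eq3 : r3 ^ 2 = r1 * r4 * r2 := by
    field_simp at e6
    linear_combination e6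
  have eq4 : r4 ^ 2 = r5 * r3 := by
    field_simp at e3
    linear_combination e3
  have eq5 : r5 ^ 2 = r4 := by
    field_simp at e1
    linear_combination e1
  obtain ⟨w3, e_r1, e_r2, e_r3, e_r4, e_r5⟩ := e6_kernel p0 p5 eq0 eq1 eq2 eq3 eq4 eq5
  subst e_r1 e_r3
  rw [e_r2] at hr2
  rw [e_r4] at hr4
  rw [e_r5] at hr5
  generalize r0 = w at *
  have n_w : w ≠ 0 := p0
  have hv : φ w = w := by
    have h1 := congrArg φ hr5
    rw [hφ2, map_mul, map_pow, hr0] at h1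
    have h2 : (φ w) ^ 2 * w = 1 := by
      apply mul_left_cancel₀ n0
      linear_combination (-1 : K) * h1
    have h3 : (φ w) ^ 3 = 1 := by
      rw [← map_pow, w3, map_one]
    linear_combination (φ w) * (-1 : K) * h2 + (w - 1 + 1) * h3 
  have w6 : w ^ 6 = 1 := by
    linear_combination (w ^ 3 + 1) * w3
  have w4 : w ^ 4 = w := by
    linear_combination w * w3
  have hinv : w⁻¹ = w ^ 2 := by
    apply inv_eq_of_mul_eq_one_right
    rw [← pow_succ', w3]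
  have i1 : ∀ t : K, (t * w)⁻¹ = t⁻¹ * w ^ 2 := fun t => by rw [mul_inv, hinv]
  have i2 : ∀ t : K, (t * w ^ 2)⁻¹ = t⁻¹ * w ^ 4 := fun t => by
    rw [mul_inv, ← inv_pow, hinv]
    ring
  have ha : φ (t0 * w ^ 2) = t5 * w := by
    rw [map_mul, map_pow, hv, hr5]
    linear_combination t5 * w * w3
  have hb : φ (t2 * w) = t4 * w ^ 2 := by
    rw [map_mul, hv, hr4]
    ring
  have hc1 : φ t1 = t1 := by rw [hr1, one_mul]
  have hc3 : φ t3 = t3 := by rw [hr3, one_mul]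
  refine ⟨t0 * w ^ 2, t2 * w, t1, t3, mul_ne_zero n0 (pow_ne_zero 2 n_w), mul_ne_zero n2 n_w, n1, n3, hc1, hc3, ?_, ?_, ?_, ?_, ?_, ?_⟩
  · rw [g0, e6G_0, i1]
    linear_combination (-(t0 ^ 2 * t2⁻¹)) * w6
  · rw [g1, e6G_1]
  · rw [g2, e6G_2, i2]
    linear_combination (-(t2 ^ 2 * t0⁻¹ * t3⁻¹)) * w6
  · rw [g3, e6G_3, i1, hb, i2]
    linear_combination (-(t3 ^ 2 * t1⁻¹ * t2⁻¹ * t4⁻¹)) * w6
  · rw [g4, e6G_4, hb, ha, i1]
    linear_combination (-(t4 ^ 2 * t3⁻¹ * t5⁻¹)) * w6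
  · rw [g5, e6G_5, hb, ha, i2]
    linear_combination (-(t5 ^ 2 * t4⁻¹)) * w6

lemma e6_c {r s : ℕ} (hr : r < chevE6.nroots) (hs : s < chevE6.nroots) (h1 : s ≠ r) (h2 : s ≠ chevE6.neg r) (hc : chevE6.commTerms r s = []) (a b : K) :
    Commute (Xr s a) (Xr r b) := TE6.good.x_comm hr hs h1 h2 hc b a

/-- The torus elements of an orbit. -/
lemma e6_orb {r r' m m' : ℕ} (hm : chevE6.neg r = m) (hm' : chevE6.neg r' = m')
    (h1 : ∀ s t : K, Commute (Xr r s) (Xr r' t)) (h2 : ∀ s t : K, Commute (Xr r s) (Xr m' t)) (h3 : ∀ s t : K, Commute (Xr m s) (Xr r' t)) (h4 : ∀ s t : K, Commute (Xr m s) (Xr m' t)) (b : K) :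
    hh (fun s => Xr r s * Xr r' (φ s)) (fun s => Xr m s * Xr m' (φ s)) b = TE6.good.hhG r b * TE6.good.hhG r' (φ b) := by
  have key : ∀ (r r' : ℕ) (g : K ≃+* K), chevE6.neg r = r' → hh (fun s => Xr r (g s)) (fun s => Xr r' (g s)) b = TE6.good.hhG r (g b) := by
    rintro r r' g rfl
    unfold Good.hhG hh nn
    simp only [map_neg, map_inv₀, map_one]
  have e1 := hh_prod (X := fun s => Xr r s) (Y := fun s => Xr m s)
    (X' := fun s => Xr r' (φ s)) (Y' := fun s => Xr m' (φ s))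
    (fun s t => h1 _ _) (fun s t => h2 _ _) (fun s t => h3 _ _) (fun s t => h4 _ _) b
  have e5 : hh (fun s => Xr r s) (fun s => Xr m s) b = TE6.good.hhG r b := by
    unfold Good.hhG
    rw [hm]
  rw [e1, key r' m' φ hm', e5]

include hφ in
lemma e6_orb_mem {r r' m m' : ℕ} (hw : (r, r') ∈ [(e6p1, e6p6), (e6m1, e6m6), (e6p3, e6p5), (e6m3, e6m5)]) (hw' : (m, m') ∈ [(e6p1, e6p6), (e6m1, e6m6), (e6p3, e6p5), (e6m3, e6m5)])
    (hm : chevE6.neg r = m) (hm' : chevE6.neg r' = m')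
    (h1 : ∀ s t : K, Commute (Xr r s) (Xr r' t)) (h2 : ∀ s t : K, Commute (Xr r s) (Xr m' t)) (h3 : ∀ s t : K, Commute (Xr m s) (Xr r' t)) (h4 : ∀ s t : K, Commute (Xr m s) (Xr m' t)) (b : K) :
    TE6.good.hhG r b * TE6.good.hhG r' (φ b) ∈ twistedE6 K q := by
  rw [← e6_orb φ hm hm' h1 h2 h3 h4 b]
  have h5 : ∀ {r r' : ℕ}, (r, r') ∈ [(e6p1, e6p6), (e6m1, e6m6), (e6p3, e6p5), (e6m3, e6m5)] → ∀ t : K, Xr r t * Xr r' (φ t) ∈ twistedE6 K q := by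
    intro r r' hw t
    have h5 : TE6.good.wordG [(r, t), (r', t ^ q)] ∈ twistedE6 K q :=
      TE6.good.wordG_mem_gen (Or.inr ⟨t, (r, r'), hw, rfl⟩)
    simp only [Good.wordG, List.map_cons, List.map_nil, List.prod_cons, List.prod_nil, mul_one] at h5
    rw [← hφ] at h5
    exact h5
  exact hh_mem (h5 hw _) (h5 hw _) (h5 hw' _) (h5 hw' _)

include hφ in
/-- The elements of a fixed node are in the group. -/
lemma e6_hh_mem' {r m : ℕ} (hw : r ∈ [e6p2, e6m2, e6p4, e6m4]) (hw' : m ∈ [e6p2, e6m2, e6p4, e6m4]) (e : chevE6.neg r = m) {c : K} (hc : φ c = c) : TE6.good.hhG r c ∈ twistedE6 K q := by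
  have h1 : ∀ {r : ℕ}, r ∈ [e6p2, e6m2, e6p4, e6m4] → ∀ t : K, φ t = t → Xr r t ∈ twistedE6 K q := by
    intro r hr t ht
    have h5 : TE6.good.wordG [(r, t)] ∈ twistedE6 K q :=
      TE6.good.wordG_mem_gen (Or.inl ⟨t, by rw [← hφ, ht], r, hr, rfl⟩)
    simpa [Good.wordG] using h5
  unfold Good.hhG
  rw [e]
  exact hh_mem (h1 hw _ hc) (h1 hw _ (by simp)) (h1 hw' _ (by simp [hc])) (h1 hw' _ (by simp))

/-- The group element with prescribed parameters. -/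
noncomputable def e6H (a b c1 c3 : K) : GL chevE6.Idx K :=
  TE6.good.hhG e6p2 c1 * TE6.good.hhG e6p4 c3 * (TE6.good.hhG e6p1 a * TE6.good.hhG e6p6 (φ a)) * (TE6.good.hhG e6p3 b * TE6.good.hhG e6p5 (φ b))

lemma e6H_mono {a b c1 c3 : K} (ha : a ≠ 0) (hb : b ≠ 0) (hc1 : c1 ≠ 0) (hc3 : c3 ≠ 0) : IsMono TE6.good (e6H φ a b c1 c3) 1 (fun s => e6G a c1 b c3 (φ b) (φ a) s) := by
  have ha1 : φ a ≠ 0 := by simpa using ha
  have hb1 : φ b ≠ 0 := by simpa using hb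
  have h := (((TE6.good.isMono_hhG (r := e6p2) (by decide +kernel) hc1).hmul (TE6.good.isMono_hhG (r := e6p4) (by decide +kernel) hc3)).hmul ((TE6.good.isMono_hhG (r := e6p1) (by decide +kernel) ha).hmul (TE6.good.isMono_hhG (r := e6p6) (by decide +kernel) ha1))).hmul
    ((TE6.good.isMono_hhG (r := e6p3) (by decide +kernel) hb).hmul (TE6.good.isMono_hhG (r := e6p5) (by decide +kernel) hb1))
  convert h using 1
  · rfl
  · funext s
    unfold e6G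
    ring

lemma e6H_mem_diag {a b c1 c3 : K} (ha : a ≠ 0) (hb : b ≠ 0) (hc1 : c1 ≠ 0) (hc3 : c3 ≠ 0) : e6H φ a b c1 c3 ∈ chevE6.diagonalSubgroup K := by
  have ha1 : φ a ≠ 0 := by simpa using ha
  have hb1 : φ b ≠ 0 := by simpa using hb
  exact mul_mem (mul_mem (mul_mem (TE6.good.hhG_mem_diagonal (by decide +kernel) hc1) (TE6.good.hhG_mem_diagonal (by decide +kernel) hc3))
    (mul_mem (TE6.good.hhG_mem_diagonal (by decide +kernel) ha) (TE6.good.hhG_mem_diagonal (by decide +kernel) ha1)))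
    (mul_mem (TE6.good.hhG_mem_diagonal (by decide +kernel) hb) (TE6.good.hhG_mem_diagonal (by decide +kernel) hb1))

include hφ in
lemma e6H_mem {a b c1 c3 : K} (hc1 : φ c1 = c1) (hc3 : φ c3 = c3) : e6H φ a b c1 c3 ∈ twistedE6 K q := by
  unfold e6H
  have c : ∀ {r s : ℕ}, r < chevE6.nroots → s < chevE6.nroots → s ≠ r → s ≠ chevE6.neg r → chevE6.commTerms r s = [] → ∀ a b : K, Commute (Xr s a) (Xr r b) := fun hr hs h1 h2 hc a b => e6_c hr hs h1 h2 hc a b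
  refine mul_mem (mul_mem (mul_mem (e6_hh_mem' φ hφ (m := e6m2) (by decide) (by decide) (by decide +kernel) hc1) (e6_hh_mem' φ hφ (m := e6m4) (by decide) (by decide) (by decide +kernel) hc3))
    (e6_orb_mem φ hφ (m := e6m1) (m' := e6m6) (by decide) (by decide) (by decide +kernel) (by decide +kernel) ?_ ?_ ?_ ?_ a))
    (e6_orb_mem φ hφ (m := e6m3) (m' := e6m5) (by decide) (by decide) (by decide +kernel) (by decide +kernel) ?_ ?_ ?_ ?_ b)
  all_goals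
    intro s t
    exact c (by decide +kernel) (by decide +kernel) (by decide +kernel) (by decide +kernel) (by decide +kernel) _ _

/-- Characters of an element in terms of the parameters. -/
lemma e6H_eq {h : GL chevE6.Idx K} (hh : h ∈ chevE6.diagonalSubgroup K) {d : Fin chevE6.nroots → K} (hd : IsMono TE6.good h 1 d) {a b c1 c3 : K} (ha : a ≠ 0) (hb : b ≠ 0) (hc1 : c1 ≠ 0) (hc3 : c3 ≠ 0)
    (e : d e6P1 = e6G a c1 b c3 (φ b) (φ a) e6p1 ∧ d e6P2 = e6G a c1 b c3 (φ b) (φ a) e6p2 ∧ d e6P3 = e6G a c1 b c3 (φ b) (φ a) e6p3 ∧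
      d e6P4 = e6G a c1 b c3 (φ b) (φ a) e6p4 ∧ d e6P5 = e6G a c1 b c3 (φ b) (φ a) e6p5 ∧ d e6P6 = e6G a c1 b c3 (φ b) (φ a) e6p6) : h = e6H φ a b c1 c3 :=
  e6_ext hh (e6H_mem_diag φ ha hb hc1 hc3) hd (e6H_mono φ ha hb hc1 hc3) e

/-- The parameter group. -/
def E6A (φ : K ≃+* K) : Subgroup (Kˣ × Kˣ × Kˣ × Kˣ) where
  carrier := {x | φ (x.2.2.1 : K) = x.2.2.1 ∧ φ (x.2.2.2 : K) = x.2.2.2}
  mul_mem' := by
    rintro ⟨a, b, c, d⟩ ⟨a', b', c', d'⟩ ⟨h1, h2⟩ ⟨h3, h4⟩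
    refine ⟨?_, ?_⟩
    · simp only at h1 h3 ⊢
      simp [h1, h3]
    · simp only at h2 h4 ⊢
      simp [h2, h4]
  one_mem' := by
    simp
  inv_mem' := by
    rintro ⟨a, b, c, d⟩ ⟨h1, h2⟩
    refine ⟨?_, ?_⟩
    · simp only at h1 ⊢
      simp [h1]
    · simp only at h2 ⊢
      simp [h2]

lemma e6H_mul (x y : ↥(E6A φ)) : e6H φ ((x.1.1 * y.1.1 : Kˣ) : K) ((x.1.2.1 * y.1.2.1 : Kˣ) : K) ((x.1.2.2.1 * y.1.2.2.1 : Kˣ) : K) ((x.1.2.2.2 * y.1.2.2.2 : Kˣ) : K) =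
    e6H φ x.1.1 x.1.2.1 x.1.2.2.1 x.1.2.2.2 * e6H φ y.1.1 y.1.2.1 y.1.2.2.1 y.1.2.2.2 := by
  obtain ⟨⟨a, b, c, d⟩, hx⟩ := x
  obtain ⟨⟨a', b', c', d'⟩, hy⟩ := y
  have h1 := (e6H_mono φ a.ne_zero b.ne_zero c.ne_zero d.ne_zero).hmul (e6H_mono φ a'.ne_zero b'.ne_zero c'.ne_zero d'.ne_zero)
  have h2 := e6H_mono φ (a * a').ne_zero (b * b').ne_zero (c * c').ne_zero (d * d').ne_zero
  apply TE6.extra.eq_of_isMono TE6.good h2
  convert h1 using 1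
  funext s
  unfold e6G
  simp only [Units.val_mul, map_mul, mul_zpow]
  ring

/-- The homomorphism onto the torus. -/
noncomputable def e6Ψ : ↥(E6A φ) →* ↥(chevE6.diagonalSubgroup K ⊓ twistedE6 K q) :=
  MonoidHom.mk' (fun x => ⟨e6H φ x.1.1 x.1.2.1 x.1.2.2.1 x.1.2.2.2, Subgroup.mem_inf.2
      ⟨e6H_mem_diag φ x.1.1.ne_zero x.1.2.1.ne_zero x.1.2.2.1.ne_zero x.1.2.2.2.ne_zero, e6H_mem φ hφ x.2.1 x.2.2⟩⟩) (by
    intro x y
    apply Subtype.ext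
    exact e6H_mul φ x y)

include hφ hφ2 in
lemma e6Ψ_surj : Function.Surjective (e6Ψ φ hφ) := by
  rintro ⟨k, hk⟩
  obtain ⟨hk1, hk2⟩ := Subgroup.mem_inf.1 hk
  obtain ⟨τ, d, hi⟩ := TE6.good.mono_of_mem_N TE6.extra (TE6.good.diagonal_le_monomial hk1)
  have hτ1 := TE6.extra.perm_of_H TE6.good TE6.braid hk1 hi
  subst hτ1
  obtain ⟨a, b, c1, c3, ha, hb, h1, h3, hc1, hc3, e⟩ := e6_params φ hφ2 hk1 (e6_le_Fx φ hφ hφ2 hk2).2 hi
  refine ⟨⟨(Units.mk0 a ha, Units.mk0 b hb, Units.mk0 c1 h1, Units.mk0 c3 h3), hc1, hc3⟩, ?_⟩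
  apply Subtype.ext
  exact (e6H_eq φ hk1 hi ha hb h1 h3 e).symm

/-- The kernel of the parametrisation. -/
lemma e6Ψ_ker_card : Nat.card ↥(e6Ψ φ hφ).ker = Nat.card {w : Kˣ // w ^ 3 = 1 ∧ φ (w : K) = (w : K)⁻¹} := by
  have hone : ∀ x : ↥(E6A φ), x ∈ (e6Ψ φ hφ).ker ↔ e6H φ x.1.1 x.1.2.1 x.1.2.2.1 x.1.2.2.2 = 1 := by
    intro x
    rw [MonoidHom.mem_ker]
    constructor
    · intro h
      exact congrArg Subtype.val h
    · intro h
      exact Subtype.ext h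
  have hker : ∀ w : Kˣ, w ^ 3 = 1 → φ (w : K) = (w : K)⁻¹ → e6H φ (w : K) ((w ^ 2 : Kˣ) : K) ((1 : Kˣ) : K) ((1 : Kˣ) : K) = 1 := by
    intro w h3 hw
    have h3' : (w : K) ^ 3 = 1 := by
      have := congrArg Units.val h3
      simpa using this
    have n0 : (w : K) ≠ 0 := w.ne_zero
    have hi : (w : K)⁻¹ = (w : K) ^ 2 := by
      apply inv_eq_of_mul_eq_one_right
      rw [← pow_succ', h3']
    apply e6_ext (e6H_mem_diag φ w.ne_zero (w ^ 2).ne_zero (1 : Kˣ).ne_zero (1 : Kˣ).ne_zero) (one_mem _) (e6H_mono φ w.ne_zero (w ^ 2).ne_zero (1 : Kˣ).ne_zero (1 : Kˣ).ne_zero) (IsMono.one TE6.good)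
    have h1 : φ ((w ^ 2 : Kˣ) : K) = (w : K) := by
      simp only [Units.val_pow_eq_pow_val, map_pow, hw, hi]
      linear_combination (w : K) * h3'
    have hi2 : ((w : K) ^ 2)⁻¹ = (w : K) := by
      apply inv_eq_of_mul_eq_one_right
      rw [← pow_succ, h3']
    refine ⟨?_, ?_, ?_, ?_, ?_, ?_⟩
    · show e6G _ _ _ _ _ _ e6p1 = 1
      rw [e6G_0]
      simp only [Units.val_pow_eq_pow_val, hi2]
      linear_combination h3'
    · show e6G _ _ _ _ _ _ e6p2 = 1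
      rw [e6G_1]
      simp
    · show e6G _ _ _ _ _ _ e6p3 = 1
      rw [e6G_2]
      simp only [Units.val_pow_eq_pow_val, Units.val_one, hi, inv_one]
      linear_combination ((w : K) ^ 3 + 1) * h3'
    · show e6G _ _ _ _ _ _ e6p4 = 1
      rw [e6G_3, h1]
      simp only [Units.val_pow_eq_pow_val, Units.val_one, hi, hi2, inv_one]
      linear_combination h3'
    · show e6G _ _ _ _ _ _ e6p5 = 1
      rw [e6G_4, h1, hw]
      simp only [Units.val_one, inv_inv, inv_one]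
      linear_combination h3'
    · show e6G _ _ _ _ _ _ e6p6 = 1
      rw [e6G_5, h1, hw, hi]
      linear_combination ((w : K) ^ 3 + 1) * h3'
  symm
  refine Nat.card_congr (Equiv.ofBijective (fun w => ⟨⟨(w.1, w.1 ^ 2, 1, 1), by simp [E6A]⟩, (hone _).2 (hker w.1 w.2.1 w.2.2)⟩) ⟨?_, ?_⟩)
  · rintro ⟨w, hw⟩ ⟨w', hw'⟩ h
    apply Subtype.ext
    have h1 := congrArg (fun x : ↥(e6Ψ φ hφ).ker => x.1.1.1) h
    exact h1
  · rintro ⟨⟨⟨a, b, c, d⟩, hx⟩, hm⟩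
    have h1 := (hone _).1 hm
    simp only at h1
    have h2 := (e6H_mono φ a.ne_zero b.ne_zero c.ne_zero d.ne_zero)
    rw [h1] at h2
    have h3 := h2.d_unique (IsMono.one TE6.good)
    have h4 := fun s => congrFun h3 s
    have g0 := h4 e6P1
    have g1 := h4 e6P2
    have g2 := h4 e6P3
    have g3 := h4 e6P4
    have g4 := h4 e6P5
    have g5 := h4 e6P6
    have g0' := e6G_0 (a : K) c b d (φ b) (φ a)
    have g1' := e6G_1 (a : K) c b d (φ b) (φ a)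
    have g2' := e6G_2 (a : K) c b d (φ b) (φ a)
    have g3' := e6G_3 (a : K) c b d (φ b) (φ a)
    have g4' := e6G_4 (a : K) c b d (φ b) (φ a)
    have g5' := e6G_5 (a : K) c b d (φ b) (φ a)
    have k0 : (a : K) ^ 2 * (b : K)⁻¹ = 1 := g0'.symm.trans g0
    have k1 : (c : K) ^ 2 * (d : K)⁻¹ = 1 := g1'.symm.trans g1
    have k2 : (b : K) ^ 2 * (a : K)⁻¹ * (d : K)⁻¹ = 1 := g2'.symm.trans g2
    have k3 : (d : K) ^ 2 * (c : K)⁻¹ * (b : K)⁻¹ * (φ (b : K))⁻¹ = 1 := g3'.symm.trans g3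
    have k4 : (φ (b : K)) ^ 2 * (d : K)⁻¹ * (φ (a : K))⁻¹ = 1 := g4'.symm.trans g4
    have k5 : (φ (a : K)) ^ 2 * (φ (b : K))⁻¹ = 1 := g5'.symm.trans g5
    have na : (a : K) ≠ 0 := a.ne_zero
    have nb : (b : K) ≠ 0 := b.ne_zero
    have nc : (c : K) ≠ 0 := c.ne_zero
    have nd : (d : K) ≠ 0 := d.ne_zero
    have nfa : φ (a : K) ≠ 0 := by simp
    have nfb : φ (b : K) ≠ 0 := by simp
    field_simp at k0 k1 k2 k3 k4 k5
    obtain ⟨w3, e1, e2, e3, e4, e5⟩ := e6_kernel (r0 := (a : K)) (r1 := c) (r2 := b) (r3 := d) (r4 := φ b) (r5 := φ a) na nfa (by linear_combination k0) (by linear_combination k1) (by linear_combination k2) (by linear_combination k3) (by linear_combination k4) (by linear_combination k5)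
    have hi : (a : K)⁻¹ = (a : K) ^ 2 := by
      apply inv_eq_of_mul_eq_one_right
      rw [← pow_succ', w3]
    have ha3 : a ^ 3 = 1 := by
      apply Units.ext
      simpa using w3
    refine ⟨⟨a, ha3, by rw [e5, hi]⟩, ?_⟩
    apply Subtype.ext
    apply Subtype.ext
    refine Prod.ext rfl (Prod.ext ?_ (Prod.ext ?_ ?_))
    · apply Units.ext
      simpa using e2.symm
    · apply Units.ext
      simpa using e1.symm
    · apply Units.ext
      simpa using e3.symm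

include hφ in
/-- The number of cube roots. -/
lemma e6_W_card [Fintype K] (hK : Fintype.card K = q ^ 2) : Nat.card {w : Kˣ // w ^ 3 = 1 ∧ φ (w : K) = (w : K)⁻¹} = Nat.gcd 3 (q + 1) := by
  classical
  set g := Nat.gcd 3 (q + 1) with hg
  have h1 : ∀ w : Kˣ, (w ^ 3 = 1 ∧ φ (w : K) = (w : K)⁻¹) ↔ w ∈ (powMonoidHom g : Kˣ →* Kˣ).ker := by
    intro w
    rw [MonoidHom.mem_ker, powMonoidHom_apply]
    have key : φ (w : K) = (w : K)⁻¹ ↔ w ^ (q + 1) = 1 := by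
      rw [hφ]
      constructor
      · intro h
        apply Units.ext
        rw [Units.val_pow_eq_pow_val, pow_succ, h, Units.val_one, inv_mul_cancel₀ w.ne_zero]
      · intro h
        have h2 := congrArg Units.val h
        rw [Units.val_pow_eq_pow_val, pow_succ, Units.val_one] at h2
        exact eq_inv_of_mul_eq_one_left h2
    rw [key, hg]
    exact pow_gcd_eq_one.symm
  rw [Nat.card_congr (Equiv.subtypeEquivRight h1)]
  show Nat.card ↥(powMonoidHom g : Kˣ →* Kˣ).ker = g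
  rw [IsCyclic.card_powMonoidHom_ker, Nat.card_eq_fintype_card, Fintype.card_units, hK]
  apply Nat.gcd_eq_right
  have h2 : q + 1 ∣ q ^ 2 - 1 := by
    have h3 : q ^ 2 - 1 = (q + 1) * (q - 1) := by
      obtain _ | q := q
      · simp
      · simp only [Nat.add_sub_cancel]
        apply Nat.sub_eq_of_eq_add
        ring
    rw [h3]
    exact dvd_mul_right _ _
  exact (Nat.gcd_dvd_right 3 (q + 1)).trans h2

include hφ in
/-- The number of fixed units. -/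
lemma e6_fix_card [Fintype K] (hq : 1 < q) (hK : Fintype.card K = q ^ 2) : Nat.card {c : Kˣ // φ (c : K) = c} = q - 1 := by
  classical
  have h1 : Nat.card {t : K // φ t = t} = q := by
    have := CfsgLib.Tw.card_fixed_pow (F := K) hq hK
    rw [← this]
    simp only [hφ]
  have h2 : Nat.card {t : K // φ t = t} = Nat.card {c : Kˣ // φ (c : K) = c} + 1 := by
    rw [← Finite.card_option]
    apply Nat.card_congr
    refine Equiv.symm (Equiv.ofBijective (fun o : Option {c : Kˣ // φ (c : K) = c} => match o with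
      | none => (⟨0, by simp⟩ : {t : K // φ t = t})
      | some x => ⟨((x.1 : Kˣ) : K), x.2⟩) ⟨?_, ?_⟩)
    · intro o o' e
      rcases o with _ | x <;> rcases o' with _ | x'
      · rfl
      · have : (0 : K) = ((x'.1 : Kˣ) : K) := congrArg Subtype.val e
        exact absurd this.symm x'.1.ne_zero
      · have : ((x.1 : Kˣ) : K) = 0 := congrArg Subtype.val e
        exact absurd this x.1.ne_zero
      · have : ((x.1 : Kˣ) : K) = ((x'.1 : Kˣ) : K) := congrArg Subtype.val e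
        congr 1
        exact Subtype.ext (Units.ext this)
    · rintro ⟨t, ht⟩
      by_cases h0 : t = 0
      · subst h0
        exact ⟨none, rfl⟩
      · exact ⟨some ⟨Units.mk0 t h0, ht⟩, rfl⟩
  omega

include hφ hφ2 in
/-- The order of `H¹`. -/
theorem e6_card_H [Fintype K] (hq : 1 < q) (hK : Fintype.card K = q ^ 2) :
    Nat.gcd 3 (q + 1) * Nat.card ↥(chevE6.diagonalSubgroup K ⊓ twistedE6 K q) = (q ^ 2 - 1) * (q ^ 2 - 1) * (q - 1) * (q - 1) := by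
  classical
  have h1 := Subgroup.card_mul_index (e6Ψ φ hφ).ker
  rw [Subgroup.index_ker, MonoidHom.range_eq_top.2 (e6Ψ_surj φ hφ hφ2), e6Ψ_ker_card, e6_W_card φ hφ hK, Subgroup.card_top] at h1
  rw [h1]
  have h2 : Nat.card ↥(E6A φ) = Nat.card (Kˣ × Kˣ × {c : Kˣ // φ (c : K) = c} × {c : Kˣ // φ (c : K) = c}) := by
    apply Nat.card_congr
    exact {
      toFun := fun x => (x.1.1, x.1.2.1, ⟨x.1.2.2.1, x.2.1⟩, ⟨x.1.2.2.2, x.2.2⟩)
      invFun := fun x => ⟨(x.1, x.2.1, x.2.2.1.1, x.2.2.2.1), x.2.2.1.2, x.2.2.2.2⟩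
      left_inv := fun _ => rfl
      right_inv := fun _ => rfl }
  rw [h2, Nat.card_prod, Nat.card_prod, Nat.card_prod, e6_fix_card φ hφ hq hK, Nat.card_eq_fintype_card (α := Kˣ), Fintype.card_units, hK]
  ring

end E6

end CfsgLib.Chev
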