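/-
The order of `²E₆`.
-/
import Cfsg.Agent.Lib.Tw.OrdE6
import Cfsg.Agent.Lib.Tw.E6Codes

set_option autoImplicit false
set_option synthInstance.maxHeartbeats 400000
set_option synthInstance.maxSize 1024

namespace CfsgLib.Chev

open Cfsg.Lie Cfsg.Lie.ChevalleyDatum CfsgLib.BN CfsgLib.PC

section gen

variable {D : ChevalleyDatum} {C : Cert} {hG : Good D C} {K : Type*} [Field K] {A : TwAct hG K} {T : Subgroup (GL D.Idx K)}
  (Dt : TwData A T) (hE : Extra D C) (hB : Braid D C)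

/-- The sum over the Weyl group of the fixed points from a coded list of its elements. -/
theorem TwData.sum_W1_pc (t : NT) (id : ℕ) {k : ℕ} (e : Dt.ι ≃ Fin k) (gen : Fin k → ℕ)
    (hgen : ∀ j r (hr : r < D.nroots), ((Dt.τw hE hB j) ⟨r, hr⟩).val = dg (gen (e j)) r)
    (h1 : t.has id = true) (h2 : ∀ r < D.nroots, dg id r = r)
    (h3 : incr t.list = true) (h4 : ∀ c ∈ t.list, c < 128 ^ D.nroots)
    (h5 : ∀ c ∈ t.list, ∀ j, t.has (nxt D.nroots (gen j) c) = true)
    (h6 : ∀ c ∈ t.list, c = id ∨ ∃ j, TwData.invC dg D.nroots (nxt D.nroots (gen j) c) < TwData.invC dg D.nroots c)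
    (h7 : ∀ j, ∀ r < D.nroots, dg (gen j) r < D.nroots ∧ dg (gen j) (dg (gen j) r) = r) (F : ℕ → ℕ) :
    ∑ τ ∈ Dt.W1, F (invN D τ) = (t.list.map fun c => F (TwData.invC dg D.nroots c)).sum := by
  refine Dt.sum_W1 hE hB dg t.list e gen hgen ⟨id, NT.mem_of_has h1, h2⟩ ?_ ?_ ?_ F
  · intro c hc j
    exact ⟨_, NT.mem_of_has (h5 c hc j), fun r hr => dg_nxt hr⟩
  · intro c hc
    rcases h6 c hc with rfl | ⟨j, hj⟩
    · exact Or.inl h2
    · refine Or.inr ⟨j, _, NT.mem_of_has (h5 c hc j), fun r hr => ?_, hj⟩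
      rw [dg_nxt (h7 j r hr).1, (h7 j r hr).2]
  · apply (pairwise_of_incr h3).imp_of_mem
    intro a b ha hb hab
    by_contra hne
    push Not at hne
    have := eq_of_dg (h4 a ha) (h4 b hb) hne
    omega

end gen

section E6

variable {K : Type*} [Field K] [Fintype K] {q : ℕ} (φ : K ≃+* K) (hφ : ∀ t, φ t = t ^ q) (hφ2 : ∀ t, φ (φ t) = t)

/-- The inversion numbers. -/
lemma e6_inv_list : ∀ a ∈ e6Tree.list.map (TwData.invC dg chevE6.nroots), a < 37 := by
  decide +kernel

lemma e6_hist : (List.range 37).map (fun k => (e6Tree.list.map (TwData.invC dg chevE6.nroots)).count k) =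
    [1, 2, 4, 6, 9, 13, 17, 22, 26, 32, 37, 43, 47, 51, 55, 58, 61, 61, 62, 61, 61, 58, 55, 51, 47, 43, 37, 32, 26, 22, 17, 13, 9, 6, 4, 2, 1] := by
  decide +kernel

/-- The polynomial of the Weyl group. -/
def e6Poly (x : ℕ) : ℕ :=
  1 + 2 * x + 4 * x ^ 2 + 6 * x ^ 3 + 9 * x ^ 4 + 13 * x ^ 5 + 17 * x ^ 6 + 22 * x ^ 7 + 26 * x ^ 8 + 32 * x ^ 9 + 37 * x ^ 10 + 43 * x ^ 11 + 47 * x ^ 12 +
    51 * x ^ 13 + 55 * x ^ 14 + 58 * x ^ 15 + 61 * x ^ 16 + 61 * x ^ 17 + 62 * x ^ 18 + 61 * x ^ 19 + 61 * x ^ 20 + 58 * x ^ 21 + 55 * x ^ 22 + 51 * x ^ 23 +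
    47 * x ^ 24 + 43 * x ^ 25 + 37 * x ^ 26 + 32 * x ^ 27 + 26 * x ^ 28 + 22 * x ^ 29 + 17 * x ^ 30 + 13 * x ^ 31 + 9 * x ^ 32 + 6 * x ^ 33 + 4 * x ^ 34 + 2 * x ^ 35 + x ^ 36

lemma e6_sum (x : ℕ) : (e6Tree.list.map fun c => x ^ (TwData.invC dg chevE6.nroots c)).sum = e6Poly x := by
  have h1 : (e6Tree.list.map fun c => x ^ (TwData.invC dg chevE6.nroots c)) = (e6Tree.list.map (TwData.invC dg chevE6.nroots)).map (fun k => x ^ k) := by
    rw [List.map_map]
    rfl
  rw [h1, sum_pow_count _ x 37 e6_inv_list]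
  have h2 : ∀ k (hk : k < 37), (e6Tree.list.map (TwData.invC dg chevE6.nroots)).count k = [1, 2, 4, 6, 9, 13, 17, 22, 26, 32, 37, 43, 47, 51, 55, 58, 61, 61, 62, 61, 61, 58, 55, 51, 47, 43, 37, 32, 26, 22, 17, 13, 9, 6, 4, 2, 1].getD k 0 := by
    intro k hk
    rw [← e6_hist, List.getD_eq_getElem _ _ (by simpa using hk), List.getElem_map, List.getElem_range]
  rw [Finset.sum_congr rfl (fun k hk => by rw [h2 k (Finset.mem_range.1 hk)])]
  simp only [Finset.sum_range_succ, Finset.sum_range_zero]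
  simp only [List.getD_cons_zero, List.getD_cons_succ, e6Poly]
  ring

include hφ hφ2 in
/-- The fixed points of the rank one groups. -/
lemma e6_hQ (hq : 1 < q) (hK : Fintype.card K = q ^ 2) (Dt : TwData (tE6 φ) (twistedE6 K q)) (e' : Dt.ι ≃ Fin 4) (hJ : ∀ j, Dt.J j = {i | i ∈ e6J (e' j)}) :
    ∀ j, Nat.card ↥(((tE6 φ).base TE6.extra TE6.braid).Un (Dt.w TE6.extra TE6.braid j) ⊓ ((tE6 φ).base TE6.extra TE6.braid).Fx) ^ 1 =
      q ^ (posJ chevE6 TE6.cert (Dt.J j)).card := by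
  have hfix : Nat.card {t : K // φ t = t} = q := by
    have := CfsgLib.Tw.card_fixed_pow (F := K) hq hK
    rw [← this]
    simp only [hφ]
  have hcK : Nat.card K = q ^ 2 := by rw [Nat.card_eq_fintype_card, hK]
  have hone : ∀ {r : ℕ}, r < chevE6.nroots → spE6.π r = r → spE6.σ r = 1 → ∀ t : K, (tE6 φ).s (TE6.good.xG r t) = TE6.good.xG r (φ t) := by
    intro r hr h1 h2 t
    rw [tE6_s φ hr, h1, h2]
    simp
  have htwo : ∀ {r r' : ℕ}, r < chevE6.nroots → spE6.π r = r' → spE6.σ r = 1 → ∀ t : K, (tE6 φ).s (TE6.good.xG r t) = TE6.good.xG r' (φ t) := by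
    intro r r' hr h1 h2 t
    rw [tE6_s φ hr, h1, h2]
    simp
  intro j
  have hj := hJ j
  generalize e' j = i at hj
  rw [pow_one]
  fin_cases i
  · have hj' : Dt.J j = {i | i ∈ [1]} := hj
    rw [Dt.card_X_one TE6.extra TE6.braid j hj' (r := e6p2) (by decide +kernel) (by decide +kernel) (by decide +kernel) (g := φ) (hone (by decide +kernel) (by decide +kernel) (by decide +kernel)),
      hfix, hj', TE6.extra.card_posJ (hG := TE6.good) (Jl := [1]) (L := [e6p2]) (by decide +kernel) (by decide +kernel) (by decide +kernel)]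
    exact (pow_one q).symm
  · have hj' : Dt.J j = {i | i ∈ [3]} := hj
    rw [Dt.card_X_one TE6.extra TE6.braid j hj' (r := e6p4) (by decide +kernel) (by decide +kernel) (by decide +kernel) (g := φ) (hone (by decide +kernel) (by decide +kernel) (by decide +kernel)),
      hfix, hj', TE6.extra.card_posJ (hG := TE6.good) (Jl := [3]) (L := [e6p4]) (by decide +kernel) (by decide +kernel) (by decide +kernel)]
    exact (pow_one q).symm
  · have hj' : Dt.J j = {i | i ∈ [0, 5]} := hj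
    rw [Dt.card_X_two TE6.extra TE6.braid j hj' (a := e6p6) (b := e6p1) (by decide +kernel) (by decide +kernel) (by decide +kernel) (by decide +kernel) (by decide +kernel) (by decide +kernel)
      (fun s t => TE6.good.x_comm (by decide +kernel) (by decide +kernel) (by decide +kernel) (by decide +kernel) (by decide +kernel) t s)
      (g := φ) (g' := φ) (htwo (by decide +kernel) (by decide +kernel) (by decide +kernel)) (htwo (by decide +kernel) (by decide +kernel) (by decide +kernel)) hφ2,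
      hcK, hj', TE6.extra.card_posJ (hG := TE6.good) (Jl := [0, 5]) (L := [e6p6, e6p1]) (by decide +kernel) (by decide +kernel) (by decide +kernel)]
    rfl
  · have hj' : Dt.J j = {i | i ∈ [2, 4]} := hj
    rw [Dt.card_X_two TE6.extra TE6.braid j hj' (a := e6p5) (b := e6p3) (by decide +kernel) (by decide +kernel) (by decide +kernel) (by decide +kernel) (by decide +kernel) (by decide +kernel)
      (fun s t => TE6.good.x_comm (by decide +kernel) (by decide +kernel) (by decide +kernel) (by decide +kernel) (by decide +kernel) t s)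
      (g := φ) (g' := φ) (htwo (by decide +kernel) (by decide +kernel) (by decide +kernel)) (htwo (by decide +kernel) (by decide +kernel) (by decide +kernel)) hφ2,
      hcK, hj', TE6.extra.card_posJ (hG := TE6.good) (Jl := [2, 4]) (L := [e6p5, e6p3]) (by decide +kernel) (by decide +kernel) (by decide +kernel)]
    rfl

lemma e6Gen_h7 : ∀ j, ∀ r < chevE6.nroots, dg (e6GenC j) r < chevE6.nroots ∧ dg (e6GenC j) (dg (e6GenC j) r) = r := by
  decide +kernel

lemma e6_g0 : ∀ r < chevE6.nroots, (actW TE6.cert [1] r).1 = dg (e6GenC 0) r := by decide +kernel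
lemma e6_g1 : ∀ r < chevE6.nroots, (actW TE6.cert [3] r).1 = dg (e6GenC 1) r := by decide +kernel
lemma e6_g2 : ∀ r < chevE6.nroots, (actW TE6.cert [0, 5] r).1 = dg (e6GenC 2) r := by decide +kernel
lemma e6_g3 : ∀ r < chevE6.nroots, (actW TE6.cert [2, 4] r).1 = dg (e6GenC 3) r := by decide +kernel
lemma e6_h1 : e6Tree.has e6IdC = true := by decide +kernel
lemma e6_h2 : ∀ r < chevE6.nroots, dg e6IdC r = r := by decide +kernel
lemma e6_h3 : incr e6Tree.list = true := by decide +kernel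
lemma e6_h4 : ∀ c ∈ e6Tree.list, c < 128 ^ chevE6.nroots := by decide +kernel
lemma e6_h5 : ∀ c ∈ e6Tree.list, ∀ j, e6Tree.has (nxt chevE6.nroots (e6GenC j) c) = true := by decide +kernel
lemma e6_h6 : ∀ c ∈ e6Tree.list, c = e6IdC ∨ ∃ j, TwData.invC dg chevE6.nroots (nxt chevE6.nroots (e6GenC j) c) < TwData.invC dg chevE6.nroots c := by decide +kernel

include hφ hφ2 in
/-- The order of the group, given the order of the torus. -/
theorem e6_card_T (hq : 1 < q) (hK : Fintype.card K = q ^ 2) :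
    Nat.card ↥(twistedE6 K q) = q ^ 36 * Nat.card ↥(chevE6.diagonalSubgroup K ⊓ twistedE6 K q) * e6Poly q := by
  obtain ⟨Dt, e', hJ⟩ := e6_td φ hφ hφ2
  have hU := e6_card_U φ hφ hφ2 hq hK
  have hk := e6_hQ φ hφ hφ2 hq hK Dt e' hJ
  have h1 := Dt.card_T TE6.extra TE6.braid (fun k => q ^ k) (fun m hm => by
    obtain ⟨hm1, hm2⟩ := Subgroup.mem_inf.1 hm
    have := Dt.card_Un TE6.extra TE6.braid hk _ m hm1 (Dt.T_fix m hm2) le_rfl
    rwa [pow_one] at this)
  have hgen : ∀ j r (hr : r < chevE6.nroots), ((Dt.τw TE6.extra TE6.braid j) ⟨r, hr⟩).val = dg (e6GenC (e' j)) r := by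
    intro j r hr
    have hj := hJ j
    rcases h : e' j with ⟨i, hi⟩
    rw [h] at hj
    have hi' : i < 4 := hi
    interval_cases i
    · rw [Dt.τw_val_eq TE6.extra TE6.braid j (Jl := [1]) (L := [1]) hj (by decide +kernel) (by decide +kernel) r hr]
      exact e6_g0 r hr
    · rw [Dt.τw_val_eq TE6.extra TE6.braid j (Jl := [3]) (L := [3]) hj (by decide +kernel) (by decide +kernel) r hr]
      exact e6_g1 r hr
    · rw [Dt.τw_val_eq TE6.extra TE6.braid j (Jl := [0, 5]) (L := [0, 5]) hj (by decide +kernel) (by decide +kernel) r hr]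
      exact e6_g2 r hr
    · rw [Dt.τw_val_eq TE6.extra TE6.braid j (Jl := [2, 4]) (L := [2, 4]) hj (by decide +kernel) (by decide +kernel) r hr]
      exact e6_g3 r hr
  have h2 := Dt.sum_W1_pc TE6.extra TE6.braid e6Tree e6IdC e' e6GenC hgen e6_h1 e6_h2 e6_h3 e6_h4 e6_h5 e6_h6 e6Gen_h7 (fun k => q ^ k)
  beta_reduce at h2
  rw [h1, hU, h2, e6_sum]

end E6

end CfsgLib.Chev
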