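/-
The torus and the order of `²G₂`.
-/
import Cfsg.Agent.Lib.Tw.Chars
import Cfsg.Agent.Lib.Chev.StAll

set_option autoImplicit false
set_option synthInstance.maxHeartbeats 400000
set_option synthInstance.maxSize 1024

namespace CfsgLib.Chev

open Cfsg.Lie Cfsg.Lie.ChevalleyDatum CfsgLib.BN

namespace TwData

variable {D : ChevalleyDatum} {C : Cert} {hG : Good D C} {K : Type*} [Field K] {A : TwAct hG K} {T : Subgroup (GL D.Idx K)}
  (Dt : TwData A T) (hE : Extra D C) (hB : Braid D C)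

/-- The torus element associated to a nontrivial element of a lower rank one group. -/
lemma exists_k_of_neg (j : Dt.ι) {y : GL D.Idx K} (hyT : y ∈ T) (hy : y ∈ hG.Xm K (fun r => lamJ C D.rank (Dt.J j) r = 0)) (hy1 : y ≠ 1)
    {ρ ρ' : Fin D.nroots} (h1 : ∀ r < D.nroots, D.nroots / 2 ≤ r → ρ.val ≠ D.neg r)
    (h2 : ∀ r < D.nroots, D.nroots / 2 ≤ r → D.chainEntry r ρ = []) (h3 : ∀ r < D.nroots, D.nroots / 2 ≤ r → ρ'.val ≠ r)
    (h4 : ∀ r < D.nroots, D.nroots / 2 ≤ r → ∀ s < D.nroots, ∀ e ∈ D.chainEntry r s, e.1 ≠ ρ'.val) (hτ : Dt.τw hE hB j ρ = ρ') :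
    ∃ k ∈ D.diagonalSubgroup K ⊓ T, ∃ d, IsMono hG k 1 d ∧ (y : Matrix D.Idx D.Idx K) (Sum.inr ρ') (Sum.inr ρ) = d ρ' * Dt.dw hE hB j ρ := by
  obtain ⟨a, ha, n, hn, c, hc, e, -⟩ := (Dt.twist hE hB).canonical hyT
  have ha' : a ∈ D.posUnipotent K := (Subgroup.mem_inf.1 ha).1
  have hc' : c ∈ D.posUnipotent K := (Subgroup.mem_inf.1 hc).1
  obtain ⟨hn1, hn2⟩ := Subgroup.mem_inf.1 hn
  have hn1' : n ∈ D.monomialSubgroup K := hn1
  have hn2' : n ∈ T := hn2
  have hk := Dt.rank1_neg hE hB j hn1' (Dt.T_fix n hn2') ha' hc' hy e hy1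
  have hkT : n * (Dt.w hE hB j)⁻¹ ∈ T := mul_mem hn2' (inv_mem (Dt.w_T hE hB j))
  obtain ⟨τ, d, hi⟩ := hG.mono_of_mem_N hE (hG.diagonal_le_monomial hk)
  have hτ1 := hE.perm_of_H hG hB hk hi
  subst hτ1
  refine ⟨_, Subgroup.mem_inf.2 ⟨hk, hkT⟩, d, hi, ?_⟩
  rw [e, hE.entry_canonical hG h1 h2 h3 h4 ha' hc']
  have e2 : n = n * (Dt.w hE hB j)⁻¹ * Dt.w hE hB j := by group
  have h5 := (hi.mul (Dt.w_mono hE hB j)).col_eq ρ
  rw [← e2] at h5
  simp only [one_mul, hτ] at h5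
  exact h5

end TwData

section G2

variable {K : Type*} [Field K] [CharP K 3] (hperf : ∀ x : K, ∃ y : K, y ^ 3 = x) (φ : K ≃+* K) (hφ2 : ∀ t, (φ (φ t)) ^ 3 = t)

local notation "X" => TG2.good.xG (F := K)

/-- Root indices as elements of `Fin`. -/
abbrev g2A' : Fin chevG2.nroots := ⟨g2a, by decide +kernel⟩
abbrev g2B' : Fin chevG2.nroots := ⟨g2b, by decide +kernel⟩

lemma g2s0 : chevG2.simple 0 = g2a := by decide +kernel
lemma g2s1 : chevG2.simple 1 = g2b := by decide +kernel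

include hφ2 in
/-- The fixed elements of `H`. -/
lemma g2_exists_H (y : Kˣ) : ∃ h ∈ chevG2.diagonalSubgroup K, ∃ d, IsMono TG2.good h 1 d ∧ d g2B' = y ∧ d g2A' = φ y ∧ (tG2 hperf φ).s h = h := by
  obtain ⟨h, hh, d, hd, hc⟩ := TG2.extra.exists_H_chars TG2.good cartanInvG2 (mul_eq_one_comm.1 (Matrix.ext cartanInvG2_spec))
    (fun i => if i.val = 0 then Units.map (φ : K →* K) y else y)
  have h0 : d g2A' = φ y := hc 0 (by decide +kernel)
  have h1 : d g2B' = y := hc 1 (by decide +kernel)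
  refine ⟨h, hh, d, hd, h1, h0, ?_⟩
  apply (tG2 hperf φ).fixed_of_chars TG2.extra hh hd
  intro i hi
  have hi' : i < 2 := hi
  interval_cases i
  · refine ⟨g2b, by decide +kernel, (by decide +kernel : gfG2.ρ g2b = chevG2.simple 0), ?_, ?_⟩
    · show (φ 1) ^ gfG2.lam g2b = 1
      simp
    · show (φ (d g2B')) ^ gfG2.lam g2b = d ⟨chevG2.simple 0, _⟩
      have e1 : gfG2.lam g2b = 1 := by decide +kernel
      rw [e1, pow_one, h1, ← h0]
      rfl
  · refine ⟨g2a, by decide +kernel, (by decide +kernel : gfG2.ρ g2a = chevG2.simple 1), ?_, ?_⟩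
    · show (φ 1) ^ gfG2.lam g2a = 1
      simp
    · show (φ (d g2A')) ^ gfG2.lam g2a = d ⟨chevG2.simple 1, _⟩
      have e1 : gfG2.lam g2a = 3 := by decide +kernel
      rw [e1, h0, hφ2]
      exact h1.symm

omit [CharP K 3] in
/-- The value of a character of an element of `H`. -/
lemma g2_coef {h : GL chevG2.Idx K} (hh : h ∈ chevG2.diagonalSubgroup K) {d : Fin chevG2.nroots → K} (hd : IsMono TG2.good h 1 d) (s : Fin chevG2.nroots) :
    d s = (d g2A') ^ (TG2.cert.coef s 0) * (d g2B') ^ (TG2.cert.coef s 1) := by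
  rw [TG2.extra.d_coef TG2.good hh hd s]
  exact Fin.prod_univ_two _

/-- The characters of the fixed elements. -/
lemma g2_chars_fixed {h : GL chevG2.Idx K} (hh : h ∈ chevG2.diagonalSubgroup K) (hs : (tG2 hperf φ).s h = h) {d : Fin chevG2.nroots → K} (hd : IsMono TG2.good h 1 d) :
    d g2A' = φ (d g2B') := by
  have h1 := (tG2 hperf φ).chars_of_fixed TG2.extra hh hs hd (r := g2b) (r' := g2a) (by decide +kernel) (by decide +kernel) (by decide +kernel : gfG2.ρ g2b = g2a) (by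
    show (φ 1) ^ gfG2.lam g2b = 1
    simp)
  have e1 : gfG2.lam g2b = 1 := by decide +kernel
  have h2 : (φ (d g2B')) ^ gfG2.lam g2b = d g2A' := h1
  rw [e1, pow_one] at h2
  exact h2.symm

variable {e : ℕ} (Dt : TwData (tG2 hperf φ) (twistedG2 K e)) (hJ : ∀ j, Dt.J j = {i | i ∈ [0, 1]})

include hJ in
/-- The permutation of the chosen element. -/
lemma g2_τ (j : Dt.ι) (r : ℕ) (hr : r < chevG2.nroots) : ((Dt.τw TG2.extra TG2.braid j) ⟨r, hr⟩).val = (actW TG2.cert [0, 1, 0, 1, 0, 1] r).1 :=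
  Dt.τw_val_eq TG2.extra TG2.braid j (hJ j) (by decide +kernel) (by decide +kernel) r hr

include hJ in
/-- Squares in the torus. -/
lemma g2_sq (j : Dt.ι) {h : GL chevG2.Idx K} (hh : h ∈ chevG2.diagonalSubgroup K) (hs : (tG2 hperf φ).s h = h) {d : Fin chevG2.nroots → K} (hd : IsMono TG2.good h 1 d) :
    ∃ k ∈ chevG2.diagonalSubgroup K ⊓ twistedG2 K e, ∃ d', IsMono TG2.good k 1 d' ∧ d' g2B' = (d g2B') ^ 2 := by
  have h1 := Dt.comm_mem TG2.extra TG2.braid j hh hs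
  have h2 := Dt.comm_isMono TG2.extra TG2.braid j hd
  have hw := Dt.w_N TG2.extra TG2.braid j
  refine ⟨_, Subgroup.mem_inf.2 ⟨mul_mem hh (TG2.extra.diagonal_conj TG2.good hw (inv_mem hh)), h1⟩, _, h2, ?_⟩
  have e1 : (Dt.τw TG2.extra TG2.braid j) g2B' = ⟨5, by decide +kernel⟩ := by
    apply Fin.ext
    rw [g2_τ hperf φ Dt hJ j g2b (by decide +kernel)]
    decide +kernel
  rw [e1, g2_coef hh hd ⟨5, by decide +kernel⟩]
  have c0 : TG2.cert.coef (⟨5, by decide +kernel⟩ : Fin chevG2.nroots) 0 = 0 := by decide +kernel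
  have c1 : TG2.cert.coef (⟨5, by decide +kernel⟩ : Fin chevG2.nroots) 1 = -1 := by decide +kernel
  rw [c0, c1]
  have := hd.d_ne g2B'
  simp only [zpow_zero, one_mul, zpow_neg, zpow_one, inv_inv]
  ring


/-- The word `y₁` over `𝔽₃`. -/
def g2w1 : List (ℕ × ZMod 3) := [(4, 0), (5, 0), (3, -1), (2, 0), (1, -1), (0, 0)]
/-- The word `y₂` over `𝔽₃`. -/
def g2w2 : List (ℕ × ZMod 3) := [(4, -1), (5, -1), (3, -1), (2, -1), (1, 0), (0, 0)]

lemma g2w1_entry : (chevG2.wordMat (ZMod 3) g2w1) (Sum.inr ⟨0, by decide +kernel⟩) (Sum.inr ⟨11, by decide +kernel⟩) = -1 := by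
  decide +kernel

lemma g2w2_entry : (chevG2.wordMat (ZMod 3) g2w2) (Sum.inr ⟨0, by decide +kernel⟩) (Sum.inr ⟨11, by decide +kernel⟩) = 1 := by
  decide +kernel

lemma g2_word_Xm {P : ℕ → Prop} (hP : ∀ r, P r) (w : List (ℕ × K)) (hw : ∀ p ∈ w, p.1 < chevG2.nroots / 2) : TG2.good.wordG w ∈ TG2.good.Xm K P := by
  have hn : chevG2.nroots = 12 := by decide +kernel
  induction w with
  | nil =>
    rw [TG2.good.wordG_nil]
    exact one_mem _
  | cons a w ih =>
    rw [TG2.good.wordG_cons]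
    have h := hw a (by simp)
    exact mul_mem (Subgroup.subset_closure ⟨a.1, a.2, by omega, h, hP _, rfl⟩) (ih fun p hp => hw p (by simp [hp]))

lemma g2_reeV_1 (he : e ≠ 0) : reeWordV e (0 : K) 1 0 = g2w1.map fun p => (p.1, ZMod.castHom (dvd_refl 3) K p.2) := by
  simp [reeWordV, reeWordU, ChevalleyDatum.negWord, g2w1, zero_pow he]
  decide +kernel

lemma g2_reeV_2 (he : e ≠ 0) : reeWordV e (1 : K) 0 0 = g2w2.map fun p => (p.1, ZMod.castHom (dvd_refl 3) K p.2) := by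
  simp [reeWordV, reeWordU, ChevalleyDatum.negWord, g2w2, zero_pow he]
  decide +kernel

include hJ hφ2 in
/-- An element of the torus with a value that is not a square. -/
lemma g2_nonsq (he : e ≠ 0) (hm1 : ¬ IsSquare (-1 : K)) (j : Dt.ι) :
    ∃ k ∈ chevG2.diagonalSubgroup K ⊓ twistedG2 K e, ∃ d, IsMono TG2.good k 1 d ∧ ¬ IsSquare (d g2B') := by
  have hZ : (ZMod.castHom (dvd_refl 3) K) (-1) = -1 := by simp
  have hZ1 : (ZMod.castHom (dvd_refl 3) K) 1 = 1 := by simp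
  set ρ : Fin chevG2.nroots := ⟨11, by decide +kernel⟩ with hρ
  set ρ' : Fin chevG2.nroots := ⟨0, by decide +kernel⟩ with hρ'
  have hτ : (Dt.τw TG2.extra TG2.braid j) ρ = ρ' := by
    apply Fin.ext
    rw [hρ, g2_τ hperf φ Dt hJ j 11 (by decide +kernel)]
    decide +kernel
  have h1 : ∀ r < chevG2.nroots, chevG2.nroots / 2 ≤ r → ρ.val ≠ chevG2.neg r := by decide +kernel
  have h2 : ∀ r < chevG2.nroots, chevG2.nroots / 2 ≤ r → chevG2.chainEntry r ρ = [] := by decide +kernel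
  have h3 : ∀ r < chevG2.nroots, chevG2.nroots / 2 ≤ r → ρ'.val ≠ r := by decide +kernel
  have h4 : ∀ r < chevG2.nroots, chevG2.nroots / 2 ≤ r → ∀ s < chevG2.nroots, ∀ e ∈ chevG2.chainEntry r s, e.1 ≠ ρ'.val := by decide +kernel
  have hP : ∀ r, lamJ TG2.cert chevG2.rank (Dt.J j) r = 0 := by
    intro r
    rw [hJ j]
    classical
    unfold lamJ
    apply Finset.sum_eq_zero
    intro k _
    rw [if_pos]
    have : ∀ k < chevG2.rank, k ∈ [0, 1] := by decide +kernel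
    exact this k k.2
  have hne : ∀ y : GL chevG2.Idx K, (y : Matrix chevG2.Idx chevG2.Idx K) (Sum.inr ρ') (Sum.inr ρ) ≠ 0 → y ≠ 1 := by
    rintro y hy rfl
    apply hy
    rw [Units.val_one, Matrix.one_apply_ne]
    intro h
    have := Sum.inr.inj h
    rw [hρ, hρ'] at this
    exact absurd (congrArg Fin.val this) (by decide)
  have e1 : ((TG2.good.wordG (reeWordV e (0 : K) 1 0) : GL chevG2.Idx K) : Matrix chevG2.Idx chevG2.Idx K) (Sum.inr ρ') (Sum.inr ρ) = -1 := by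
    rw [TG2.good.wordG_val, g2_reeV_1 he, ← TG2.good.wordMat_map, Matrix.map_apply, g2w1_entry, hZ]
  have e2 : ((TG2.good.wordG (reeWordV e (1 : K) 0 0) : GL chevG2.Idx K) : Matrix chevG2.Idx chevG2.Idx K) (Sum.inr ρ') (Sum.inr ρ) = 1 := by
    rw [TG2.good.wordG_val, g2_reeV_2 he, ← TG2.good.wordMat_map, Matrix.map_apply, g2w2_entry, hZ1]
  have hm1' : (-1 : K) ≠ 0 := by simp
  obtain ⟨k1, hk1, d1, hd1, e3⟩ := Dt.exists_k_of_neg TG2.extra TG2.braid j (y := TG2.good.wordG (reeWordV e (0 : K) 1 0))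
    (TG2.good.wordG_mem_gen ⟨0, 1, 0, Or.inr rfl⟩)
    (g2_word_Xm hP _ (by
      rw [g2_reeV_1 he]
      intro p hp
      obtain ⟨q, hq, rfl⟩ := List.mem_map.1 hp
      exact (by decide +kernel : ∀ q ∈ g2w1, q.1 < chevG2.nroots / 2) q hq)) (hne _ (by rw [e1]; exact hm1')) h1 h2 h3 h4 hτ
  obtain ⟨k2, hk2, d2, hd2, e4⟩ := Dt.exists_k_of_neg TG2.extra TG2.braid j (y := TG2.good.wordG (reeWordV e (1 : K) 0 0))
    (TG2.good.wordG_mem_gen ⟨1, 0, 0, Or.inr rfl⟩)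
    (g2_word_Xm hP _ (by
      rw [g2_reeV_2 he]
      intro p hp
      obtain ⟨q, hq, rfl⟩ := List.mem_map.1 hp
      exact (by decide +kernel : ∀ q ∈ g2w2, q.1 < chevG2.nroots / 2) q hq)) (hne _ (by rw [e2]; exact one_ne_zero)) h1 h2 h3 h4 hτ
  rw [e1] at e3
  rw [e2] at e4
  have hk : k1 * k2⁻¹ ∈ chevG2.diagonalSubgroup K ⊓ twistedG2 K e := mul_mem hk1 (inv_mem hk2)
  have hd := hd1.hmul hd2.hinv
  refine ⟨_, hk, _, hd, ?_⟩
  obtain ⟨hk3, hk4⟩ := Subgroup.mem_inf.1 hk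
  rintro ⟨z, hz⟩
  have h5 := g2_chars_fixed hperf φ hk3 (Dt.T_fix _ hk4) hd
  have h6 := g2_coef hk3 hd ρ'
  have c0 : TG2.cert.coef ρ' 0 = -3 := by decide +kernel
  have c1 : TG2.cert.coef ρ' 1 = -2 := by decide +kernel
  rw [c0, c1, h5, hz] at h6
  have h7 : d1 ρ' * (d2 ρ')⁻¹ = -1 := by
    rw [← eq_inv_of_mul_eq_one_right e4.symm, ← e3]
  have h8 : d1 ρ' * (d2 ρ')⁻¹ = _ := h6
  rw [h7, map_mul, mul_zpow, mul_zpow] at h8
  apply hm1
  exact ⟨_, h8.trans (mul_mul_mul_comm _ _ _ _)⟩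

include hJ hφ2 hperf in
/-- The values on `b` of elements of `H¹` are arbitrary. -/
lemma g2_surj [Fintype K] (he : e ≠ 0) (hm1 : ¬ IsSquare (-1 : K)) (j : Dt.ι) (y : Kˣ) :
    ∃ k ∈ chevG2.diagonalSubgroup K ⊓ twistedG2 K e, ∃ d, IsMono TG2.good k 1 d ∧ d g2B' = y := by
  have hc : ringChar K ≠ 2 := by
    rw [ringChar.eq K 3]
    decide
  -- squares
  have hsq : ∀ z : Kˣ, ∃ k ∈ chevG2.diagonalSubgroup K ⊓ twistedG2 K e, ∃ d, IsMono TG2.good k 1 d ∧ d g2B' = (z : K) ^ 2 := by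
    intro z
    obtain ⟨h, hh, d, hd, h1, h2, h3⟩ := g2_exists_H hperf φ hφ2 z
    obtain ⟨k, hk, d', hd', e1⟩ := g2_sq hperf φ Dt hJ j hh h3 hd
    exact ⟨k, hk, d', hd', by rw [e1, h1]⟩
  by_cases hy : IsSquare (y : K)
  · obtain ⟨z, hz⟩ := hy
    have hz0 : z ≠ 0 := by
      rintro rfl
      exact y.ne_zero (by rw [hz, mul_zero])
    obtain ⟨k, hk, d, hd, e1⟩ := hsq (Units.mk0 z hz0)
    exact ⟨k, hk, d, hd, by rw [e1, hz, Units.val_mk0]; ring⟩
  · obtain ⟨k, hk, d, hd, hx⟩ := g2_nonsq hperf φ hφ2 Dt hJ he hm1 j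
    have hx0 := hd.d_ne g2B'
    have hq : IsSquare ((y : K) * (d g2B')⁻¹) := by
      rw [FiniteField.isSquare_iff hc (mul_ne_zero y.ne_zero (inv_ne_zero hx0))]
      have h1 : (y : K) ^ (Fintype.card K / 2) = -1 := by
        rcases FiniteField.pow_dichotomy hc y.ne_zero with h | h
        · exact absurd ((FiniteField.isSquare_iff hc y.ne_zero).2 h) hy
        · exact h
      have h2 : (d g2B') ^ (Fintype.card K / 2) = -1 := by
        rcases FiniteField.pow_dichotomy hc hx0 with h | h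
        · exact absurd ((FiniteField.isSquare_iff hc hx0).2 h) hx
        · exact h
      rw [mul_pow, inv_pow, h1, h2]
      have : (-1 : K) ≠ 0 := by simp
      field_simp
    obtain ⟨z, hz⟩ := hq
    have hz0 : z ≠ 0 := by
      rintro rfl
      rw [mul_zero] at hz
      exact (mul_ne_zero y.ne_zero (inv_ne_zero hx0)) hz
    obtain ⟨k', hk', d', hd', e1⟩ := hsq (Units.mk0 z hz0)
    refine ⟨k' * k, mul_mem hk' hk, _, hd'.hmul hd, ?_⟩
    show d' g2B' * d g2B' = y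
    rw [e1, Units.val_mk0, pow_two, ← hz]
    field_simp

include hJ hφ2 hperf in
/-- The order of `H¹`. -/
theorem g2_card_H [Fintype K] (he : e ≠ 0) (hm1 : ¬ IsSquare (-1 : K)) (j : Dt.ι) :
    Nat.card ↥(chevG2.diagonalSubgroup K ⊓ twistedG2 K e) = Nat.card Kˣ := by
  choose f hf d hd hd2 using g2_surj hperf φ hφ2 Dt hJ he hm1 j
  apply CfsgLib.Tw.card_of_param _ f
  · intro y y' h
    apply Units.ext
    rw [← hd2 y, ← hd2 y']
    have h1 := hd y
    rw [h] at h1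
    rw [h1.d_unique (hd y')]
  · intro x
    constructor
    · intro hx
      obtain ⟨hx1, hx2⟩ := Subgroup.mem_inf.1 hx
      obtain ⟨τ, d', hi⟩ := TG2.good.mono_of_mem_N TG2.extra (TG2.good.diagonal_le_monomial hx1)
      have hτ1 := TG2.extra.perm_of_H TG2.good TG2.braid hx1 hi
      subst hτ1
      refine ⟨Units.mk0 (d' g2B') (hi.d_ne _), ?_⟩
      set y := Units.mk0 (d' g2B') (hi.d_ne _) with hy
      obtain ⟨h1, h2⟩ := Subgroup.mem_inf.1 (hf y)
      apply TG2.extra.H_ext TG2.good h1 hx1 (hd y) hi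
      have hb : d y g2B' = d' g2B' := by rw [hd2 y, hy, Units.val_mk0]
      have ha : d y g2A' = d' g2A' := by
        rw [g2_chars_fixed hperf φ h1 (Dt.T_fix _ h2) (hd y), g2_chars_fixed hperf φ hx1 (Dt.T_fix _ hx2) hi, hb]
      intro i hi'
      have hi'' : i < 2 := hi'
      interval_cases i
      · exact ha
      · exact hb
    · rintro ⟨a, rfl⟩
      exact hf a

include hJ in
/-- The fixed points of the rank one group. -/
lemma g2_Un_eq (j : Dt.ι) :
    ((tG2 hperf φ).base TG2.extra TG2.braid).Un (Dt.w TG2.extra TG2.braid j) ⊓ ((tG2 hperf φ).base TG2.extra TG2.braid).Fx =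
      chevG2.posUnipotent K ⊓ twistedG2 K e := by
  rw [Dt.U_inf_T TG2.extra TG2.braid]
  ext x
  rw [Dt.mem_X_iff TG2.extra TG2.braid j]
  constructor
  · rintro ⟨h1, h2⟩
    have hU := TG2.extra.Xp_le_U TG2.good _ h1
    exact Subgroup.mem_inf.2 ⟨hU, TG2.good.posUnipotent_le_group hU, h2⟩
  · intro hx
    obtain ⟨hgU, -, hs⟩ := Subgroup.mem_inf.1 hx
    refine ⟨?_, hs⟩
    rw [hJ j]
    have hv : chevG2.posUnipotent K ≤ TG2.good.Xp K (fun r => True) := by
      rw [TG2.good.posUnipotent_eq]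
      apply (Subgroup.closure_le _).2
      rintro _ ⟨r, hr, t, rfl⟩
      exact Subgroup.subset_closure ⟨r, t, hr.1, (TG2.extra.posIff r hr.1).1 hr, trivial, rfl⟩
    have h2 : TG2.good.Xp K (fun r => True) ≤ TG2.good.Xp K (fun r => lamJ TG2.cert chevG2.rank {i | i ∈ [0, 1]} r = 0) := by
      apply TG2.good.Xp_mono
      intro r hr _ _
      classical
      unfold lamJ
      apply Finset.sum_eq_zero
      intro k _
      rw [if_pos]
      have : ∀ k < chevG2.rank, k ∈ [0, 1] := by decide +kernel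
      exact this k k.2
    exact h2 (hv hgU)

/-- The digits of the Weyl group of the fixed points. -/
noncomputable def g2Dig (c : List ℕ) (r : ℕ) : ℕ := (actW TG2.cert c r).1

include hJ hφ2 in
/-- The order of the group, given the order of the torus. -/
theorem g2_card_T (hφ : ∀ t, φ t = t ^ e) [Fintype K] {Q : ℕ} (hQ : Nat.card K = Q) (e' : Dt.ι ≃ Fin 1) :
    Nat.card ↥(twistedG2 K e) = Q ^ 3 * Nat.card ↥(chevG2.diagonalSubgroup K ⊓ twistedG2 K e) * (1 + Q ^ 3) := by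
  have hU : Nat.card ↥(chevG2.posUnipotent K ⊓ twistedG2 K e) = Q ^ 3 := by
    rw [g2_card_U hperf φ hφ2 hφ, hQ]
  have hk : ∀ j, ∃ v : ℕ, (posJ chevG2 TG2.cert (Dt.J j)).card = 2 * v ∧
      Nat.card ↥(((tG2 hperf φ).base TG2.extra TG2.braid).Un (Dt.w TG2.extra TG2.braid j) ⊓ ((tG2 hperf φ).base TG2.extra TG2.braid).Fx) = Q ^ v := by
    intro j
    refine ⟨3, ?_, ?_⟩
    · rw [hJ j, TG2.extra.card_posJ (hG := TG2.good) (Jl := [0, 1]) (L := [g2b, g2a, g2ab, g2aab, g2aaab, g2aaabb]) (by decide +kernel) (by decide +kernel) (by decide +kernel)]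
      rfl
    · rw [g2_Un_eq hperf φ Dt hJ j, hU]
  have h1 := Dt.card_T TG2.extra TG2.braid (fun k => Q ^ (k / 2)) (fun m hm => by
    obtain ⟨hm1, hm2⟩ := Subgroup.mem_inf.1 hm
    exact (Dt.card_Un2 TG2.extra TG2.braid hk _ m hm1 (Dt.T_fix m hm2) le_rfl).1)
  have h2 := Dt.sum_W1 TG2.extra TG2.braid g2Dig [[], [0, 1, 0, 1, 0, 1]] e' (fun _ => [0, 1, 0, 1, 0, 1])
    (fun j r hr => g2_τ hperf φ Dt hJ j r hr)
    (by decide +kernel) (by decide +kernel) (by decide +kernel) (by decide +kernel) (fun k => Q ^ (k / 2))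
  beta_reduce at h2
  rw [h1, hU, h2]
  have e0 : TwData.invC g2Dig chevG2.nroots [] = 0 := by decide +kernel
  have e1 : TwData.invC g2Dig chevG2.nroots [0, 1, 0, 1, 0, 1] = 6 := by decide +kernel
  simp only [List.map_cons, List.map_nil, List.sum_cons, List.sum_nil, e0, e1]
  norm_num

end G2

end CfsgLib.Chev
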