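/-
The torus and the order of `²F₄`.
-/
import Cfsg.Agent.Lib.Tw.OrdG2

set_option autoImplicit false
set_option synthInstance.maxHeartbeats 400000
set_option synthInstance.maxSize 1024

namespace CfsgLib.Chev

open Cfsg.Lie Cfsg.Lie.ChevalleyDatum CfsgLib.BN

section F4

variable {K : Type*} [Field K] [CharP K 2] (hperf : ∀ x : K, ∃ y : K, y ^ 2 = x) (φ : K ≃+* K) (hφ2 : ∀ t, (φ (φ t)) ^ 2 = t)

/-- Root indices as elements of `Fin`. -/
abbrev f4P1 : Fin chevF4.nroots := ⟨33, by decide +kernel⟩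
abbrev f4A : Fin chevF4.nroots := ⟨27, by decide +kernel⟩
abbrev f4B : Fin chevF4.nroots := ⟨25, by decide +kernel⟩
abbrev f4P4 : Fin chevF4.nroots := ⟨24, by decide +kernel⟩

include hφ2 in
/-- The fixed elements of `H`. -/
lemma f4_exists_H (x y : Kˣ) : ∃ h ∈ chevF4.diagonalSubgroup K, ∃ d, IsMono TF4.good h 1 d ∧ d f4P4 = x ∧ d f4B = y ∧ d f4P1 = φ x ∧ d f4A = φ y ∧ (tF4 hperf φ).s h = h := by
  obtain ⟨h, hh, d, hd, hc⟩ := TF4.extra.exists_H_chars TF4.good cartanInvF4 (mul_eq_one_comm.1 (Matrix.ext cartanInvF4_spec))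
    (fun i => if i.val = 0 then Units.map (φ : K →* K) x else if i.val = 1 then Units.map (φ : K →* K) y else if i.val = 2 then y else x)
  have h0 : d f4P1 = φ x := hc 0 (by decide +kernel)
  have h1 : d f4A = φ y := hc 1 (by decide +kernel)
  have h2 : d f4B = y := hc 2 (by decide +kernel)
  have h3 : d f4P4 = x := hc 3 (by decide +kernel)
  refine ⟨h, hh, d, hd, h3, h2, h0, h1, ?_⟩
  apply (tF4 hperf φ).fixed_of_chars TF4.extra hh hd
  intro i hi
  have hi' : i < 4 := hi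
  interval_cases i
  · refine ⟨f4p4, by decide +kernel, (by decide +kernel : gfF4.ρ f4p4 = chevF4.simple 0), ?_, ?_⟩
    · show (φ 1) ^ gfF4.lam f4p4 = 1
      simp
    · show (φ (d f4P4)) ^ gfF4.lam f4p4 = d ⟨chevF4.simple 0, _⟩
      have e1 : gfF4.lam f4p4 = 1 := by decide +kernel
      rw [e1, pow_one, h3, ← h0]
      rfl
  · refine ⟨f4b, by decide +kernel, (by decide +kernel : gfF4.ρ f4b = chevF4.simple 1), ?_, ?_⟩
    · show (φ 1) ^ gfF4.lam f4b = 1
      simp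
    · show (φ (d f4B)) ^ gfF4.lam f4b = d ⟨chevF4.simple 1, _⟩
      have e1 : gfF4.lam f4b = 1 := by decide +kernel
      rw [e1, pow_one, h2, ← h1]
      rfl
  · refine ⟨f4a, by decide +kernel, (by decide +kernel : gfF4.ρ f4a = chevF4.simple 2), ?_, ?_⟩
    · show (φ 1) ^ gfF4.lam f4a = 1
      simp
    · show (φ (d f4A)) ^ gfF4.lam f4a = d ⟨chevF4.simple 2, _⟩
      have e1 : gfF4.lam f4a = 2 := by decide +kernel
      rw [e1, h1, hφ2]
      exact h2.symm
  · refine ⟨f4p1, by decide +kernel, (by decide +kernel : gfF4.ρ f4p1 = chevF4.simple 3), ?_, ?_⟩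
    · show (φ 1) ^ gfF4.lam f4p1 = 1
      simp
    · show (φ (d f4P1)) ^ gfF4.lam f4p1 = d ⟨chevF4.simple 3, _⟩
      have e1 : gfF4.lam f4p1 = 2 := by decide +kernel
      rw [e1, h0, hφ2]
      exact h3.symm

omit [CharP K 2] in
/-- The value of a character of an element of `H`. -/
lemma f4_coef {h : GL chevF4.Idx K} (hh : h ∈ chevF4.diagonalSubgroup K) {d : Fin chevF4.nroots → K} (hd : IsMono TF4.good h 1 d) (s : Fin chevF4.nroots) :
    d s = (d f4P1) ^ (TF4.cert.coef s 0) * (d f4A) ^ (TF4.cert.coef s 1) * (d f4B) ^ (TF4.cert.coef s 2) * (d f4P4) ^ (TF4.cert.coef s 3) := by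
  rw [TF4.extra.d_coef TF4.good hh hd s]
  exact Fin.prod_univ_four _

/-- The characters of the fixed elements. -/
lemma f4_chars_fixed {h : GL chevF4.Idx K} (hh : h ∈ chevF4.diagonalSubgroup K) (hs : (tF4 hperf φ).s h = h) {d : Fin chevF4.nroots → K} (hd : IsMono TF4.good h 1 d) :
    d f4P1 = φ (d f4P4) ∧ d f4A = φ (d f4B) := by
  constructor
  · have h1 := (tF4 hperf φ).chars_of_fixed TF4.extra hh hs hd (r := f4p4) (r' := f4p1) (by decide +kernel) (by decide +kernel) (by decide +kernel : gfF4.ρ f4p4 = f4p1) (by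
      show (φ 1) ^ gfF4.lam f4p4 = 1
      simp)
    have e1 : gfF4.lam f4p4 = 1 := by decide +kernel
    have h2 : (φ (d f4P4)) ^ gfF4.lam f4p4 = d f4P1 := h1
    rw [e1, pow_one] at h2
    exact h2.symm
  · have h1 := (tF4 hperf φ).chars_of_fixed TF4.extra hh hs hd (r := f4b) (r' := f4a) (by decide +kernel) (by decide +kernel) (by decide +kernel : gfF4.ρ f4b = f4a) (by
      show (φ 1) ^ gfF4.lam f4b = 1
      simp)
    have e1 : gfF4.lam f4b = 1 := by decide +kernel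
    have h2 : (φ (d f4B)) ^ gfF4.lam f4b = d f4A := h1
    rw [e1, pow_one] at h2
    exact h2.symm

variable {e : ℕ} (Dt : TwData (tF4 hperf φ) (twistedF4 K e)) (e' : Dt.ι ≃ Fin 2) (hJ : ∀ j, Dt.J j = {i | i ∈ f4J (e' j)})

include hJ in
lemma f4_τ0 (j : Dt.ι) (hj : e' j = 0) (r : ℕ) (hr : r < chevF4.nroots) : ((Dt.τw TF4.extra TF4.braid j) ⟨r, hr⟩).val = (actW TF4.cert [0, 3] r).1 := by
  have h : Dt.J j = {i | i ∈ [0, 3]} := by
    rw [hJ j, hj]
    rfl
  exact Dt.τw_val_eq TF4.extra TF4.braid j h (by decide +kernel) (by decide +kernel) r hr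

include hJ in
lemma f4_τ1 (j : Dt.ι) (hj : e' j = 1) (r : ℕ) (hr : r < chevF4.nroots) : ((Dt.τw TF4.extra TF4.braid j) ⟨r, hr⟩).val = (actW TF4.cert [1, 2, 1, 2] r).1 := by
  have h : Dt.J j = {i | i ∈ [1, 2]} := by
    rw [hJ j, hj]
    rfl
  exact Dt.τw_val_eq TF4.extra TF4.braid j h (by decide +kernel) (by decide +kernel) r hr

include hJ hφ2 in
/-- The elements `A(x)`. -/
lemma f4_elA (x : Kˣ) : ∃ k ∈ chevF4.diagonalSubgroup K ⊓ twistedF4 K e, ∃ d, IsMono TF4.good k 1 d ∧ d f4P4 = (x : K) ^ 2 ∧ d f4B = (x : K)⁻¹ := by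
  obtain ⟨h, hh, d, hd, h1, h2, h3, h4, hs⟩ := f4_exists_H hperf φ hφ2 x 1
  have j0 : e' (e'.symm 0) = 0 := e'.apply_symm_apply 0
  set j := e'.symm 0
  have h5 := Dt.comm_mem TF4.extra TF4.braid j hh hs
  have h6 := Dt.comm_isMono TF4.extra TF4.braid j hd
  have hw := Dt.w_N TF4.extra TF4.braid j
  refine ⟨_, Subgroup.mem_inf.2 ⟨mul_mem hh (TF4.extra.diagonal_conj TF4.good hw (inv_mem hh)), h5⟩, _, h6, ?_, ?_⟩
  · have e1 : (Dt.τw TF4.extra TF4.braid j) f4P4 = ⟨23, by decide +kernel⟩ := by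
      apply Fin.ext
      rw [f4_τ0 hperf φ Dt e' hJ j j0 24 (by decide +kernel)]
      decide +kernel
    rw [e1, f4_coef hh hd ⟨23, by decide +kernel⟩]
    have c0 : TF4.cert.coef (⟨23, by decide +kernel⟩ : Fin chevF4.nroots) 0 = 0 := by decide +kernel
    have c1 : TF4.cert.coef (⟨23, by decide +kernel⟩ : Fin chevF4.nroots) 1 = 0 := by decide +kernel
    have c2 : TF4.cert.coef (⟨23, by decide +kernel⟩ : Fin chevF4.nroots) 2 = 0 := by decide +kernel
    have c3 : TF4.cert.coef (⟨23, by decide +kernel⟩ : Fin chevF4.nroots) 3 = -1 := by decide +kernel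
    rw [c0, c1, c2, c3, h1]
    simp only [zpow_zero, one_mul, zpow_neg, zpow_one, inv_inv]
    ring
  · have e1 : (Dt.τw TF4.extra TF4.braid j) f4B = ⟨26, by decide +kernel⟩ := by
      apply Fin.ext
      rw [f4_τ0 hperf φ Dt e' hJ j j0 25 (by decide +kernel)]
      decide +kernel
    rw [e1, f4_coef hh hd ⟨26, by decide +kernel⟩]
    have c0 : TF4.cert.coef (⟨26, by decide +kernel⟩ : Fin chevF4.nroots) 0 = 0 := by decide +kernel
    have c1 : TF4.cert.coef (⟨26, by decide +kernel⟩ : Fin chevF4.nroots) 1 = 0 := by decide +kernel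
    have c2 : TF4.cert.coef (⟨26, by decide +kernel⟩ : Fin chevF4.nroots) 2 = 1 := by decide +kernel
    have c3 : TF4.cert.coef (⟨26, by decide +kernel⟩ : Fin chevF4.nroots) 3 = 1 := by decide +kernel
    rw [c0, c1, c2, c3, h1, h2]
    simp

include hJ hφ2 in
/-- The elements `C(y)`. -/
lemma f4_elC (y : Kˣ) : ∃ k ∈ chevF4.diagonalSubgroup K ⊓ twistedF4 K e, ∃ d, IsMono TF4.good k 1 d ∧ d f4P4 = ((φ y * y : K) ^ 2)⁻¹ ∧ d f4B = (y : K) ^ 2 := by
  obtain ⟨h, hh, d, hd, h1, h2, h3, h4, hs⟩ := f4_exists_H hperf φ hφ2 1 y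
  have j0 : e' (e'.symm 1) = 1 := e'.apply_symm_apply 1
  set j := e'.symm 1
  have h5 := Dt.comm_mem TF4.extra TF4.braid j hh hs
  have h6 := Dt.comm_isMono TF4.extra TF4.braid j hd
  have hw := Dt.w_N TF4.extra TF4.braid j
  have hy : (y : K) ≠ 0 := y.ne_zero
  have hφy : φ (y : K) ≠ 0 := by simp
  refine ⟨_, Subgroup.mem_inf.2 ⟨mul_mem hh (TF4.extra.diagonal_conj TF4.good hw (inv_mem hh)), h5⟩, _, h6, ?_, ?_⟩
  · have e1 : (Dt.τw TF4.extra TF4.braid j) f4P4 = ⟨32, by decide +kernel⟩ := by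
      apply Fin.ext
      rw [f4_τ1 hperf φ Dt e' hJ j j0 24 (by decide +kernel)]
      decide +kernel
    rw [e1, f4_coef hh hd ⟨32, by decide +kernel⟩]
    have c0 : TF4.cert.coef (⟨32, by decide +kernel⟩ : Fin chevF4.nroots) 0 = 0 := by decide +kernel
    have c1 : TF4.cert.coef (⟨32, by decide +kernel⟩ : Fin chevF4.nroots) 1 = 2 := by decide +kernel
    have c2 : TF4.cert.coef (⟨32, by decide +kernel⟩ : Fin chevF4.nroots) 2 = 2 := by decide +kernel
    have c3 : TF4.cert.coef (⟨32, by decide +kernel⟩ : Fin chevF4.nroots) 3 = 1 := by decide +kernel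
    rw [c0, c1, c2, c3, h1, h2, h4]
    simp only [zpow_zero, one_mul, zpow_one, Units.val_one, zpow_ofNat, one_pow]
    field_simp
  · have e1 : (Dt.τw TF4.extra TF4.braid j) f4B = ⟨22, by decide +kernel⟩ := by
      apply Fin.ext
      rw [f4_τ1 hperf φ Dt e' hJ j j0 25 (by decide +kernel)]
      decide +kernel
    rw [e1, f4_coef hh hd ⟨22, by decide +kernel⟩]
    have c0 : TF4.cert.coef (⟨22, by decide +kernel⟩ : Fin chevF4.nroots) 0 = 0 := by decide +kernel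
    have c1 : TF4.cert.coef (⟨22, by decide +kernel⟩ : Fin chevF4.nroots) 1 = 0 := by decide +kernel
    have c2 : TF4.cert.coef (⟨22, by decide +kernel⟩ : Fin chevF4.nroots) 2 = -1 := by decide +kernel
    have c3 : TF4.cert.coef (⟨22, by decide +kernel⟩ : Fin chevF4.nroots) 3 = 0 := by decide +kernel
    rw [c0, c1, c2, c3, h2]
    simp only [zpow_zero, one_mul, mul_one, zpow_neg, zpow_one, inv_inv]
    ring

include hφ2 in
omit [CharP K 2] in
/-- Squaring is injective. -/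
lemma f4_sq_inj {u v : K} (h : u ^ 2 = v ^ 2) : u = v := by
  have key : ∀ t : K, φ (φ (t ^ 2)) = t := by
    intro t
    rw [map_pow, map_pow, hφ2]
  rw [← key u, ← key v, h]

include hJ hφ2 in
/-- The elements of `H¹`. -/
lemma f4_surj [Finite K] (u v : Kˣ) : ∃ k ∈ chevF4.diagonalSubgroup K ⊓ twistedF4 K e, ∃ d, IsMono TF4.good k 1 d ∧ d f4P4 = u ∧ d f4B = v := by
  -- the map `y ↦ (y / φ y) ^ 2`
  let ψ : Kˣ → Kˣ := fun y => (y * (Units.map (φ : K →* K) y)⁻¹) ^ 2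
  have hψinj : Function.Injective ψ := by
    intro a b hab
    have h1 : ((a : K) * (φ (a : K))⁻¹) ^ 2 = ((b : K) * (φ (b : K))⁻¹) ^ 2 := by
      have := congrArg Units.val hab
      simpa [ψ] using this
    have h2 := f4_sq_inj φ hφ2 h1
    have ha : (a : K) ≠ 0 := a.ne_zero
    have hb : (b : K) ≠ 0 := b.ne_zero
    have ha' : φ (a : K) ≠ 0 := by simp
    have hb' : φ (b : K) ≠ 0 := by simp
    have h3 : φ ((a : K) * (b : K)⁻¹) = (a : K) * (b : K)⁻¹ := by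
      rw [map_mul, map_inv₀]
      field_simp at h2 ⊢
      rw [← h2]
    have h4 := hφ2 ((a : K) * (b : K)⁻¹)
    rw [h3, h3, pow_two] at h4
    have h5 : (a : K) * (b : K)⁻¹ = 1 := by
      have h6 : (a : K) * (b : K)⁻¹ ≠ 0 := mul_ne_zero ha (inv_ne_zero hb)
      exact mul_left_cancel₀ h6 (by rw [h4, mul_one])
    apply Units.ext
    field_simp at h5
    exact h5
  have hψ : Function.Surjective ψ := Finite.injective_iff_surjective.1 hψinj
  -- elements `(t, 1)`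
  have hE : ∀ t : Kˣ, ∃ k ∈ chevF4.diagonalSubgroup K ⊓ twistedF4 K e, ∃ d, IsMono TF4.good k 1 d ∧ d f4P4 = t ∧ d f4B = 1 := by
    intro t
    obtain ⟨y, rfl⟩ := hψ t
    obtain ⟨k1, hk1, d1, hd1, e1, e2⟩ := f4_elC hperf φ hφ2 Dt e' hJ y
    obtain ⟨k2, hk2, d2, hd2, e3, e4⟩ := f4_elA hperf φ hφ2 Dt e' hJ (y ^ 2)
    refine ⟨k1 * k2, mul_mem hk1 hk2, _, hd1.hmul hd2, ?_, ?_⟩
    · show d1 f4P4 * d2 f4P4 = _
      have hy : (y : K) ≠ 0 := y.ne_zero
      have hy' : φ (y : K) ≠ 0 := by simp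
      rw [e1, e3]
      simp only [ψ, Units.val_pow_eq_pow_val, Units.val_mul, Units.val_inv_eq_inv_val, Units.coe_map, MonoidHom.coe_coe]
      field_simp
    · show d1 f4B * d2 f4B = 1
      have hy : (y : K) ≠ 0 := y.ne_zero
      rw [e2, e4]
      simp only [Units.val_pow_eq_pow_val]
      field_simp
  obtain ⟨k1, hk1, d1, hd1, e1, e2⟩ := f4_elA hperf φ hφ2 Dt e' hJ v⁻¹
  obtain ⟨k2, hk2, d2, hd2, e3, e4⟩ := hE (u * v ^ 2)
  refine ⟨k1 * k2, mul_mem hk1 hk2, _, hd1.hmul hd2, ?_, ?_⟩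
  · show d1 f4P4 * d2 f4P4 = u
    have hv : (v : K) ≠ 0 := v.ne_zero
    rw [e1, e3]
    simp only [Units.val_pow_eq_pow_val, Units.val_mul, Units.val_inv_eq_inv_val]
    field_simp
  · show d1 f4B * d2 f4B = v
    rw [e2, e4]
    simp

include hJ hφ2 in
/-- The order of `H¹`. -/
theorem f4_card_H [Finite K] : Nat.card ↥(chevF4.diagonalSubgroup K ⊓ twistedF4 K e) = Nat.card Kˣ * Nat.card Kˣ := by
  rw [← Nat.card_prod]
  choose f hf d hd hd1 hd2 using f4_surj hperf φ hφ2 Dt e' hJ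
  apply CfsgLib.Tw.card_of_param _ (fun p : Kˣ × Kˣ => f p.1 p.2)
  · rintro ⟨y, z⟩ ⟨y', z'⟩ h
    have h1 := hd y z
    simp only at h
    rw [h] at h1
    have h2 := h1.d_unique (hd y' z')
    refine Prod.ext (Units.ext ?_) (Units.ext ?_)
    · rw [← hd1 y z, h2, hd1]
    · rw [← hd2 y z, h2, hd2]
  · intro x
    constructor
    · intro hx
      obtain ⟨hx1, hx2⟩ := Subgroup.mem_inf.1 hx
      obtain ⟨τ, d', hi⟩ := TF4.good.mono_of_mem_N TF4.extra (TF4.good.diagonal_le_monomial hx1)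
      have hτ1 := TF4.extra.perm_of_H TF4.good TF4.braid hx1 hi
      subst hτ1
      refine ⟨(Units.mk0 (d' f4P4) (hi.d_ne _), Units.mk0 (d' f4B) (hi.d_ne _)), ?_⟩
      set y := Units.mk0 (d' f4P4) (hi.d_ne _) with hy
      set z := Units.mk0 (d' f4B) (hi.d_ne _) with hz
      obtain ⟨h1, h2⟩ := Subgroup.mem_inf.1 (hf y z)
      apply TF4.extra.H_ext TF4.good h1 hx1 (hd y z) hi
      have e1 : d y z f4P4 = d' f4P4 := by rw [hd1, hy, Units.val_mk0]
      have e2 : d y z f4B = d' f4B := by rw [hd2, hz, Units.val_mk0]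
      obtain ⟨e3, e4⟩ := f4_chars_fixed hperf φ h1 (Dt.T_fix _ h2) (hd y z)
      obtain ⟨e5, e6⟩ := f4_chars_fixed hperf φ hx1 (Dt.T_fix _ hx2) hi
      intro i hi'
      have hi'' : i < 4 := hi'
      interval_cases i
      · show d y z f4P1 = d' f4P1
        rw [e3, e5, e1]
      · show d y z f4A = d' f4A
        rw [e4, e6, e2]
      · exact e2
      · exact e1
    · rintro ⟨a, rfl⟩
      exact hf a.1 a.2

include hJ hφ2 in
/-- The fixed points of the rank one groups. -/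
lemma f4_hQ (hφ : ∀ t, φ t = t ^ e) [Fintype K] (j : Dt.ι) : ∃ v : ℕ, (posJ chevF4 TF4.cert (Dt.J j)).card = 2 * v ∧
      Nat.card ↥(((tF4 hperf φ).base TF4.extra TF4.braid).Un (Dt.w TF4.extra TF4.braid j) ⊓ ((tF4 hperf φ).base TF4.extra TF4.braid).Fx) = Nat.card K ^ v := by
  have hj := hJ j
  generalize e' j = i at hj
  fin_cases i
  · have hj' : Dt.J j = {i | i ∈ [0, 3]} := hj
    refine ⟨1, ?_, ?_⟩
    · rw [hj', TF4.extra.card_posJ (hG := TF4.good) (Jl := [0, 3]) (L := [f4p4, f4p1]) (by decide +kernel) (by decide +kernel) (by decide +kernel)]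
      rfl
    · rw [Dt.card_X_two TF4.extra TF4.braid j hj' (a := f4p4) (b := f4p1) (by decide +kernel) (by decide +kernel) (by decide +kernel) (by decide +kernel) (by decide +kernel) (by decide +kernel)
        f4_comm_14 (g := φ) (g' := fun t => (φ t) ^ 2) (fun t => by
          rw [tF4_s hperf φ (by decide +kernel)]
          have e2 : gfF4.ρ f4p4 = f4p1 := by decide +kernel
          have l2 : gfF4.lam f4p4 = 1 := by decide +kernel
          rw [e2, l2, pow_one]) (fun t => by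
          rw [tF4_s hperf φ (by decide +kernel)]
          have e2 : gfF4.ρ f4p1 = f4p4 := by decide +kernel
          have l2 : gfF4.lam f4p1 = 2 := by decide +kernel
          rw [e2, l2]) hφ2, pow_one]
  · have hj' : Dt.J j = {i | i ∈ [1, 2]} := hj
    have h1 : Nat.card ↥(((tF4 hperf φ).base TF4.extra TF4.braid).Un (Dt.w TF4.extra TF4.braid j) ⊓ ((tF4 hperf φ).base TF4.extra TF4.braid).Fx) = Nat.card (K × K) := by
      apply CfsgLib.Tw.card_of_param _ (fun p : K × K => f4N p.1 (φ p.1) p.2 (p.1 * (φ p.1) ^ 2 + (φ p.2) ^ 2))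
      · rintro ⟨t, u⟩ ⟨t', u'⟩ h
        obtain ⟨h1, -, h3, -⟩ := f4N_inj h
        exact Prod.ext h1 h3
      · intro x
        rw [Dt.mem_X_iff TF4.extra TF4.braid j, hj']
        constructor
        · rintro ⟨hx, hs⟩
          obtain ⟨τ, rfl⟩ := TF4.extra.Xp_prodL TF4.good (Jl := [1, 2]) (L := [f4b, f4a, f4ab, f4aab]) (by decide +kernel) (by decide +kernel) (by decide +kernel) hx
          rw [f4N_eq_prodL] at hs ⊢
          rw [f4_s_N] at hs
          obtain ⟨h1, h2, h3, h4⟩ := f4N_inj hs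
          have h6 : τ f4aab = τ f4b * (φ (τ f4b)) ^ 2 + (φ (τ f4ab)) ^ 2 := by
            rw [← h4, ← h2, hφ2]
          refine ⟨(τ f4b, τ f4ab), ?_⟩
          simp only
          rw [h6, ← h2]
        · rintro ⟨⟨t, u⟩, rfl⟩
          simp only
          rw [← f4_word_eq φ hφ]
          refine ⟨?_, f4_class_fix hperf φ hφ2 hφ t u⟩
          rw [f4_word_eq φ hφ]
          have hL : ∀ r ∈ [f4b, f4a, f4ab, f4aab], ∀ k < chevF4.rank, k ∉ [1, 2] → TF4.cert.coef r k = 0 := by decide +kernel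
          exact mul_mem (mul_mem (TF4.extra.x_mem_Xp TF4.good (by decide +kernel) (by decide +kernel) (hL _ (by simp)) _) (TF4.extra.x_mem_Xp TF4.good (by decide +kernel) (by decide +kernel) (hL _ (by simp)) _))
            (mul_mem (TF4.extra.x_mem_Xp TF4.good (by decide +kernel) (by decide +kernel) (hL _ (by simp)) _) (TF4.extra.x_mem_Xp TF4.good (by decide +kernel) (by decide +kernel) (hL _ (by simp)) _))
    refine ⟨2, ?_, ?_⟩
    · rw [hj', TF4.extra.card_posJ (hG := TF4.good) (Jl := [1, 2]) (L := [f4b, f4a, f4ab, f4aab]) (by decide +kernel) (by decide +kernel) (by decide +kernel)]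
      rfl
    · rw [h1, Nat.card_prod]
      ring

/-- The digits of the Weyl group of the fixed points. -/
noncomputable def f4Dig (c : List ℕ) (r : ℕ) : ℕ := (actW TF4.cert c r).1

/-- The generators. -/
def f4Gen (i : Fin 2) : List ℕ := if i = 0 then [0, 3] else [1, 2, 1, 2]

/-- The elements of the Weyl group of the fixed points. -/
def f4Codes : List (List ℕ) :=
  [[], [0, 3], [1, 2, 1, 2], [1, 2, 1, 2, 0, 3], [0, 3, 1, 2, 1, 2], [0, 3, 1, 2, 1, 2, 0, 3], [1, 2, 1, 2, 0, 3, 1, 2, 1, 2],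
    [1, 2, 1, 2, 0, 3, 1, 2, 1, 2, 0, 3], [0, 3, 1, 2, 1, 2, 0, 3, 1, 2, 1, 2], [0, 3, 1, 2, 1, 2, 0, 3, 1, 2, 1, 2, 0, 3],
    [1, 2, 1, 2, 0, 3, 1, 2, 1, 2, 0, 3, 1, 2, 1, 2], [1, 2, 1, 2, 0, 3, 1, 2, 1, 2, 0, 3, 1, 2, 1, 2, 0, 3],
    [0, 3, 1, 2, 1, 2, 0, 3, 1, 2, 1, 2, 0, 3, 1, 2, 1, 2], [0, 3, 1, 2, 1, 2, 0, 3, 1, 2, 1, 2, 0, 3, 1, 2, 1, 2, 0, 3],
    [1, 2, 1, 2, 0, 3, 1, 2, 1, 2, 0, 3, 1, 2, 1, 2, 0, 3, 1, 2, 1, 2], [1, 2, 1, 2, 0, 3, 1, 2, 1, 2, 0, 3, 1, 2, 1, 2, 0, 3, 1, 2, 1, 2, 0, 3]]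

set_option maxRecDepth 100000 in
lemma f4Codes_inv : f4Codes.map (TwData.invC f4Dig chevF4.nroots) = [0, 2, 4, 6, 6, 8, 10, 12, 12, 14, 16, 18, 18, 20, 22, 24] := by
  decide +kernel

set_option maxRecDepth 100000 in
include hJ hφ2 in
/-- The order of the group, given the order of the torus. -/
theorem f4_card_T (hφ : ∀ t, φ t = t ^ e) [Fintype K] {Q : ℕ} (hQ : Nat.card K = Q) :
    Nat.card ↥(twistedF4 K e) = Q ^ 12 * Nat.card ↥(chevF4.diagonalSubgroup K ⊓ twistedF4 K e) *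
      (1 + Q + Q ^ 2 + Q ^ 3 + Q ^ 3 + Q ^ 4 + Q ^ 5 + Q ^ 6 + Q ^ 6 + Q ^ 7 + Q ^ 8 + Q ^ 9 + Q ^ 9 + Q ^ 10 + Q ^ 11 + Q ^ 12) := by
  have hU : Nat.card ↥(chevF4.posUnipotent K ⊓ twistedF4 K e) = Q ^ 12 := by
    rw [f4_card_U hperf φ hφ2 hφ, hQ]
  have hk : ∀ j, ∃ v : ℕ, (posJ chevF4 TF4.cert (Dt.J j)).card = 2 * v ∧
      Nat.card ↥(((tF4 hperf φ).base TF4.extra TF4.braid).Un (Dt.w TF4.extra TF4.braid j) ⊓ ((tF4 hperf φ).base TF4.extra TF4.braid).Fx) = Q ^ v := by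
    rw [← hQ]
    exact f4_hQ hperf φ hφ2 Dt e' hJ hφ
  have h1 := Dt.card_T TF4.extra TF4.braid (fun k => Q ^ (k / 2)) (fun m hm => by
    obtain ⟨hm1, hm2⟩ := Subgroup.mem_inf.1 hm
    exact (Dt.card_Un2 TF4.extra TF4.braid hk _ m hm1 (Dt.T_fix m hm2) le_rfl).1)
  have hgen : ∀ j r (hr : r < chevF4.nroots), ((Dt.τw TF4.extra TF4.braid j) ⟨r, hr⟩).val = f4Dig (f4Gen (e' j)) r := by
    intro j r hr
    rcases h : e' j with ⟨i, hi⟩
    have hi' : i < 2 := hi
    interval_cases i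
    · exact f4_τ0 hperf φ Dt e' hJ j h r hr
    · exact f4_τ1 hperf φ Dt e' hJ j h r hr
  have h2 := Dt.sum_W1 TF4.extra TF4.braid f4Dig f4Codes e' f4Gen hgen
    (by decide +kernel) (by decide +kernel) (by decide +kernel) (by decide +kernel) (fun k => Q ^ (k / 2))
  beta_reduce at h2
  rw [h1, hU, h2]
  have h3 : (f4Codes.map fun c => Q ^ (TwData.invC f4Dig chevF4.nroots c / 2)) = (f4Codes.map (TwData.invC f4Dig chevF4.nroots)).map (fun k => Q ^ (k / 2)) := by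
    rw [List.map_map]
    rfl
  rw [h3, f4Codes_inv]
  simp only [List.map_cons, List.map_nil, List.sum_cons, List.sum_nil, Nat.reduceDiv]
  ring

end F4

end CfsgLib.Chev
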