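/-
`N¹/H¹` for the twisted groups.
-/
import Cfsg.Agent.Lib.Tw.CoxT
import Cfsg.Agent.Lib.Tw.OrdG2
import Cfsg.Agent.Lib.Tw.OrdF4
import Cfsg.Agent.Lib.Tw.OrdD4
import Cfsg.Agent.Lib.Tw.OrdE6b

set_option autoImplicit false
set_option synthInstance.maxHeartbeats 400000
set_option synthInstance.maxSize 1024

namespace CfsgLib.Chev

open Cfsg.Lie Cfsg.Lie.ChevalleyDatum CfsgLib.BN CfsgLib.PC

section G2

variable {K : Type*} [Field K] [CharP K 3] (hperf : ∀ x : K, ∃ y : K, y ^ 3 = x) (φ : K ≃+* K)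
  {e : ℕ} (Dt : TwData (tG2 hperf φ) (twistedG2 K e)) (e' : Dt.ι ≃ Fin 1) (hJ : ∀ j, Dt.J j = {i | i ∈ [0, 1]})

set_option maxRecDepth 100000 in
include hJ e' in
theorem g2_NH : ∃ ψ : ↥(chevG2.monomialSubgroup K ⊓ twistedG2 K e) →* Multiplicative (ZMod 2), Function.Surjective ψ ∧
    ψ.ker = (chevG2.diagonalSubgroup K ⊓ twistedG2 K e).subgroupOf (chevG2.monomialSubgroup K ⊓ twistedG2 K e) := by
  have hgen : ∀ j r (hr : r < chevG2.nroots), ((Dt.τw TG2.extra TG2.braid j) ⟨r, hr⟩).val = g2Dig [0, 1, 0, 1, 0, 1] r :=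
    fun j r hr => g2_τ hperf φ Dt hJ j r hr
  have hsum := Dt.sum_W1 TG2.extra TG2.braid g2Dig [[], [0, 1, 0, 1, 0, 1]] e' (fun _ => [0, 1, 0, 1, 0, 1]) hgen
    (by decide +kernel) (by decide +kernel) (by decide +kernel) (by decide +kernel) (fun _ => 1)
  have hcard : Dt.W1.card = 2 := by
    rw [Finset.card_eq_sum_ones, hsum]
    rfl
  obtain ⟨φ₀, h1, h2⟩ := Dt.exists_cox_hom_digits TG2.extra TG2.braid e' (CoxeterMatrix.A 1) (fun _ _ => 1) (fun i j => by
      have e2 : i = j := Subsingleton.elim _ _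
      subst e2
      exact (CoxeterMatrix.A 1).diagonal i) (fun _ => g2Dig [0, 1, 0, 1, 0, 1]) (fun j r hr => hgen j r hr)
    (by decide +kernel) (by decide +kernel) (by decide +kernel)
  let ψ : (CoxeterMatrix.A 1).Group →* Multiplicative (ZMod 2) :=
    (CoxeterMatrix.A 1).toCoxeterSystem.lift ⟨fun _ => Multiplicative.ofAdd 1, by
      intro i i'
      have e1 : (CoxeterMatrix.A 1) i i' = 1 := by
        have e2 : i = i' := Subsingleton.elim _ _
        subst e2
        exact (CoxeterMatrix.A 1).diagonal i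
      rw [e1]
      show (Multiplicative.ofAdd (1 : ZMod 2) * Multiplicative.ofAdd (1 : ZMod 2)) ^ 1 = 1
      decide⟩
  have hψ : ∀ i, ψ ((CoxeterMatrix.A 1).simple i) = Multiplicative.ofAdd 1 := fun i =>
    (CoxeterMatrix.A 1).toCoxeterSystem.lift_apply_simple _ i
  have hs : Function.Surjective ψ := by
    intro x
    have h3 : x = 1 ∨ x = Multiplicative.ofAdd 1 := by
      revert x
      decide +kernel
    rcases h3 with rfl | rfl
    · exact ⟨1, map_one _⟩
    · exact ⟨_, hψ 0⟩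
  have h3 := comp_of_card φ₀ h1 ψ hs (by
    rw [h2, Dt.index_H TG2.extra TG2.braid, hcard]
    rw [Nat.card_eq_fintype_card]
    rfl)
  exact ⟨ψ.comp φ₀, h3.1, h3.2.trans h2⟩

end G2

section F4

variable {K : Type*} [Field K] [CharP K 2] (hperf : ∀ x : K, ∃ y : K, y ^ 2 = x) (φ : K ≃+* K)
  {e : ℕ} (Dt : TwData (tF4 hperf φ) (twistedF4 K e)) (e' : Dt.ι ≃ Fin 2) (hJ : ∀ j, Dt.J j = {i | i ∈ f4J (e' j)})

set_option maxRecDepth 100000 in
include hJ in
theorem f4_NH : ∃ ψ : ↥(chevF4.monomialSubgroup K ⊓ twistedF4 K e) →* DihedralGroup 8, Function.Surjective ψ ∧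
    ψ.ker = (chevF4.diagonalSubgroup K ⊓ twistedF4 K e).subgroupOf (chevF4.monomialSubgroup K ⊓ twistedF4 K e) := by
  have hgen : ∀ j r (hr : r < chevF4.nroots), ((Dt.τw TF4.extra TF4.braid j) ⟨r, hr⟩).val = f4Dig (f4Gen (e' j)) r := by
    intro j r hr
    rcases h : e' j with ⟨i, hi⟩
    have hi' : i < 2 := hi
    interval_cases i
    · exact f4_τ0 hperf φ Dt e' hJ j h r hr
    · exact f4_τ1 hperf φ Dt e' hJ j h r hr
  have hsum := Dt.sum_W1 TF4.extra TF4.braid f4Dig f4Codes e' f4Gen hgen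
    (by decide +kernel) (by decide +kernel) (by decide +kernel) (by decide +kernel) (fun _ => 1)
  have hcard : Dt.W1.card = 16 := by
    rw [Finset.card_eq_sum_ones, hsum]
    decide +kernel
  obtain ⟨φ₀, h1, h2⟩ := Dt.exists_cox_hom_digits TF4.extra TF4.braid e' (CoxeterMatrix.I 6) (fun i j => if i = j then 1 else 8) (fun _ _ => rfl) (fun i => f4Dig (f4Gen i)) hgen
    (by decide +kernel) (by decide +kernel) (by decide +kernel)
  let f : Fin 2 → DihedralGroup 8 := fun i => DihedralGroup.sr (i.val : ZMod 8)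
  let ψ : (CoxeterMatrix.I 6).Group →* DihedralGroup 8 :=
    (CoxeterMatrix.I 6).toCoxeterSystem.lift ⟨f, by
      intro i i'
      have e1 : (CoxeterMatrix.I 6) i i' = if i = i' then 1 else 8 := rfl
      rw [e1]
      clear e1
      revert i i'
      decide +kernel⟩
  have hψ : ∀ i, ψ ((CoxeterMatrix.I 6).simple i) = f i := fun i =>
    (CoxeterMatrix.I 6).toCoxeterSystem.lift_apply_simple _ i
  have hs : Function.Surjective ψ := by
    have ha : DihedralGroup.sr (0 : ZMod 8) ∈ ψ.range := ⟨_, hψ 0⟩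
    have hb : DihedralGroup.sr (1 : ZMod 8) ∈ ψ.range := ⟨_, hψ 1⟩
    have hr : DihedralGroup.r (1 : ZMod 8) ∈ ψ.range := by
      have : DihedralGroup.r (1 : ZMod 8) = DihedralGroup.sr (0 : ZMod 8) * DihedralGroup.sr (1 : ZMod 8) := by decide
      rw [this]
      exact mul_mem ha hb
    have hr' : ∀ i : ZMod 8, DihedralGroup.r i ∈ ψ.range := by
      intro i
      have e1 : DihedralGroup.r i = (DihedralGroup.r (1 : ZMod 8)) ^ i.val := by
        rw [DihedralGroup.r_one_pow, ZMod.natCast_zmod_val]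
      rw [e1]
      exact pow_mem hr _
    rintro (i | i)
    · exact hr' i
    · have e1 : DihedralGroup.sr i = DihedralGroup.sr (0 : ZMod 8) * DihedralGroup.r i := by
        rw [DihedralGroup.sr_mul_r, zero_add]
      have := mul_mem ha (hr' i)
      rw [← e1] at this
      exact this
  have h3 := comp_of_card φ₀ h1 ψ hs (by
    rw [h2, Dt.index_H TF4.extra TF4.braid, hcard, DihedralGroup.nat_card])
  exact ⟨ψ.comp φ₀, h3.1, h3.2.trans h2⟩

end F4

section D4

variable {K : Type*} [Field K] {q : ℕ} (φ : K ≃+* K) (Dt : TwData (tD4 φ) (twistedD4 K q)) (e' : Dt.ι ≃ Fin 2) (hJ : ∀ j, Dt.J j = {i | i ∈ d4J (e' j)})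

set_option maxRecDepth 100000 in
include hJ in
theorem d4_NH : ∃ ψ : ↥(chevD4.monomialSubgroup K ⊓ twistedD4 K q) →* CoxeterMatrix.G₂.Group, Function.Surjective ψ ∧
    ψ.ker = (chevD4.diagonalSubgroup K ⊓ twistedD4 K q).subgroupOf (chevD4.monomialSubgroup K ⊓ twistedD4 K q) := by
  have hgen : ∀ j r (hr : r < chevD4.nroots), ((Dt.τw TD4.extra TD4.braid j) ⟨r, hr⟩).val = d4Dig (d4Gen (e' j)) r := by
    intro j r hr
    have hj := hJ j
    rcases h : e' j with ⟨i, hi⟩
    rw [h] at hj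
    have hi' : i < 2 := hi
    interval_cases i
    · exact Dt.τw_val_eq TD4.extra TD4.braid j (Jl := [1]) (L := [1]) hj (by decide +kernel) (by decide +kernel) r hr
    · exact Dt.τw_val_eq TD4.extra TD4.braid j (Jl := [0, 2, 3]) (L := [0, 2, 3]) hj (by decide +kernel) (by decide +kernel) r hr
  exact Dt.exists_cox_hom_digits TD4.extra TD4.braid e' CoxeterMatrix.G₂ (fun i j => if i = j then 1 else 6) (fun i j => by
      fin_cases i <;> fin_cases j <;> rfl) (fun i => d4Dig (d4Gen i)) hgen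
    (by decide +kernel) (by decide +kernel) (by decide +kernel)

end D4

section E6

variable {K : Type*} [Field K] {q : ℕ} (φ : K ≃+* K) (Dt : TwData (tE6 φ) (twistedE6 K q)) (e' : Dt.ι ≃ Fin 4) (hJ : ∀ j, Dt.J j = {i | i ∈ e6J (e' j)})

/-- The labelling of the generators. -/
def e6σ (i : Fin 4) : Fin 4 := ![0, 1, 3, 2] i

/-- The Coxeter matrix of type `F₄`. -/
def f4Mat (i j : Fin 4) : ℕ := ![![1, 3, 2, 2], ![3, 1, 4, 2], ![2, 4, 1, 3], ![2, 2, 3, 1]] i j

lemma e6_cox1 : ∀ i j : Fin 4, 0 < f4Mat i j := by decide +kernel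

lemma e6_cox2 : ∀ i j : Fin 4, ∀ r < chevE6.nroots, (fun x => dg (e6GenC (e6σ i)) (dg (e6GenC (e6σ j)) x))^[f4Mat i j] r = r := by decide +kernel

lemma e6_cox3 : ∀ i j : Fin 4, ∀ m' < f4Mat i j, 0 < m' → ∃ r < chevE6.nroots, (fun x => dg (e6GenC (e6σ i)) (dg (e6GenC (e6σ j)) x))^[m'] r ≠ r := by decide +kernel

include hJ in
theorem e6_NH : ∃ ψ : ↥(chevE6.monomialSubgroup K ⊓ twistedE6 K q) →* CoxeterMatrix.F₄.Group, Function.Surjective ψ ∧
    ψ.ker = (chevE6.diagonalSubgroup K ⊓ twistedE6 K q).subgroupOf (chevE6.monomialSubgroup K ⊓ twistedE6 K q) := by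
  let σ : Fin 4 ≃ Fin 4 := ⟨e6σ, e6σ, by decide +kernel, by decide +kernel⟩
  have hgen : ∀ j r (hr : r < chevE6.nroots), ((Dt.τw TE6.extra TE6.braid j) ⟨r, hr⟩).val = dg (e6GenC (e6σ ((e'.trans σ) j))) r := by
    intro j r hr
    have e1 : e6σ ((e'.trans σ) j) = e' j := by
      show e6σ (e6σ (e' j)) = e' j
      generalize e' j = x
      revert x
      decide +kernel
    rw [e1]
    have hj := hJ j
    rcases h : e' j with ⟨i, hi⟩
    rw [h] at hj
    have hi' : i < 4 := hi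
    interval_cases i
    · rw [Dt.τw_val_eq TE6.extra TE6.braid j (Jl := [1]) (L := [1]) hj (by decide +kernel) (by decide +kernel) r hr]
      exact e6_g0 r hr
    · rw [Dt.τw_val_eq TE6.extra TE6.braid j (Jl := [3]) (L := [3]) hj (by decide +kernel) (by decide +kernel) r hr]
      exact e6_g1 r hr
    · rw [Dt.τw_val_eq TE6.extra TE6.braid j (Jl := [0, 5]) (L := [0, 5]) hj (by decide +kernel) (by decide +kernel) r hr]
      exact e6_g2 r hr
    · rw [Dt.τw_val_eq TE6.extra TE6.braid j (Jl := [2, 4]) (L := [2, 4]) hj (by decide +kernel) (by decide +kernel) r hr]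
      exact e6_g3 r hr
  exact Dt.exists_cox_hom_digits TE6.extra TE6.braid (e'.trans σ) CoxeterMatrix.F₄ f4Mat (fun i j => by
      fin_cases i <;> fin_cases j <;> rfl) (fun i => dg (e6GenC (e6σ i))) hgen e6_cox1 e6_cox2 e6_cox3

end E6

end CfsgLib.Chev
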