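/-
Perfectness of twisted groups: the derived subgroup inside the ambient group, and steps.
-/
import Cfsg.Agent.Lib.Tw.NH

set_option autoImplicit false

namespace CfsgLib.Chev

open Cfsg.Lie Cfsg.Lie.ChevalleyDatum CfsgLib.BN

section derT

variable {Γ : Type*} [Group Γ] {T : Subgroup Γ}

variable (T) in
/-- The derived subgroup of a subgroup, in the ambient group. -/
def derT : Subgroup Γ := (commutator ↥T).map T.subtype

lemma derT_le : derT T ≤ T := by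
  rintro _ ⟨x, _, rfl⟩
  exact x.2

lemma comm_mem_derT {a b : Γ} (ha : a ∈ T) (hb : b ∈ T) : a * b * a⁻¹ * b⁻¹ ∈ derT T := by
  refine ⟨⟨a, ha⟩ * ⟨b, hb⟩ * ⟨a, ha⟩⁻¹ * ⟨b, hb⟩⁻¹, ?_, rfl⟩
  exact Subgroup.commutator_mem_commutator (Subgroup.mem_top _) (Subgroup.mem_top _)

lemma conj_mem_derT {g x : Γ} (hg : g ∈ T) (hx : x ∈ derT T) : g * x * g⁻¹ ∈ derT T := by
  obtain ⟨y, hy, rfl⟩ := hx
  refine ⟨⟨g, hg⟩ * y * ⟨g, hg⟩⁻¹, ?_, rfl⟩
  exact Subgroup.Normal.conj_mem inferInstance y hy _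

theorem perfect_of_le (h : T ≤ derT T) : commutator ↥T = ⊤ := by
  rw [eq_top_iff]
  rintro ⟨x, hx⟩ _
  obtain ⟨y, hy, e⟩ := h hx
  have e2 : y = ⟨x, hx⟩ := Subtype.ext e
  exact e2 ▸ hy

/-- An additive family moved by a scalar lies in the derived subgroup. -/
lemma add_step {K : Type*} [Field K] {Y : K → Γ} (hX : ∀ s t, Y (s + t) = Y s * Y t) (hT : ∀ t, Y t ∈ T) {g : Γ} (hg : g ∈ T) {c : K}
    (hc : c ≠ 1) (hgc : ∀ t, g * Y t * g⁻¹ = Y (c * t)) (t : K) : Y t ∈ derT T := by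
  have h1 : c - 1 ≠ 0 := sub_ne_zero.2 hc
  set u := t / (c - 1) with hu
  have e1 : c * u = t + u := by
    rw [hu]
    field_simp
    ring
  have e2 := comm_mem_derT hg (hT u)
  rw [hgc, e1, hX] at e2
  simpa using e2

end derT

section gen

variable {D : ChevalleyDatum} {C : Cert} {hG : Good D C} {K : Type*} [Field K] {A : TwAct hG K} {T : Subgroup (GL D.Idx K)}

/-- Moving a fixed root by a monomial element of the group. -/
lemma TwData.root_step (Dt : TwData A T) (hE : Extra D C) {φ : K →+* K} {M : Subgroup (GL D.Idx K)}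
    (hM : ∀ g ∈ T, ∀ x ∈ M, g * x * g⁻¹ ∈ M) {n : GL D.Idx K} (hn : n ∈ T) {τ : Equiv.Perm (Fin D.nroots)} {d : Fin D.nroots → K} (hm : IsMono hG n τ d)
    {r r' : ℕ} (hr : r < D.nroots) (hr' : r' < D.nroots) (hτ : (τ ⟨r, hr⟩).val = r') (h0 : A.π r = r) (hf0 : A.f r 1 = 1)
    (h1 : A.π r' = r') (hf1 : ∀ t, A.f r' t = φ t) (hx : ∀ t, φ t = t → hG.xG r t ∈ M) (u : K) (hu : φ u = u) : hG.xG r' u ∈ M := by
  have hconj : ∀ t, n * hG.xG r t * n⁻¹ = hG.xG r' (d ⟨r, hr⟩ * t) := by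
    intro t
    have := hm.conj ⟨r, hr⟩ t
    rwa [hτ] at this
  have hnG := Dt.T_le hn
  have hfix : φ (d ⟨r, hr⟩) = d ⟨r, hr⟩ := by
    have e1 := hconj 1
    have e2 : A.s (n * hG.xG r 1 * n⁻¹) = n * hG.xG r 1 * n⁻¹ := by
      rw [A.s_mul (mul_mem hnG (hG.mem_group hr 1)) (inv_mem hnG), A.s_mul hnG (hG.mem_group hr 1), A.s_inv hnG, Dt.T_fix n hn, A.s_x hr, h0, hf0]
    rw [e1, A.s_x hr', h1, hf1] at e2
    have e3 := hE.xG_inj hG hr' e2
    simpa using e3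
  have hd : d ⟨r, hr⟩ ≠ 0 := hm.d_ne _
  have e := hM n hn _ (hx (u * (d ⟨r, hr⟩)⁻¹) (by rw [map_mul, map_inv₀, hu, hfix]))
  rw [hconj] at e
  have e2 : d ⟨r, hr⟩ * (u * (d ⟨r, hr⟩)⁻¹) = u := by
    field_simp
  rwa [e2] at e

end gen

end CfsgLib.Chev
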