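/-
Lower unipotent elements and the (b)-coordinate for twisted groups.
-/
import Cfsg.Agent.Lib.Tw.PerfT

set_option autoImplicit false

namespace CfsgLib.Chev

open Cfsg.Lie Cfsg.Lie.ChevalleyDatum CfsgLib.BN

section gen

variable {D : ChevalleyDatum} {C : Cert} {hG : Good D C} {K : Type*} [Field K] {A : TwAct hG K} {T : Subgroup (GL D.Idx K)}

/-- Lower rank one elements come from the upper unipotent group. -/
lemma TwData.neg_mem (Dt : TwData A T) (hE : Extra D C) (hB : Braid D C) (j : Dt.ι) {M : Subgroup (GL D.Idx K)}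
    (hM : ∀ g ∈ T, ∀ x ∈ M, g * x * g⁻¹ ∈ M) (hU : ∀ x ∈ D.posUnipotent K, x ∈ T → x ∈ M) {y : GL D.Idx K}
    (hy : y ∈ hG.Xm K (fun r => lamJ C D.rank (Dt.J j) r = 0)) (hyT : y ∈ T) : y ∈ M := by
  have hw := Dt.w_T hE hB j
  have h1 : Dt.w hE hB j * y * (Dt.w hE hB j)⁻¹ ∈ D.posUnipotent K := by
    refine hE.conj_Xm_U hG (Dt.w_mono hE hB j) ?_ hy
    intro r h2 h3
    have hr2 : D.nroots / 2 ≤ D.neg r := hE.neg_of_low hG r.2 h2
    have h6 := (Dt.w_sign hE hB j ⟨D.neg r, hG.shp.neg_lt r r.2⟩ hr2).2 (by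
      have := hG.lamJ_negF (Dt.J j) r
      rw [h3, neg_zero] at this
      exact this)
    have h5 := (Dt.w_mono hE hB j).neg_comp ⟨D.neg r, hG.shp.neg_lt r r.2⟩ r (hG.shp.neg_neg r r.2).symm
    rw [h5]
    exact hE.neg_of_low hG (Fin.is_lt _) h6
  have h2 := hU _ h1 (mul_mem (mul_mem hw hyT) (inv_mem hw))
  have h3 := hM _ (inv_mem hw) _ h2
  have e : (Dt.w hE hB j)⁻¹ * (Dt.w hE hB j * y * (Dt.w hE hB j)⁻¹) * (Dt.w hE hB j)⁻¹⁻¹ = y := by group
  rwa [e] at h3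

end gen

end CfsgLib.Chev
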