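/-
²G₂(3^(2m+1)), m ≥ 1, is perfect.
-/
import Cfsg.Agent.Lib.Tw.PerfU
import Cfsg.Agent.Lib.Tw.OrdG2

set_option autoImplicit false
set_option synthInstance.maxHeartbeats 400000
set_option synthInstance.maxSize 1024

namespace CfsgLib.Chev

open Cfsg.Lie Cfsg.Lie.ChevalleyDatum CfsgLib.BN

section G2

variable {K : Type*} [Field K]

local notation "X" => TG2.good.xG (F := K)

/-- The torus acts on the `A` part. -/
lemma g2_conj_A {k : GL chevG2.Idx K} (hk : k ∈ chevG2.diagonalSubgroup K) {d : Fin chevG2.nroots → K} (hd : IsMono TG2.good k 1 d) (C E F G : K) :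
    k * g2A C E F G * k⁻¹ = g2A (d g2A' * d g2B' * C) ((d g2A') ^ 2 * d g2B' * E) ((d g2A') ^ 3 * d g2B' * F) ((d g2A') ^ 3 * (d g2B') ^ 2 * G) := by
  have e1 : d ⟨g2ab, by decide +kernel⟩ = d g2A' * d g2B' := by
    rw [g2_coef hk hd]
    have c0 : TG2.cert.coef (⟨g2ab, by decide +kernel⟩ : Fin chevG2.nroots) 0 = 1 := by decide +kernel
    have c1 : TG2.cert.coef (⟨g2ab, by decide +kernel⟩ : Fin chevG2.nroots) 1 = 1 := by decide +kernel
    rw [c0, c1]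
    simp
  have e2 : d ⟨g2aab, by decide +kernel⟩ = (d g2A') ^ 2 * d g2B' := by
    rw [g2_coef hk hd]
    have c0 : TG2.cert.coef (⟨g2aab, by decide +kernel⟩ : Fin chevG2.nroots) 0 = 2 := by decide +kernel
    have c1 : TG2.cert.coef (⟨g2aab, by decide +kernel⟩ : Fin chevG2.nroots) 1 = 1 := by decide +kernel
    rw [c0, c1]
    simp
  have e3 : d ⟨g2aaab, by decide +kernel⟩ = (d g2A') ^ 3 * d g2B' := by
    rw [g2_coef hk hd]
    have c0 : TG2.cert.coef (⟨g2aaab, by decide +kernel⟩ : Fin chevG2.nroots) 0 = 3 := by decide +kernel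
    have c1 : TG2.cert.coef (⟨g2aaab, by decide +kernel⟩ : Fin chevG2.nroots) 1 = 1 := by decide +kernel
    rw [c0, c1]
    simp
  have e4 : d ⟨g2aaabb, by decide +kernel⟩ = (d g2A') ^ 3 * (d g2B') ^ 2 := by
    rw [g2_coef hk hd]
    have c0 : TG2.cert.coef (⟨g2aaabb, by decide +kernel⟩ : Fin chevG2.nroots) 0 = 3 := by decide +kernel
    have c1 : TG2.cert.coef (⟨g2aaabb, by decide +kernel⟩ : Fin chevG2.nroots) 1 = 2 := by decide +kernel
    rw [c0, c1]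
    norm_cast
  have h1 := hd.conj ⟨g2ab, by decide +kernel⟩ C
  have h2 := hd.conj ⟨g2aab, by decide +kernel⟩ E
  have h3 := hd.conj ⟨g2aaab, by decide +kernel⟩ F
  have h4 := hd.conj ⟨g2aaabb, by decide +kernel⟩ G
  simp only [Equiv.Perm.coe_one, id_eq] at h1 h2 h3 h4
  rw [e1] at h1
  rw [e2] at h2
  rw [e3] at h3
  rw [e4] at h4
  unfold g2A
  rw [← h1, ← h2, ← h3, ← h4]
  group

lemma g2_conj_N {k : GL chevG2.Idx K} (hk : k ∈ chevG2.diagonalSubgroup K) {d : Fin chevG2.nroots → K} (hd : IsMono TG2.good k 1 d) (B A C E F G : K) :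
    k * g2N B A C E F G * k⁻¹ = g2N (d g2B' * B) (d g2A' * A) (d g2A' * d g2B' * C) ((d g2A') ^ 2 * d g2B' * E) ((d g2A') ^ 3 * d g2B' * F) ((d g2A') ^ 3 * (d g2B') ^ 2 * G) := by
  unfold g2N
  rw [← g2_conj_A hk hd]
  have h1 := hd.conj g2B' B
  have h2 := hd.conj g2A' A
  simp only [Equiv.Perm.coe_one, id_eq] at h1 h2
  have h1' : k * X g2b B * k⁻¹ = X g2b (d g2B' * B) := h1
  have h2' : k * X g2a A * k⁻¹ = X g2a (d g2A' * A) := h2
  rw [← h1', ← h2']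
  group

/-- The coset modulo the group of roots after `b`. -/
lemma g2_N_Uk (A C E F G : K) : X g2a A * g2A C E F G ∈ TG2.good.Uk K 7 := by
  have hm : ∀ r, 7 ≤ r → r < chevG2.nroots → ∀ t : K, X r t ∈ TG2.good.Uk K 7 := fun r h1 h2 t => TG2.good.xG_mem_Uk h1 h2 t
  unfold g2A
  refine mul_mem (hm _ (by decide +kernel) (by decide +kernel) _) (mul_mem (hm _ (by decide +kernel) (by decide +kernel) _) (mul_mem (hm _ (by decide +kernel) (by decide +kernel) _) (mul_mem (hm _ (by decide +kernel) (by decide +kernel) _) (hm _ (by decide +kernel) (by decide +kernel) _))))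

/-- Elements of the positive part, modulo the higher roots. -/
lemma g2_coset {B B' s : K} {r r₁ r₂ : GL chevG2.Idx K} (h1 : r ∈ TG2.good.Uk K 7) (h2 : r₁ ∈ TG2.good.Uk K 7) (h3 : r₂ ∈ TG2.good.Uk K 7)
    (e : X g2b s * r = (X g2b B * r₁) * (X g2b B' * r₂)⁻¹) : s = B - B' := by
  have hU : X g2b (B') ∈ chevG2.posUnipotent K := TG2.good.posUnipotent_mem ((TG2.extra.posIff _ (by decide +kernel)).2 (by decide +kernel)) _
  have hn := (Subgroup.mem_normalizer_iff.1 (TG2.extra.Uk_normal TG2.good (F := K) (k := 7) (by decide +kernel) hU) (r₁ * r₂⁻¹)).1 (mul_mem h2 (inv_mem h3))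
  have e1 : (X g2b B * r₁) * (X g2b B' * r₂)⁻¹ = X g2b (B - B') * (X g2b B' * (r₁ * r₂⁻¹) * (X g2b B')⁻¹) := by
    have : X g2b (B - B') = X g2b B * (X g2b B')⁻¹ := by
      rw [TG2.good.xG_neg, TG2.good.xG_add, sub_eq_add_neg]
    rw [this]
    group
  rw [e1] at e
  have e2 : X g2b (s - (B - B')) = (X g2b B' * (r₁ * r₂⁻¹) * (X g2b B')⁻¹) * r⁻¹ := by
    have h5 : X g2b (s - (B - B')) = (X g2b (B - B'))⁻¹ * X g2b s := by
      rw [TG2.good.xG_neg, TG2.good.xG_add]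
      congr 1
      ring
    rw [h5]
    have h6 : X g2b s = X g2b (B - B') * (X g2b B' * (r₁ * r₂⁻¹) * (X g2b B')⁻¹) * r⁻¹ := by
      rw [← e]
      group
    rw [h6]
    group
  have h7 : X g2b (s - (B - B')) ∈ TG2.good.Uk K 7 := by
    rw [e2]
    exact mul_mem hn (inv_mem h1)
  have h8 := TG2.extra.eq_zero_of_mem TG2.good (k := 6) (by decide +kernel) (by decide +kernel) h7
  exact sub_eq_zero.1 h8

variable [CharP K 3] (hperf : ∀ x : K, ∃ y : K, y ^ 3 = x) (φ : K ≃+* K) (hφ2 : ∀ t, (φ (φ t)) ^ 3 = t) {e : ℕ} (hφ : ∀ t, φ t = t ^ e)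

include hφ in
lemma g2_mem_T (t u v : K) : g2N t (φ t) (φ u) (φ v) (t * (φ t) ^ 3 + u) (t ^ 2 * (φ t) ^ 3 + v) ∈ twistedG2 K e := by
  rw [← g2_word_eq φ hφ]
  exact TG2.good.wordG_mem_gen ⟨t, u, v, Or.inl rfl⟩

include hφ in
/-- The `A` part of the group. -/
lemma g2_A_mem (u v : K) : g2A (φ u) (φ v) u v ∈ twistedG2 K e := by
  have h := g2_mem_T φ hφ 0 u v
  have e1 : g2N 0 (φ 0) (φ u) (φ v) (0 * (φ 0) ^ 3 + u) (0 ^ 2 * (φ 0) ^ 3 + v) = g2A (φ u) (φ v) u v := by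
    unfold g2N
    simp [TG2.good.xG_zero]
  rwa [e1] at h

include hφ in
/-- Factorisation of the elements of the positive part. -/
lemma g2_N_fact (t u v : K) : g2N t (φ t) (φ u) (φ v) (t * (φ t) ^ 3 + u) (t ^ 2 * (φ t) ^ 3 + v) =
    g2N t (φ t) 0 0 (t * (φ t) ^ 3) (t ^ 2 * (φ t) ^ 3) * g2A (φ u) (φ v) u v := by
  unfold g2N
  rw [mul_assoc (X g2b t * X g2a (φ t)), g2A_mul]
  simp

variable [Fintype K]

include hperf hφ2 hφ in
/-- `²G₂(3^(2m+1))` is perfect for `m ≥ 1`. -/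
theorem g2_perfect {m : ℕ} (he : e = 3 ^ m) (hm : 1 ≤ m) (hK : Fintype.card K = 3 ^ (2 * m + 1)) : commutator ↥(twistedG2 K e) = ⊤ := by
  classical
  obtain ⟨Dt, e', hJ⟩ := g2_td hperf φ hφ2 hφ
  set j := e'.symm 0 with hj
  have he0 : e ≠ 0 := by
    rw [he]
    positivity
  have hm1 : ¬ IsSquare (-1 : K) := by
    rw [FiniteField.isSquare_neg_one_iff, hK]
    have h : 3 ^ (2 * m + 1) % 4 = 3 := by
      rw [pow_succ, pow_mul, Nat.mul_mod, Nat.pow_mod]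
      norm_num
    rw [h]
    simp
  set CT := derT (twistedG2 K e) with hCT
  have hM : ∀ g ∈ twistedG2 K e, ∀ x ∈ CT, g * x * g⁻¹ ∈ CT := fun g hg x hx => conj_mem_derT hg hx
  -- a generator of the multiplicative group
  obtain ⟨y, hy⟩ := IsCyclic.exists_generator (α := Kˣ)
  have hord : orderOf y = 3 ^ (2 * m + 1) - 1 := by
    rw [orderOf_eq_card_of_forall_mem_zpowers hy, Nat.card_eq_fintype_card, Fintype.card_units, hK]
  have he3 : 3 ≤ e := by
    rw [he]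
    calc 3 = 3 ^ 1 := by norm_num
      _ ≤ 3 ^ m := Nat.pow_le_pow_right (by norm_num) hm
  have hq : 3 ^ (2 * m + 1) = 3 * e ^ 2 := by
    rw [he, ← pow_mul, pow_succ, mul_comm (m) 2, mul_comm]
  have hlarge : ∀ n : ℕ, 0 < n → n ≤ 3 * e + 2 → (y : K) ^ n ≠ 1 := by
    intro n h0 h1 h2
    have h3 : y ^ n = 1 := Units.ext (by simpa using h2)
    have h4 := Nat.le_of_dvd h0 (orderOf_dvd_of_pow_eq_one h3)
    rw [hord, hq] at h4
    have : 3 * e + 3 < 3 * e ^ 2 := by nlinarith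
    omega
  obtain ⟨k, hk, d, hd, hdb⟩ := g2_surj hperf φ hφ2 Dt hJ he0 hm1 j y
  obtain ⟨hkH, hkT⟩ := Subgroup.mem_inf.1 hk
  have hda : d g2A' = φ (y : K) := by
    rw [g2_chars_fixed hperf φ hkH (Dt.T_fix k hkT) hd, hdb]
  have hφy : φ (φ (y : K)) ^ 3 = y := hφ2 y
  -- the additive parts
  have hconjA : ∀ u v : K, k * g2A (φ u) (φ v) u v * k⁻¹ = g2A (φ ((y : K) * φ (y : K) ^ 3 * u)) (φ ((y : K) ^ 2 * φ (y : K) ^ 3 * v)) ((y : K) * φ (y : K) ^ 3 * u) ((y : K) ^ 2 * φ (y : K) ^ 3 * v) := by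
    intro u v
    rw [g2_conj_A hkH hd, hda, hdb]
    simp only [map_mul, map_pow, hφy]
    congr 1 <;> ring
  have hc1 : (y : K) * φ (y : K) ^ 3 ≠ 1 := by
    have e1 : (y : K) * φ (y : K) ^ 3 = (y : K) ^ (3 * e + 1) := by
      rw [hφ]
      ring
    rw [e1]
    exact hlarge _ (by omega) (by omega)
  have hc2 : (y : K) ^ 2 * φ (y : K) ^ 3 ≠ 1 := by
    have e1 : (y : K) ^ 2 * φ (y : K) ^ 3 = (y : K) ^ (3 * e + 2) := by
      rw [hφ]
      ring
    rw [e1]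
    exact hlarge _ (by omega) (by omega)
  have hA1 : ∀ u : K, g2A (φ u) (φ 0) u 0 ∈ CT := by
    refine add_step (Y := fun u => g2A (φ u) (φ 0) u 0) ?_ (fun u => g2_A_mem φ hφ u 0) hkT hc1 ?_
    · intro s t
      rw [g2A_mul]
      simp
    · intro u
      rw [hconjA]
      simp
  have hA2 : ∀ v : K, g2A (φ 0) (φ v) 0 v ∈ CT := by
    refine add_step (Y := fun v => g2A (φ 0) (φ v) 0 v) ?_ (fun v => g2_A_mem φ hφ 0 v) hkT hc2 ?_
    · intro s t
      rw [g2A_mul]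
      simp
    · intro v
      rw [hconjA]
      simp
  have hA : ∀ u v : K, g2A (φ u) (φ v) u v ∈ CT := by
    intro u v
    have e1 : g2A (φ u) (φ v) u v = g2A (φ u) (φ 0) u 0 * g2A (φ 0) (φ v) 0 v := by
      rw [g2A_mul]
      simp
    rw [e1]
    exact mul_mem (hA1 u) (hA2 v)
  -- the elements with parameter `t`
  set α : K → GL chevG2.Idx K := fun t => g2N t (φ t) 0 0 (t * (φ t) ^ 3) (t ^ 2 * (φ t) ^ 3) with hα
  have hαT : ∀ t, α t ∈ twistedG2 K e := by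
    intro t
    have h := g2_mem_T φ hφ t 0 0
    simpa [hα] using h
  have hαU : ∀ t u v : K, g2N t (φ t) (φ u) (φ v) (t * (φ t) ^ 3 + u) (t ^ 2 * (φ t) ^ 3 + v) = X g2b t * (X g2a (φ t) * g2A (φ u) (φ v) (t * (φ t) ^ 3 + u) (t ^ 2 * (φ t) ^ 3 + v)) := by
    intro t u v
    unfold g2N
    rw [mul_assoc]
  have hconjα : ∀ t, k * α t * k⁻¹ = α ((y : K) * t) := by
    intro t
    simp only [hα]
    rw [g2_conj_N hkH hd, hda, hdb]
    have a5 : φ (y : K) ^ 3 * (y : K) * (t * φ t ^ 3) = ((y : K) * t) * φ ((y : K) * t) ^ 3 := by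
      rw [map_mul]
      ring
    have a6 : φ (y : K) ^ 3 * (y : K) ^ 2 * (t ^ 2 * φ t ^ 3) = ((y : K) * t) ^ 2 * φ ((y : K) * t) ^ 3 := by
      rw [map_mul]
      ring
    rw [a5, a6]
    simp only [map_mul, mul_zero]
  have hy1 : (y : K) - 1 ≠ 0 := by
    intro h0
    have h1 := hlarge 1 (by omega) (by omega)
    apply h1
    rw [pow_one]
    exact sub_eq_zero.1 h0
  have hαCT : ∀ t, α t ∈ CT := by
    intro s
    set t := s / ((y : K) - 1) with ht
    have h1 : k * α t * k⁻¹ * (α t)⁻¹ ∈ CT := comm_mem_derT hkT (hαT t)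
    have h2 : α ((y : K) * t) * (α t)⁻¹ ∈ CT := by
      rwa [hconjα] at h1
    have hUα : ∀ t, α t ∈ chevG2.posUnipotent K := by
      intro t
      have h5 := (g2_mem_U hperf φ hφ2 hφ (g := α t)).2 ⟨t, 0, 0, by
        rw [g2_word_eq φ hφ]
        simp [hα]⟩
      exact (Subgroup.mem_inf.1 h5).1
    have h3 : α ((y : K) * t) * (α t)⁻¹ ∈ chevG2.posUnipotent K ⊓ twistedG2 K e :=
      Subgroup.mem_inf.2 ⟨mul_mem (hUα _) (inv_mem (hUα _)), mul_mem (hαT _) (inv_mem (hαT _))⟩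
    obtain ⟨s', u, v, h4⟩ := (g2_mem_U hperf φ hφ2 hφ).1 h3
    rw [g2_word_eq φ hφ] at h4
    have hαsplit : ∀ t, α t = X g2b t * (X g2a (φ t) * g2A 0 0 (t * φ t ^ 3) (t ^ 2 * φ t ^ 3)) := by
      intro t
      simp only [hα]
      unfold g2N
      rw [mul_assoc]
    have h6 : X g2b s' * (X g2a (φ s') * g2A (φ u) (φ v) (s' * (φ s') ^ 3 + u) (s' ^ 2 * (φ s') ^ 3 + v)) =
        (X g2b ((y : K) * t) * (X g2a (φ ((y : K) * t)) * g2A 0 0 (((y : K) * t) * φ ((y : K) * t) ^ 3) (((y : K) * t) ^ 2 * φ ((y : K) * t) ^ 3))) *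
          (X g2b t * (X g2a (φ t) * g2A 0 0 (t * φ t ^ 3) (t ^ 2 * φ t ^ 3)))⁻¹ := by
      rw [← hαU, ← hαsplit, ← hαsplit]
      exact h4.symm
    have h5 : s' = (y : K) * t - t := g2_coset (g2_N_Uk _ _ _ _ _) (g2_N_Uk _ _ _ _ _) (g2_N_Uk _ _ _ _ _) h6
    have h7 : s' = s := by
      rw [h5, ht]
      field_simp
    rw [h7] at h4
    have h8 : α s = α ((y : K) * t) * (α t)⁻¹ * (g2A (φ u) (φ v) u v)⁻¹ := by
      rw [h4, g2_N_fact φ hφ]
      simp [hα]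
    rw [h8]
    exact mul_mem h2 (inv_mem (hA u v))
  have hUCT : ∀ g ∈ chevG2.posUnipotent K, g ∈ twistedG2 K e → g ∈ CT := by
    intro g hg hgT
    obtain ⟨t, u, v, rfl⟩ := (g2_mem_U hperf φ hφ2 hφ).1 (Subgroup.mem_inf.2 ⟨hg, hgT⟩)
    rw [g2_word_eq φ hφ, g2_N_fact φ hφ]
    exact mul_mem (hαCT t) (hA u v)
  apply perfect_of_le
  apply TG2.good.gen_le
  rintro w ⟨t, u, v, rfl | rfl⟩
  · have h1 : TG2.good.wordG (reeWordU e t u v) ∈ chevG2.posUnipotent K ⊓ twistedG2 K e :=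
      (g2_mem_U hperf φ hφ2 hφ).2 ⟨t, u, v, rfl⟩
    exact hUCT _ (Subgroup.mem_inf.1 h1).1 (Subgroup.mem_inf.1 h1).2
  · refine Dt.neg_mem TG2.extra TG2.braid j hM hUCT ?_ (TG2.good.wordG_mem_gen ⟨t, u, v, Or.inr rfl⟩)
    refine g2_word_Xm (fun r => ?_) _ ?_
    · rw [hJ]
      classical
      unfold lamJ
      apply Finset.sum_eq_zero
      intro k _
      rw [if_pos]
      have : ∀ k < chevG2.rank, k ∈ [0, 1] := by decide +kernel
      exact this k k.2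
    · intro p hp
      simp only [reeWordV, ChevalleyDatum.negWord, reeWordU, List.map_cons, List.map_nil, List.mem_cons, List.not_mem_nil, or_false] at hp
      rcases hp with rfl | rfl | rfl | rfl | rfl | rfl
      all_goals
        dsimp only
        decide +kernel

end G2

end CfsgLib.Chev
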