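/-
Simplicity of twisted groups from perfectness.
-/
import Cfsg.Agent.Lib.Tw.PerfT
import Cfsg.Agent.S0319

set_option autoImplicit false

namespace CfsgLib.Chev

open Cfsg.Lie Cfsg.Lie.ChevalleyDatum CfsgLib.BN

section gen

variable {D : ChevalleyDatum} {C : Cert} {hG : Good D C} {K : Type*} [Field K] {A : TwAct hG K} {T : Subgroup (GL D.Idx K)}

/-- The twisted group is simple, given perfectness and connectivity of the diagram. -/
theorem TwData.simple_of (Dt : TwData A T) (hE : Extra D C) (hB : Braid D C) {k : ℕ} (e' : Dt.ι ≃ Fin k) (dig : Fin k → ℕ → ℕ)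
    (hgen : ∀ j r (hr : r < D.nroots), ((Dt.τw hE hB j) ⟨r, hr⟩).val = dig (e' j) r)
    (hconn : ∀ P : Fin k → Bool, (∀ i j, (∃ r, r < D.nroots ∧ dig i (dig j r) ≠ dig j (dig i r)) → P i = P j) → ∀ i j, P i = P j)
    (hperf : commutator ↥T = ⊤)
    (hcore : ((D.borelSubgroup K ⊓ T).subgroupOf T).normalCore = ⊥) :
    IsSimpleGroup ↥T ∧ ¬ IsMulCommutative ↥T := by
  classical
  obtain ⟨j0, -⟩ := Dt.J_cover 0 hE.rank_pos
  obtain ⟨y, hy, hys, hy1⟩ := Dt.Y_ne j0
  have hyT := Dt.Y_T j0 y hy hys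
  have hne : (⟨y, hyT⟩ : ↥T) ≠ 1 := fun e => hy1 (congrArg Subtype.val e)
  haveI hnt : Nontrivial ↥T := ⟨⟨_, _, hne⟩⟩
  constructor
  · obtain ⟨Q, hQB, hQN, hQS⟩ := Dt.exists_bnpair hE hB
    refine Cfsg.Agent.S0319.result Q ?_ ?_ hperf ?_
    · intro J hJ hJ1 hJ2
      by_contra hcon
      push Not at hcon
      let toT : Fin k → ↥T := fun i => ⟨Dt.w hE hB (e'.symm i), Dt.w_T hE hB _⟩
      have htoS : ∀ i, toT i ∈ Q.S := by
        intro i
        rw [hQS]
        exact ⟨_, rfl⟩
      have hfromS : ∀ x ∈ Q.S, ∃ i, x = toT i := by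
        intro x hx
        rw [hQS] at hx
        obtain ⟨j, hj⟩ := hx
        refine ⟨e' j, Subtype.ext ?_⟩
        show (x : GL D.Idx K) = Dt.w hE hB (e'.symm (e' j))
        rw [e'.symm_apply_apply, hj]
      have key1 : ∀ a b, (∃ r, r < D.nroots ∧ dig a (dig b r) ≠ dig b (dig a r)) → toT a ∈ J → toT b ∈ J := by
        rintro a b ⟨r, hr, hne⟩ haJ
        by_contra hbJ
        have h1 := hcon _ haJ _ ⟨htoS b, hbJ⟩
        rw [hQB, Subgroup.mem_subgroupOf] at h1
        apply hne
        have h2 := (Subgroup.mem_inf.1 h1).1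
        have hma := Dt.w_mono hE hB (e'.symm a)
        have hmb := Dt.w_mono hE hB (e'.symm b)
        have h3 : ((toT a * toT b * (toT a)⁻¹ * (toT b)⁻¹ : ↥T) : GL D.Idx K) ∈ D.monomialSubgroup K :=
          mul_mem (mul_mem (mul_mem (Dt.w_N hE hB _) (Dt.w_N hE hB _)) (inv_mem (Dt.w_N hE hB _))) (inv_mem (Dt.w_N hE hB _))
        have h4 := Subgroup.mem_inf.2 ⟨h2, h3⟩
        rw [hE.borel_inf_monomial hG hB] at h4
        obtain ⟨c, hc, hcc⟩ := hE.diagonal_prod hG h4
        have hm := hE.isMono_prodH hG hc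
        rw [← hcc] at hm
        have h5 := hm.perm_unique (((hma.mul hmb).mul hma.inv).mul hmb.inv)
        have h6 : Dt.τw hE hB (e'.symm a) * Dt.τw hE hB (e'.symm b) = Dt.τw hE hB (e'.symm b) * Dt.τw hE hB (e'.symm a) := by
          have h7 := Dt.τw_sq hE hB (e'.symm a)
          have h8 := Dt.τw_sq hE hB (e'.symm b)
          have i1 : (Dt.τw hE hB (e'.symm a))⁻¹ = Dt.τw hE hB (e'.symm a) := inv_eq_of_mul_eq_one_left h7
          have i2 : (Dt.τw hE hB (e'.symm b))⁻¹ = Dt.τw hE hB (e'.symm b) := inv_eq_of_mul_eq_one_left h8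
          rw [i1, i2] at h5
          have h9 : Dt.τw hE hB (e'.symm a) * Dt.τw hE hB (e'.symm b) * (Dt.τw hE hB (e'.symm a) * Dt.τw hE hB (e'.symm b)) = 1 := by
            rw [← mul_assoc]
            exact h5.symm
          have h11 := eq_inv_of_mul_eq_one_left h9
          rwa [mul_inv_rev, i1, i2] at h11
        have h10 := congrArg (fun τ : Equiv.Perm (Fin D.nroots) => (τ ⟨r, hr⟩).val) h6
        simp only [Equiv.Perm.mul_apply] at h10
        have ea : ∀ s (hs : s < D.nroots), ((Dt.τw hE hB (e'.symm a)) ⟨s, hs⟩).val = dig a s := fun s hs => by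
          rw [hgen, e'.apply_symm_apply]
        have eb : ∀ s (hs : s < D.nroots), ((Dt.τw hE hB (e'.symm b)) ⟨s, hs⟩).val = dig b s := fun s hs => by
          rw [hgen, e'.apply_symm_apply]
        have e1 : (Dt.τw hE hB (e'.symm b)) ⟨r, hr⟩ = ⟨dig b r, (eb r hr) ▸ Fin.is_lt _⟩ := Fin.ext (eb r hr)
        have e2 : (Dt.τw hE hB (e'.symm a)) ⟨r, hr⟩ = ⟨dig a r, (ea r hr) ▸ Fin.is_lt _⟩ := Fin.ext (ea r hr)
        rw [e1, e2, ea, eb] at h10
        exact h10
      let P : Fin k → Bool := fun i => decide (toT i ∈ J)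
      have hP : ∀ i j, (∃ r, r < D.nroots ∧ dig i (dig j r) ≠ dig j (dig i r)) → P i = P j := by
        intro i j h
        have h' : ∃ r, r < D.nroots ∧ dig j (dig i r) ≠ dig i (dig j r) := by
          obtain ⟨r, hr, hne⟩ := h
          exact ⟨r, hr, hne.symm⟩
        simp only [P, decide_eq_decide]
        exact ⟨key1 i j h, key1 j i h'⟩
      have hall := hconn P hP
      obtain ⟨s, hs⟩ := hJ1
      obtain ⟨s', hs', hs2⟩ := hJ2
      obtain ⟨a, rfl⟩ := hfromS s (hJ hs)
      obtain ⟨b, rfl⟩ := hfromS s' hs'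
      have := hall a b
      simp only [P, decide_eq_decide] at this
      exact hs2 (this.1 hs)
    · rw [hQB]
      haveI := hE.borel_solvable hG (F := K)
      let f : ↥((D.borelSubgroup K ⊓ T).subgroupOf T) →* ↥(D.borelSubgroup K) :=
        { toFun := fun x => ⟨x.1.1, (Subgroup.mem_inf.1 (Subgroup.mem_subgroupOf.1 x.2)).1⟩
          map_one' := rfl
          map_mul' := fun _ _ => rfl }
      exact solvable_of_solvable_injective (f := f) (fun a b h => Subtype.ext (Subtype.ext (congrArg (fun x : ↥(D.borelSubgroup K) => x.1) h)))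
    · rw [hQB]
      exact hcore
  · intro hc
    have h1 : commutator ↥T = ⊥ := by
      unfold commutator
      rw [Subgroup.commutator_eq_bot_iff_le_centralizer]
      intro x _
      rw [Subgroup.mem_centralizer_iff]
      intro y _
      exact hc.is_comm.comm y x
    rw [h1] at hperf
    exact bot_ne_top hperf

end gen

end CfsgLib.Chev
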