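/-
Permutations of at most 128 points coded by natural numbers, for kernel computations.
-/
import Mathlib

set_option autoImplicit false

namespace CfsgLib.PC

/-- A digit of a code. -/
def dg (c r : ℕ) : ℕ := c / 128 ^ r % 128

/-- The code of a function. -/
def enc (f : ℕ → ℕ) (n : ℕ) : ℕ := Nat.rec 0 (fun m ih => ih + f m * 128 ^ m) n

lemma enc_zero (f : ℕ → ℕ) : enc f 0 = 0 := rfl
lemma enc_succ (f : ℕ → ℕ) (n : ℕ) : enc f (n + 1) = enc f n + f n * 128 ^ n := rfl

lemma dg_lt (c r : ℕ) : dg c r < 128 := Nat.mod_lt _ (by norm_num)

lemma enc_lt {f : ℕ → ℕ} (hf : ∀ x, f x < 128) (n : ℕ) : enc f n < 128 ^ n := by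
  induction n with
  | zero => simp [enc_zero]
  | succ n ih =>
    rw [enc_succ, pow_succ]
    have h1 : f n * 128 ^ n ≤ 127 * 128 ^ n := Nat.mul_le_mul_right _ (by have := hf n; omega)
    nlinarith

lemma dg_enc {f : ℕ → ℕ} (hf : ∀ x, f x < 128) (n r : ℕ) (hr : r < n) : dg (enc f n) r = f r := by
  induction n with
  | zero => omega
  | succ n ih =>
    rw [enc_succ]
    have hlt := enc_lt hf n
    unfold dg
    rcases Nat.lt_succ_iff_lt_or_eq.1 hr with h | rfl
    · obtain ⟨k, rfl⟩ : ∃ k, n = r + (k + 1) := ⟨n - r - 1, by omega⟩
      have e : f (r + (k + 1)) * 128 ^ (r + (k + 1)) = 128 ^ r * (f (r + (k + 1)) * 128 ^ k * 128) := by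
        rw [pow_add, pow_succ]
        ring
      rw [e, Nat.add_mul_div_left _ _ (by positivity), Nat.add_mul_mod_self_right]
      exact ih h
    · rw [add_comm, Nat.add_div_of_dvd_right (Dvd.intro_left _ rfl), Nat.mul_div_cancel _ (by positivity),
        Nat.div_eq_of_lt hlt, add_zero]
      exact Nat.mod_eq_of_lt (hf _)

lemma eq_of_dg {n c c' : ℕ} (hc : c < 128 ^ n) (hc' : c' < 128 ^ n) (h : ∀ r < n, dg c r = dg c' r) : c = c' := by
  induction n generalizing c c' with
  | zero =>
    simp only [pow_zero] at hc hc'
    omega
  | succ n ih =>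
    have h0 : c % 128 = c' % 128 := by
      have := h 0 (by omega)
      simpa [dg] using this
    have h1 : c / 128 = c' / 128 := by
      apply ih
      · rw [pow_succ] at hc
        exact Nat.div_lt_of_lt_mul (by linarith)
      · rw [pow_succ] at hc'
        exact Nat.div_lt_of_lt_mul (by linarith)
      · intro r hr
        have := h (r + 1) (by omega)
        unfold dg at this ⊢
        rw [pow_succ, mul_comm, ← Nat.div_div_eq_div_mul, ← Nat.div_div_eq_div_mul] at this
        exact this
    have e1 := Nat.div_add_mod c 128
    have e2 := Nat.div_add_mod c' 128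
    rw [h0, h1] at e1
    omega

/-- The composition of codes. -/
def nxt (n g c : ℕ) : ℕ := enc (fun r => dg c (dg g r)) n

lemma dg_nxt {n g c r : ℕ} (hr : r < n) : dg (nxt n g c) r = dg c (dg g r) :=
  dg_enc (fun _ => dg_lt _ _) n r hr

/-- Trees of numbers. -/
inductive NT where
  | lf : NT
  | nd (l : NT) (x : ℕ) (r : NT) : NT

/-- The numbers in a tree. -/
def NT.list : NT → List ℕ
  | .lf => []
  | .nd l x r => l.list ++ x :: r.list

/-- Search in a tree. -/
def NT.has (y : ℕ) : NT → Bool
  | .lf => false
  | .nd l x r => if Nat.blt y x then l.has y else if Nat.beq y x then true else r.has y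

lemma NT.mem_of_has {y : ℕ} {t : NT} (h : t.has y = true) : y ∈ t.list := by
  induction t with
  | lf => simp [NT.has] at h
  | nd l x r ihl ihr =>
    simp only [NT.list, List.mem_append, List.mem_cons]
    simp only [NT.has] at h
    split_ifs at h with h1 h2
    · exact Or.inl (ihl h)
    · exact Or.inr (Or.inl (Nat.eq_of_beq_eq_true h2))
    · exact Or.inr (Or.inr (ihr h))

/-- Strictly increasing lists. -/
def incr : List ℕ → Bool
  | [] => true
  | a :: l => match l with
    | [] => true
    | b :: _ => Nat.blt a b && incr l

lemma pairwise_of_incr {l : List ℕ} (h : incr l = true) : l.Pairwise (· < ·) := by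
  induction l with
  | nil => exact List.Pairwise.nil
  | cons a l ih =>
    cases l with
    | nil => exact List.pairwise_singleton _ _
    | cons b l =>
      simp only [incr, Bool.and_eq_true] at h
      have h1 : a < b := by
        have := h.1
        simpa [Nat.blt_eq] using this
      have h2 := ih h.2
      refine List.Pairwise.cons ?_ h2
      intro c hc
      rcases List.mem_cons.1 hc with rfl | hc'
      · exact h1
      · exact h1.trans (List.rel_of_pairwise_cons h2 hc')

/-- The sum of powers in terms of multiplicities. -/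
lemma sum_pow_count (L : List ℕ) (x b : ℕ) (h : ∀ a ∈ L, a < b) :
    (L.map fun k => x ^ k).sum = ∑ k ∈ Finset.range b, L.count k * x ^ k := by
  induction L with
  | nil => simp
  | cons a L ih =>
    have ha := h a (by simp)
    rw [List.map_cons, List.sum_cons, ih fun c hc => h c (by simp [hc])]
    have e : ∀ k, (a :: L).count k * x ^ k = L.count k * x ^ k + if k = a then x ^ k else 0 := by
      intro k
      rw [List.count_cons]
      by_cases hk : k = a
      · subst hk
        simp [add_mul]
      · have : ¬ (a == k) = true := by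
          simpa using Ne.symm hk
        simp [hk, this]
    simp only [e, Finset.sum_add_distrib, Finset.sum_ite_eq', Finset.mem_range, ha, if_true]
    ring

end CfsgLib.PC
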